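import Groth.Agent.ConsEngine.Finite
import Groth.Agent.FpqcDescent.Immersion
import Groth.Agent.LimDesc.DescendClosed

/-!
Constructibility of: immersion.
-/

set_option autoImplicit false
set_option linter.style.haveILetI false
set_option linter.unusedVariables false
universe u
open CategoryTheory CategoryTheory.Limits AlgebraicGeometry

namespace Groth.Agent.ConsEngine

theorem stageMap_of_data {I : Type u} [SmallCategory I] {D : I ⥤ Scheme.{u}} {i₀ : I} {X₀ Y₀ : Scheme.{u}}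
    {f₀ : X₀ ⟶ Y₀} {g₀ : Y₀ ⟶ D.obj i₀} (R : MorphismProperty Scheme.{u}) [R.RespectsIso] {i : I} {φ : i ⟶ i₀}
    {Xi Yi : Scheme.{u}} {fi : Xi ⟶ Yi} {gi : Yi ⟶ D.obj i} {pY : Yi ⟶ Y₀} {pX : Xi ⟶ X₀}
    (hY : IsPullback pY gi g₀ (D.map φ)) (hX : IsPullback pX fi f₀ pY) (h : R fi) :
    R (LimDesc.stageMap D g₀ f₀ (Over.mk φ)) := by
  let e := hY.isoIsPullback _ _ (LimDesc.isPullback_stage D g₀ (Over.mk φ))
  have hX' : IsPullback pX (fi ≫ e.hom) f₀ (LimDesc.toBase D g₀ (Over.mk φ)) := by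
    refine IsPullback.of_iso hX (Iso.refl _) (Iso.refl _) e (Iso.refl _) (by simp) (by simp) (by simp) ?_
    simp only [Iso.refl_hom, Category.comp_id, e, IsPullback.isoIsPullback_hom_fst]
  let e' := hX'.isoIsPullback _ _ (LimDesc.isPullback_stageMap D g₀ f₀ (Over.mk φ))
  have he : e'.inv ≫ fi ≫ e.hom = LimDesc.stageMap D g₀ f₀ (Over.mk φ) := hX'.isoIsPullback_inv_snd _ _ _
  rw [← he]
  exact MorphismProperty.RespectsIso.precomp R _ _ (MorphismProperty.RespectsIso.postcomp R _ _ h)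

theorem spreadsOut_isImmersion : SpreadsOut.{u} (@IsImmersion ⊓ @QuasiCompact : MorphismProperty Scheme.{u}) := by
  intro I _ _ D _ c hc i₀ _ X₀ Y₀ f₀ g₀ _ _ _ _ _ _ X Y f g qY qX hY hX hf
  haveI := hf.1
  obtain ⟨i, φ, Xi, Yi, fi, gi, pY, pX, h1, h2, h3⟩ := LimDesc.exists_isImmersion D c hc f₀ g₀ hY hX
  exact ⟨Over.mk φ, stageMap_of_data @IsImmersion h1 h2 h3,
    haveI : QuasiCompact f₀ := QuasiCompact.of_comp f₀ g₀
    MorphismProperty.of_isPullback (P := @QuasiCompact) (LimDesc.isPullback_stageMap D g₀ f₀ (Over.mk φ)) ‹_›⟩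

/-- locally closed criterion -/
theorem isLocallyClosed_iff_isClosed {Z : Type u} [TopologicalSpace Z] (E : Set Z) :
    IsLocallyClosed E ↔ IsClosed (closure E ∩ Eᶜ) := by
  constructor
  · rintro ⟨U, C, hU, hC, rfl⟩
    rw [show closure (U ∩ C) ∩ (U ∩ C)ᶜ = closure (U ∩ C) ∩ Uᶜ from ?_]
    · exact isClosed_closure.inter hU.isClosed_compl
    · ext z
      refine ⟨fun ⟨h1, h2⟩ => ⟨h1, fun hzU => h2 ⟨hzU, closure_minimal Set.inter_subset_right hC h1⟩⟩,
        fun ⟨h1, h2⟩ => ⟨h1, fun h => h2 h.1⟩⟩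
  · intro h
    refine ⟨(closure E ∩ Eᶜ)ᶜ, closure E, h.isOpen_compl, isClosed_closure, ?_⟩
    ext z
    exact ⟨fun hz => ⟨fun h' => h'.2 hz, subset_closure hz⟩, fun ⟨h1, h2⟩ => by_contra fun hz => h1 ⟨h2, hz⟩⟩

theorem isConsMor_isImmersion : ConsProp.IsConsMor.{u} (fun X Y T f g => IsImmersion f) := by
  refine IsConsMor.congr' (P := fun X Y T f g => (@IsImmersion ⊓ @QuasiCompact : MorphismProperty Scheme.{u}) f)
    ?_ fun f g _ _ _ _ _ _ => ⟨fun h => h.1, fun h => ⟨h, (qc_lft_of_comp f g).2⟩⟩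
  have hP := isFieldStableMor_of_descends.{u} (@IsImmersion ⊓ @QuasiCompact)
  refine ⟨hP, fun X Y S f g _ _ _ _ _ _ => ?_⟩
  by_cases hη : genericPoint S ∈ ConsProp.locusMor
      (fun X Y T f g => (@IsImmersion ⊓ @QuasiCompact : MorphismProperty Scheme.{u}) f) f g
  · exact Or.inl (interior_of_generic _ hP spreadsOut_isImmersion f g hη)
  right
  obtain ⟨_, _⟩ := qc_lft_of_comp f g
  haveI : IsLocallyNoetherian Y := LocallyOfFiniteType.isLocallyNoetherian g
  by_cases hmono : genericPoint S ∈ ConsProp.locusMor (fun X Y T f g => Mono f) f g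
  swap
  · exact ((isIndConsMor_not isConsMor_mono).2 f g hmono).mono
      (interior_mono fun s (hs : ¬ Mono (MoreMor.fiberMap f g s)) hf => hs (haveI := hf.1; inferInstance))
  -- shrink so that closures are computed fibrewise
  let E := Set.range f
  have hE : Topology.IsLocallyConstructible E := isLocallyConstructible_range f
  let C := closure E ∩ Eᶜ
  have hC : Topology.IsLocallyConstructible C := locallyConstructible_inter
    (isLocallyConstructible_of_isClosed isClosed_closure) (ConsTop.isLocallyConstructible_compl hE)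
  obtain ⟨V₁, hV₁, hcl₁⟩ := exists_closure_fibre_subset g E hE
  obtain ⟨V₂, hV₂, hcl₂⟩ := exists_closure_fibre_subset g C hC
  have hηV : genericPoint S ∈ V₁ ⊓ V₂ := by
    obtain ⟨a, ha⟩ := hV₁
    obtain ⟨b, hb⟩ := hV₂
    exact ⟨((genericPoint_spec S).specializes trivial).mem_open V₁.2 ha,
      ((genericPoint_spec S).specializes trivial).mem_open V₂.2 hb⟩
  have hclE : ∀ s ∈ V₁ ⊓ V₂, closure (Set.range (MoreMor.fiberMap f g s)) = g.fiberι s ⁻¹' closure E := by
    intro s hs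
    rw [closure_range_fiberMap]
    refine Set.Subset.antisymm (Set.preimage_mono (closure_mono Set.inter_subset_left)) fun p hp => ?_
    have hp' : g.fiberι s p ∈ g ⁻¹' {s} := by rw [← g.range_fiberι]; exact ⟨p, rfl⟩
    have hgp : g (g.fiberι s p) = s := hp'
    have := hcl₁ _ hp (by rw [hgp]; exact hs.1)
    rwa [hgp] at this
  have hCs : ∀ s ∈ V₁ ⊓ V₂, closure (g.fiberι s ⁻¹' C) = g.fiberι s ⁻¹' closure C := by
    intro s hs
    refine Set.Subset.antisymm (((g.fiberι s).continuous.closure_preimage_subset C)) fun p hp => ?_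
    rw [(g.fiberι s).isEmbedding.isInducing.closure_eq_preimage_closure_image, Set.image_preimage_eq_inter_range,
      g.range_fiberι]
    have hp' : g.fiberι s p ∈ g ⁻¹' {s} := by rw [← g.range_fiberι]; exact ⟨p, rfl⟩
    have hgp : g (g.fiberι s p) = s := hp'
    have := hcl₂ _ hp (by rw [hgp]; exact hs.2)
    rwa [hgp] at this
  have hlc : ∀ s ∈ V₁ ⊓ V₂, IsLocallyClosed (Set.range (MoreMor.fiberMap f g s)) ↔
      s ∉ g '' (closure C ∩ Cᶜ) := by
    intro s hs
    rw [isLocallyClosed_iff_isClosed, hclE s hs, range_fiberMap, ← Set.preimage_compl, ← Set.preimage_inter,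
      ← closure_subset_iff_isClosed]
    change closure (g.fiberι s ⁻¹' C) ⊆ g.fiberι s ⁻¹' C ↔ _
    rw [hCs s hs]
    refine ⟨fun h ⟨y, hy, hys⟩ => ?_, fun h p hp => by_contra fun hn => h ⟨_, ⟨hp, hn⟩, ?_⟩⟩
    · obtain ⟨p, rfl⟩ : y ∈ Set.range (g.fiberι s) := by rw [g.range_fiberι]; exact hys
      exact hy.2 (h hy.1)
    · have : g.fiberι s p ∈ g ⁻¹' {s} := by rw [← g.range_fiberι]; exact ⟨p, rfl⟩
      exact this
  have hlcImm : ∀ s, IsImmersion (MoreMor.fiberMap f g s) → IsLocallyClosed (Set.range (MoreMor.fiberMap f g s)) :=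
    fun s _ => (MoreMor.fiberMap f g s).isLocallyClosed_range
  by_cases hCη : genericPoint S ∈ g '' (closure C ∩ Cᶜ)
  · have hD : Topology.IsLocallyConstructible (g '' (closure C ∩ Cᶜ)) := by
      haveI := lfp_of_lft g
      exact g.isLocallyConstructible_image (locallyConstructible_inter
        (isLocallyConstructible_of_isClosed isClosed_closure) (ConsTop.isLocallyConstructible_compl hC))
    obtain ⟨z, hz⟩ := interior_nonempty_of_indCons (indCons_of_isLocallyConstructible hD).1 hCη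
    refine ⟨genericPoint S, mem_interior.mpr ⟨interior (g '' (closure C ∩ Cᶜ)) ∩ (V₁ ⊓ V₂ : S.Opens),
      fun s hs hf => ((hlc s hs.2).mp (hlcImm s hf.1)) (interior_subset hs.1),
      isOpen_interior.inter (V₁ ⊓ V₂).2,
      ((genericPoint_spec S).specializes trivial).mem_open isOpen_interior hz, hηV⟩⟩
  let U : Y.Opens := ⟨(closure C)ᶜ, isClosed_closure.isOpen_compl⟩
  let eY : ∀ s, (g.fiberι s ⁻¹ᵁ U).toScheme ⟶ U.toScheme := fun s => g.fiberι s ∣_ U
  have hY : ∀ s, IsPullback (eY s) ((g.fiberι s ⁻¹ᵁ U).ι ≫ g.fiberToSpecResidueField s) (U.ι ≫ g)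
      (S.fromSpecResidueField s) := fun s =>
    (isPullback_morphismRestrict (g.fiberι s) U).paste_vert (isPullback_fiber g s)
  have hX : ∀ s, ∃ eX, IsPullback eX (MoreMor.fiberMap f g s ∣_ (g.fiberι s ⁻¹ᵁ U)) (f ∣_ U) (eY s) := by
    intro s
    have big : IsPullback ((MoreMor.fiberMap f g s ⁻¹ᵁ (g.fiberι s ⁻¹ᵁ U)).ι ≫ (f ≫ g).fiberι s)
        (MoreMor.fiberMap f g s ∣_ (g.fiberι s ⁻¹ᵁ U)) f (eY s ≫ U.ι) := by
      rw [morphismRestrict_ι]
      exact (isPullback_morphismRestrict _ _).flip.paste_horiz (isPullback_fiberMap f g s)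
    refine ⟨(isPullback_morphismRestrict f U).flip.lift _ (MoreMor.fiberMap f g s ∣_ (g.fiberι s ⁻¹ᵁ U) ≫ eY s)
      (by rw [big.w, Category.assoc]), IsPullback.of_right ?_ (IsPullback.lift_snd _ _ _ _) (isPullback_morphismRestrict f U).flip⟩
    rw [IsPullback.lift_fst]
    exact big
  haveI : IsLocallyNoetherian U.toScheme := isLocallyNoetherian_of_isOpenImmersion U.ι
  haveI : QuasiCompact (U.ι ≫ g) := inferInstance
  haveI : QuasiCompact ((f ∣_ U) ≫ U.ι ≫ g) := inferInstance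
  haveI : LocallyOfFiniteType (U.ι ≫ g) := inferInstance
  haveI : LocallyOfFiniteType ((f ∣_ U) ≫ U.ι ≫ g) := inferInstance
  have hloc : ∀ s, s ∈ ConsProp.locusMor (fun X Y T f g => IsFinite f) (f ∣_ U) (U.ι ≫ g) ↔
      IsFinite (MoreMor.fiberMap f g s ∣_ (g.fiberι s ⁻¹ᵁ U)) := fun s => by
    obtain ⟨eX, he⟩ := hX s
    exact (iff_mem_locusMor isConsMor_isFinite.1 (P := fun X Y T f g => IsFinite f) (hY s) he).symm
  have hclosed : ∀ s ∈ V₁ ⊓ V₂, IsImmersion (MoreMor.fiberMap f g s) →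
      IsFinite (MoreMor.fiberMap f g s ∣_ (g.fiberι s ⁻¹ᵁ U)) := by
    intro s hs hi
    haveI := hi
    haveI : IsImmersion (MoreMor.fiberMap f g s ∣_ (g.fiberι s ⁻¹ᵁ U)) :=
      MorphismProperty.of_isPullback (P := @IsImmersion) (isPullback_morphismRestrict _ _).flip hi
    haveI : IsClosedImmersion (MoreMor.fiberMap f g s ∣_ (g.fiberι s ⁻¹ᵁ U)) := by
      refine .of_isPreimmersion _ ?_
      rw [range_of_isPullback (isPullback_morphismRestrict _ _).flip]
      have e : (g.fiberι s ⁻¹ᵁ U).ι ⁻¹' Set.range (MoreMor.fiberMap f g s) =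
          (g.fiberι s ⁻¹ᵁ U).ι ⁻¹' closure (Set.range (MoreMor.fiberMap f g s)) := by
        refine Set.Subset.antisymm (Set.preimage_mono subset_closure) fun z hz => ?_
        rw [Set.mem_preimage, hclE s hs] at hz
        rw [Set.mem_preimage, range_fiberMap]
        exact by_contra fun hn => (z.2 : g.fiberι s z.1 ∈ (closure C)ᶜ) (subset_closure ⟨hz, hn⟩)
      rw [e]
      exact isClosed_closure.preimage (Scheme.Hom.continuous _)
    infer_instance
  have hnf : genericPoint S ∉ ConsProp.locusMor (fun X Y T f g => IsFinite f) (f ∣_ U) (U.ι ≫ g) := by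
    rw [hloc]
    intro hfin
    haveI : Mono (MoreMor.fiberMap f g (genericPoint S)) := hmono
    haveI : Mono (MoreMor.fiberMap f g (genericPoint S) ∣_ (g.fiberι (genericPoint S) ⁻¹ᵁ U)) :=
      MorphismProperty.of_isPullback (P := MorphismProperty.monomorphisms Scheme.{u})
        (isPullback_morphismRestrict _ _).flip hmono
    haveI : IsClosedImmersion (MoreMor.fiberMap f g (genericPoint S) ∣_ (g.fiberι (genericPoint S) ⁻¹ᵁ U)) :=
      (IsClosedImmersion.iff_isFinite_and_mono _).mpr ⟨hfin, inferInstance⟩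
    refine hη ⟨?_, MorphismProperty.of_isPullback (P := @QuasiCompact) (isPullback_fiberMap f g _) ‹_›⟩
    have htop : MoreMor.fiberMap f g (genericPoint S) ⁻¹ᵁ (g.fiberι (genericPoint S) ⁻¹ᵁ U) = ⊤ := by
      refine TopologicalSpace.Opens.ext (Set.eq_univ_of_forall fun p hp => hCη ?_)
      refine ⟨g.fiberι _ (MoreMor.fiberMap f g (genericPoint S) p), ⟨hp, fun hC' => hC'.2 ?_⟩, ?_⟩
      · exact ⟨(f ≫ g).fiberι _ p, by rw [← Scheme.Hom.comp_apply, ← fiberMap_fiberι, Scheme.Hom.comp_apply]⟩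
      · have : g.fiberι _ (MoreMor.fiberMap f g (genericPoint S) p) ∈ g ⁻¹' {genericPoint S} := by
          rw [← g.range_fiberι]; exact ⟨_, rfl⟩
        exact this
    have : IsImmersion ((MoreMor.fiberMap f g (genericPoint S) ⁻¹ᵁ (g.fiberι (genericPoint S) ⁻¹ᵁ U)).ι ≫
        MoreMor.fiberMap f g (genericPoint S)) := by
      rw [← morphismRestrict_ι]; infer_instance
    rw [htop, ← Scheme.topIso_hom] at this
    exact (MorphismProperty.cancel_left_of_respectsIso @IsImmersion _ _).mp this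
  obtain ⟨z, hz⟩ := (isIndConsMor_not isConsMor_isFinite).2 _ _ hnf
  refine ⟨genericPoint S, mem_interior.mpr ⟨interior (ConsProp.locusMor (fun X Y T f g => ¬ IsFinite f) (f ∣_ U) (U.ι ≫ g)) ∩
    (V₁ ⊓ V₂ : S.Opens), fun s hs hf => ?_, isOpen_interior.inter (V₁ ⊓ V₂).2,
    ((genericPoint_spec S).specializes trivial).mem_open isOpen_interior hz, hηV⟩⟩
  have hs1 : ¬ s ∈ ConsProp.locusMor (fun X Y T f g => IsFinite f) (f ∣_ U) (U.ι ≫ g) := interior_subset hs.1
  exact hs1 ((hloc s).mpr (hclosed s hs.2 hf.1))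

end Groth.Agent.ConsEngine
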