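import Groth.Agent.ConsEngine.Range
import Groth.Agent.ConsEngine.Immersion
import Groth.Agent.LimModel.FgSubalgebra

/-!
Constructibility, over an arbitrary base, of fibrewise topological properties of constructible subsets.
-/

set_option autoImplicit false
set_option linter.style.haveILetI false
set_option linter.unusedSectionVars false
set_option linter.unusedVariables false
universe u
open CategoryTheory CategoryTheory.Limits AlgebraicGeometry Topology

namespace Groth.Agent.ConsEngine

/-- a topological relation between two subsets -/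
abbrev SetRel : Type (u + 1) := ∀ ⦃X : Type u⦄ [TopologicalSpace X], Set X → Set X → Prop

/-- insensitive to open continuous surjections -/
def SetRel.IsStable (Φ : SetRel.{u}) : Prop :=
  ∀ ⦃X X' : Type u⦄ [TopologicalSpace X] [TopologicalSpace X'] (e : X' → X), Continuous e → IsOpenMap e →
    Function.Surjective e → ∀ A B : Set X, (Φ (e ⁻¹' A) (e ⁻¹' B) ↔ Φ A B)

/-- the points of the base over which the relation holds in the fibre -/
def setLocus (Φ : SetRel.{u}) {X S : Scheme.{u}} (u : X ⟶ S) (A B : Set X) : Set S :=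
  {s | Φ (u.fiberι s ⁻¹' A) (u.fiberι s ⁻¹' B)}

theorem setLocus_preimage {Φ : SetRel.{u}} (hΦ : Φ.IsStable) {X X' S S' : Scheme.{u}} {u : X ⟶ S} {u' : X' ⟶ S'}
    {e : X' ⟶ X} {σ : S' ⟶ S} (h : IsPullback e u' u σ) (A B : Set X) :
    setLocus Φ u' (e ⁻¹' A) (e ⁻¹' B) = σ ⁻¹' setLocus Φ u A B := by
  ext s'
  have sq := isPullback_fiberBC h s'
  obtain ⟨hs, ho⟩ := open_surjective_of_square sq
  have key : ∀ E : Set X, u'.fiberι s' ⁻¹' (e ⁻¹' E) = fiberBC h s' ⁻¹' (u.fiberι (σ s') ⁻¹' E) := fun E => by
    ext p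
    simp only [Set.mem_preimage, ← Scheme.Hom.comp_apply, fiberBC_fiberι]
  show Φ _ _ ↔ Φ _ _
  rw [key, key]
  exact hΦ _ (Scheme.Hom.continuous _) ho (fiberBC h s').surjective _ _

theorem isLocallyConstructible_preimage {X Y : Scheme.{u}} (f : X ⟶ Y) {T : Set Y}
    (hT : IsLocallyConstructible T) : IsLocallyConstructible (f ⁻¹' T : Set X) :=
  isLocallyConstructible_of_indCons (indCons_preimage f (indCons_of_isLocallyConstructible hT).1)
    (indCons_preimage f (indCons_of_isLocallyConstructible hT).2)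

/-- constructible sets come from a stage -/
theorem exists_stage_eq_preimage {I : Type u} [SmallCategory I] [IsCofiltered I] (D : I ⥤ Scheme.{u})
    [∀ {i j} (f : i ⟶ j), IsAffineHom (D.map f)] [∀ i, CompactSpace (D.obj i)] [∀ i, QuasiSeparatedSpace (D.obj i)]
    (c : Cone D) (hc : IsLimit c) [QuasiSeparatedSpace c.pt] [CompactSpace c.pt] {E : Set c.pt}
    (hE : IsLocallyConstructible E) :
    ∃ (i : I) (E₀ : Set (D.obj i)), IsLocallyConstructible E₀ ∧ c.π.app i ⁻¹' E₀ = E := by
  have key : ∀ {i j : I} (a : i ⟶ j) (T : Set (D.obj j)),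
      c.π.app i ⁻¹' (D.map a ⁻¹' T) = c.π.app j ⁻¹' T := fun {i j} a T => by
    ext x
    simp only [Set.mem_preimage, ← Scheme.Hom.comp_apply]
    rw [c.w a]
  induction hE.isConstructible using IsConstructible.empty_union_induction with
  | open_retrocompact U hUo hUr =>
    obtain ⟨i, V, hV, hVU⟩ := exists_preimage_eq D c hc ⟨U, hUo⟩ (hUr.isCompact)
    exact ⟨i, V, (hV.isConstructible V.2).isLocallyConstructible, congrArg (fun W : c.pt.Opens => (W : Set c.pt)) hVU⟩
  | union s hs t ht ihs iht =>
    obtain ⟨i, A, hA, hA'⟩ := ihs hs.isLocallyConstructible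
    obtain ⟨j, B, hB, hB'⟩ := iht ht.isLocallyConstructible
    obtain ⟨k, a, b, -⟩ := IsCofilteredOrEmpty.cone_objs i j
    refine ⟨k, (D.map a ⁻¹' A : Set (D.obj k)) ∪ D.map b ⁻¹' B, ?_, ?_⟩
    · have := locallyConstructible_inter (ConsTop.isLocallyConstructible_compl (isLocallyConstructible_preimage (D.map a) hA))
        (ConsTop.isLocallyConstructible_compl (isLocallyConstructible_preimage (D.map b) hB))
      simpa only [Set.compl_inter, compl_compl] using ConsTop.isLocallyConstructible_compl this
    · rw [Set.preimage_union, key, key, hA', hB']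
  | compl s hs ihs =>
    obtain ⟨i, A, hA, hA'⟩ := ihs hs.isLocallyConstructible
    exact ⟨i, Aᶜ, ConsTop.isLocallyConstructible_compl hA, by rw [Set.preimage_compl, hA']⟩

/-- the dichotomy on integral noetherian bases -/
def SetRel.IsCons (Φ : SetRel.{u}) : Prop :=
  Φ.IsStable ∧ ∀ ⦃X S : Scheme.{u}⦄ (u : X ⟶ S) [IsIntegral S] [IsNoetherian S] [LocallyOfFiniteType u]
    [QuasiCompact u] (A B : Set X), IsLocallyConstructible A → IsLocallyConstructible B →
    (interior (setLocus Φ u A B)).Nonempty ∨ (interior (setLocus Φ u A B)ᶜ).Nonempty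

theorem isLocallyConstructible_setLocus_noetherian {Φ : SetRel.{u}} (hΦ : Φ.IsCons) {X S : Scheme.{u}} (u : X ⟶ S)
    [IsNoetherian S] [LocallyOfFiniteType u] [QuasiCompact u] {A B : Set X} (hA : IsLocallyConstructible A)
    (hB : IsLocallyConstructible B) : IsLocallyConstructible (setLocus Φ u A B) := by
  have key : ∀ (Z : Scheme.{u}) (i : Z ⟶ S) [IsClosedImmersion i] [IsIntegral Z],
      (interior (i ⁻¹' setLocus Φ u A B : Set Z)).Nonempty ∨ (interior (i ⁻¹' setLocus Φ u A B : Set Z)ᶜ).Nonempty := by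
    intro Z i _ _
    haveI : IsNoetherian Z :=
      { toIsLocallyNoetherian := LocallyOfFiniteType.isLocallyNoetherian i
        toCompactSpace := QuasiCompact.compactSpace_of_compactSpace i }
    rw [← setLocus_preimage hΦ.1 (IsPullback.of_hasPullback u i) A B]
    exact hΦ.2 _ _ _ (isLocallyConstructible_preimage _ hA) (isLocallyConstructible_preimage _ hB)
  refine isLocallyConstructible_of_indCons (indCons_of_closed_integral _ fun Z i _ _ hη => ?_)
    (indCons_of_closed_integral _ fun Z i _ _ hη => ?_)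
  · refine (key Z i).resolve_right fun ⟨z, hz⟩ => ?_
    exact interior_subset (((genericPoint_spec Z).specializes trivial).mem_open isOpen_interior hz) hη
  · refine (key Z i).resolve_left fun ⟨z, hz⟩ => hη ?_
    exact interior_subset (s := (i ⁻¹' setLocus Φ u A B : Set Z))
      (((genericPoint_spec Z).specializes trivial).mem_open isOpen_interior hz)

theorem isLocallyConstructible_setLocus {Φ : SetRel.{u}} (hΦ : Φ.IsCons) {X S : Scheme.{u}} (u : X ⟶ S)
    [LocallyOfFinitePresentation u] [QuasiCompact u] [QuasiSeparated u] {A B : Set X}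
    (hA : IsLocallyConstructible A) (hB : IsLocallyConstructible B) :
    IsLocallyConstructible (setLocus Φ u A B) := by
  have aff : ∀ (R : Type u) [CommRing R] {X : Scheme.{u}} (u : X ⟶ Spec (CommRingCat.of R))
      [LocallyOfFinitePresentation u] [QuasiCompact u] [QuasiSeparated u] {A B : Set X},
      IsLocallyConstructible A → IsLocallyConstructible B → IsLocallyConstructible (setLocus Φ u A B) := by
    intro R _ X u _ _ _ A B hA hB
    haveI : IsCofiltered (LimModel.FgSub R)ᵒᵖ := isCofiltered_op_of_isFiltered _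
    haveI : ∀ i : (LimModel.FgSub R)ᵒᵖ, CompactSpace ((LimModel.fgDiagram R).obj i) := fun i => inferInstance
    haveI : ∀ i : (LimModel.FgSub R)ᵒᵖ, QuasiSeparatedSpace ((LimModel.fgDiagram R).obj i) := fun i => inferInstance
    haveI : @LocallyOfFinitePresentation X (LimModel.fgCone R).pt u := ‹LocallyOfFinitePresentation u›
    haveI : @QuasiCompact X (LimModel.fgCone R).pt u := ‹QuasiCompact u›
    haveI : @QuasiSeparated X (LimModel.fgCone R).pt u := ‹QuasiSeparated u›
    obtain ⟨i, X₀, u₀, q, h1, h2, h3, hq⟩ := LimModel.exists_model (LimModel.fgDiagram R) (LimModel.fgCone R)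
      (LimModel.fgIsLimit R) (a := (u : X ⟶ (LimModel.fgCone R).pt))
    let T := LimDesc.tower (LimModel.fgDiagram R) u₀
    let t := LimDesc.towerCone (LimModel.fgDiagram R) u₀ (LimModel.fgCone R) hq
    have ht := LimDesc.isLimitTowerCone (LimModel.fgDiagram R) u₀ (LimModel.fgCone R) hq (LimModel.fgIsLimit R)
    haveI : CompactSpace X₀ := QuasiCompact.compactSpace_of_compactSpace u₀
    haveI : QuasiSeparatedSpace X₀ := quasiSeparatedSpace_of_quasiSeparated u₀
    haveI : ∀ {j k : Over i} (a : j ⟶ k), IsAffineHom (T.map a) :=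
      fun a => LimDesc.isAffineHom_tower_map _ u₀ a
    haveI : ∀ j, CompactSpace (T.obj j) := fun j => LimDesc.compactSpace_stage _ u₀ j
    haveI : ∀ j, QuasiSeparatedSpace (T.obj j) := fun j => LimDesc.quasiSeparatedSpace_stage _ u₀ j
    haveI : CompactSpace ↥(Spec (CommRingCat.of R)) := inferInstance
    haveI : CompactSpace X := QuasiCompact.compactSpace_of_compactSpace (Y := Spec (CommRingCat.of R)) u
    haveI : QuasiSeparatedSpace X :=
      quasiSeparatedSpace_of_quasiSeparated (Y := Spec (CommRingCat.of R)) u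
    haveI : CompactSpace t.pt := ‹CompactSpace X›
    haveI : QuasiSeparatedSpace t.pt := ‹QuasiSeparatedSpace X›
    obtain ⟨j, A₀, hA₀, eA⟩ := exists_stage_eq_preimage T t ht hA
    obtain ⟨j', B₀, hB₀, eB⟩ := exists_stage_eq_preimage T t ht hB
    obtain ⟨k, a, b, -⟩ := IsCofilteredOrEmpty.cone_objs j j'
    have hsq := LimDesc.isPullback_proj (LimModel.fgDiagram R) u₀ (LimModel.fgCone R) hq k
    have hn : IsNoetherianRing ↥(k.left.unop.1 : Subalgebra ℤ R) := by
      haveI : Algebra.FiniteType ℤ ↥(k.left.unop.1 : Subalgebra ℤ R) := (Subalgebra.fg_iff_finiteType _).mp k.left.unop.2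
      exact Algebra.FiniteType.isNoetherianRing ℤ _
    haveI hN : IsNoetherian ((LimModel.fgDiagram R).obj k.left) :=
      inferInstanceAs (IsNoetherian (Spec (CommRingCat.of ↥(k.left.unop.1 : Subalgebra ℤ R))))
    have h := isLocallyConstructible_preimage ((LimModel.fgCone R).π.app k.left)
      (isLocallyConstructible_setLocus_noetherian hΦ (LimDesc.toStage (LimModel.fgDiagram R) u₀ k)
        (isLocallyConstructible_preimage (T.map a) hA₀) (isLocallyConstructible_preimage (T.map b) hB₀))
    rw [← setLocus_preimage hΦ.1 hsq] at h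
    have key : ∀ {j : Over i} (a : k ⟶ j) (E : Set (T.obj j)),
        (LimDesc.proj (LimModel.fgDiagram R) u₀ (LimModel.fgCone R) hq k ⁻¹' (T.map a ⁻¹' E) : Set X) =
          t.π.app j ⁻¹' E := fun {j} a E => by
      ext x
      show (t.π.app k ≫ T.map a) (show X from x) ∈ E ↔ _
      rw [t.w a]
      rfl
    exact (congrArg IsLocallyConstructible
      (congrArg₂ (setLocus Φ u) ((key a A₀).trans eA) ((key b B₀).trans eB))).mp h
  have loc : ∀ W : S.affineOpens, IsLocallyConstructible (W.1.ι ⁻¹' setLocus Φ u A B : Set W.1.toScheme) := by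
    intro W
    let ψ : Spec Γ(S, W.1) ⟶ S := W.2.isoSpec.inv ≫ W.1.ι
    have h := aff _ (pullback.snd u ψ) (isLocallyConstructible_preimage (pullback.fst u ψ) hA)
      (isLocallyConstructible_preimage (pullback.fst u ψ) hB)
    rw [setLocus_preimage hΦ.1 (IsPullback.of_hasPullback u ψ)] at h
    convert isLocallyConstructible_preimage W.2.isoSpec.hom h using 1
    ext w
    simp [ψ, ← Scheme.Hom.comp_apply]
  exact IsLocallyConstructible.of_isOpenCover (U := fun W : S.affineOpens => W.1)
    (iSup_affineOpens_eq_top S) loc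

/-- `B` lies in the closure of `A` -/
def denseRel : SetRel.{u} := fun _ _ A B => B ⊆ closure A

/-- `A` is closed -/
def closedRel : SetRel.{u} := fun _ _ A _ => IsClosed A

/-- `A` is open -/
def openRel : SetRel.{u} := fun _ _ A _ => IsOpen A

/-- `A` is locally closed -/
def lcRel : SetRel.{u} := fun _ _ A _ => IsLocallyClosed A

section dichotomy

variable {X S : Scheme.{u}} (u : X ⟶ S) [IsIntegral S] [IsNoetherian S] [LocallyOfFiniteType u] [QuasiCompact u]

theorem exists_closure_fiber (A : Set X) (hA : IsLocallyConstructible A) :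
    ∃ V : S.Opens, (V : Set S).Nonempty ∧ ∀ s ∈ V, closure (u.fiberι s ⁻¹' A) = u.fiberι s ⁻¹' closure A := by
  obtain ⟨V, hV, hV'⟩ := exists_closure_fibre_subset u A hA
  refine ⟨V, hV, fun s hs => Set.Subset.antisymm ((u.fiberι s).continuous.closure_preimage_subset A) fun p hp => ?_⟩
  rw [(u.fiberι s).isEmbedding.isInducing.closure_eq_preimage_closure_image, Set.image_preimage_eq_inter_range,
    u.range_fiberι]
  have hp' : u.fiberι s p ∈ u ⁻¹' {s} := by rw [← u.range_fiberι]; exact ⟨p, rfl⟩
  have hgp : u (u.fiberι s p) = s := hp'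
  have := hV' _ hp (by rw [hgp]; exact hs)
  rwa [hgp] at this

theorem fiber_subset_iff (s : S) (A B : Set X) :
    u.fiberι s ⁻¹' A ⊆ u.fiberι s ⁻¹' B ↔ s ∉ u '' (A ∩ Bᶜ) := by
  refine ⟨fun h ⟨y, hy, hys⟩ => ?_, fun h p hp => by_contra fun hn => h ⟨_, ⟨hp, hn⟩, ?_⟩⟩
  · obtain ⟨p, rfl⟩ : y ∈ Set.range (u.fiberι s) := by rw [u.range_fiberι]; exact hys
    exact hy.2 (h hy.1)
  · have : u.fiberι s p ∈ u ⁻¹' {s} := by rw [← u.range_fiberι]; exact ⟨p, rfl⟩
    exact this

theorem isLocallyConstructible_image_diff (A B : Set X) (hA : IsLocallyConstructible A)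
    (hB : IsLocallyConstructible B) : IsLocallyConstructible (u '' (A ∩ Bᶜ))ᶜ := by
  haveI := lfp_of_lft u
  exact ConsTop.isLocallyConstructible_compl (u.isLocallyConstructible_image
    (locallyConstructible_inter hA (ConsTop.isLocallyConstructible_compl hB)))

theorem interior_closed (A B : Set X) (hA : IsLocallyConstructible A) :
    (interior (setLocus closedRel u A B)).Nonempty ∨ (interior (setLocus closedRel u A B)ᶜ).Nonempty := by
  obtain ⟨V, hV, hV'⟩ := exists_closure_fiber u A hA
  haveI := LocallyOfFiniteType.isLocallyNoetherian u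
  refine interior_or_of_agree (isLocallyConstructible_image_diff u (closure A) A
    (isLocallyConstructible_of_isClosed isClosed_closure) hA) V hV fun s hs => ?_
  show IsClosed _ ↔ _
  rw [← closure_subset_iff_isClosed, hV' s hs, fiber_subset_iff]
  rfl

end dichotomy

theorem isStable_closedRel : closedRel.{u}.IsStable := fun _ _ _ _ _ hc ho hs A _ =>
  (ho.isQuotientMap hc hs).isClosed_preimage (s := A)

theorem isCons_closedRel : closedRel.{u}.IsCons :=
  ⟨isStable_closedRel, fun X S u _ _ _ _ A B hA _ => interior_closed u A B hA⟩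

theorem isCons_openRel : openRel.{u}.IsCons := by
  refine ⟨fun _ _ _ _ _ hc ho hs A _ => (ho.isQuotientMap hc hs).isOpen_preimage (s := A),
    fun X S u _ _ _ _ A B hA _ => ?_⟩
  have e : setLocus openRel u A B = setLocus closedRel u Aᶜ B := Set.ext fun s => isClosed_compl_iff.symm
  rw [e]
  exact interior_closed u _ B (ConsTop.isLocallyConstructible_compl hA)

theorem isCons_denseRel : denseRel.{u}.IsCons := by
  refine ⟨fun _ _ _ _ e hc ho hs A B => ?_, fun X S u _ _ _ _ A B hA hB => ?_⟩
  · show e ⁻¹' B ⊆ closure (e ⁻¹' A) ↔ B ⊆ closure A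
    rw [← ho.preimage_closure_eq_closure_preimage hc]
    exact hs.preimage_subset_preimage_iff
  · obtain ⟨V, hV, hV'⟩ := exists_closure_fiber u A hA
    haveI := LocallyOfFiniteType.isLocallyNoetherian u
    refine interior_or_of_agree (isLocallyConstructible_image_diff u B (closure A) hB
      (isLocallyConstructible_of_isClosed isClosed_closure)) V hV fun s hs => ?_
    show (u.fiberι s ⁻¹' B ⊆ closure (u.fiberι s ⁻¹' A)) ↔ _
    rw [hV' s hs, fiber_subset_iff]
    rfl

theorem isCons_lcRel : lcRel.{u}.IsCons := by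
  refine ⟨fun _ _ _ _ e hc ho hs A _ => ?_, fun X S u _ _ _ _ A B hA _ => ?_⟩
  · show IsLocallyClosed (e ⁻¹' A) ↔ IsLocallyClosed A
    rw [isLocallyClosed_iff_isClosed, isLocallyClosed_iff_isClosed,
      ← ho.preimage_closure_eq_closure_preimage hc, ← Set.preimage_compl, ← Set.preimage_inter]
    exact (ho.isQuotientMap hc hs).isClosed_preimage
  · obtain ⟨V₁, hV₁, h₁⟩ := exists_closure_fiber u A hA
    haveI := LocallyOfFiniteType.isLocallyNoetherian u
    let C := closure A ∩ Aᶜ
    have hC : IsLocallyConstructible C := locallyConstructible_inter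
      (isLocallyConstructible_of_isClosed isClosed_closure) (ConsTop.isLocallyConstructible_compl hA)
    obtain ⟨V₂, hV₂, h₂⟩ := exists_closure_fiber u C hC
    refine interior_or_of_agree (isLocallyConstructible_image_diff u (closure C) C
      (isLocallyConstructible_of_isClosed isClosed_closure) hC) (V₁ ⊓ V₂)
      (nonempty_preirreducible_inter V₁.2 V₂.2 hV₁ hV₂) fun s hs => ?_
    show IsLocallyClosed _ ↔ _
    rw [isLocallyClosed_iff_isClosed, h₁ s hs.1, ← Set.preimage_compl, ← Set.preimage_inter,
      ← closure_subset_iff_isClosed]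
    change closure (u.fiberι s ⁻¹' C) ⊆ u.fiberι s ⁻¹' C ↔ _
    rw [h₂ s hs.2, fiber_subset_iff]
    rfl

end Groth.Agent.ConsEngine
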