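import Mathlib
import Groth.Prelude.Def_EGA4Misc

/-!
The morphism of fibres of an `S`-morphism, and its compatibility with change of base.
-/

set_option autoImplicit false
universe u
open CategoryTheory CategoryTheory.Limits AlgebraicGeometry

namespace Groth.Agent.ConsEngine

section

variable {X Y S : Scheme.{u}} (f : X ⟶ Y) (g : Y ⟶ S) (s : S)

@[reassoc]
theorem fiberMap_fiberι : MoreMor.fiberMap f g s ≫ g.fiberι s = (f ≫ g).fiberι s ≫ f :=
  pullback.lift_fst _ _ _

@[reassoc]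
theorem fiberMap_toSpec :
    MoreMor.fiberMap f g s ≫ g.fiberToSpecResidueField s = (f ≫ g).fiberToSpecResidueField s :=
  pullback.lift_snd _ _ _

theorem isPullback_fiber : IsPullback (g.fiberι s) (g.fiberToSpecResidueField s) g (S.fromSpecResidueField s) :=
  IsPullback.of_hasPullback _ _

theorem isPullback_fiberMap :
    IsPullback ((f ≫ g).fiberι s) (MoreMor.fiberMap f g s) f (g.fiberι s) := by
  refine IsPullback.of_bot ?_ (fiberMap_fiberι f g s).symm (isPullback_fiber g s)
  rw [fiberMap_toSpec]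
  exact isPullback_fiber (f ≫ g) s

end

section

variable {Y Y' S S' : Scheme.{u}} {g : Y ⟶ S} {g' : Y' ⟶ S'} {eY : Y' ⟶ Y} {σ : S' ⟶ S}
  (hY : IsPullback eY g' g σ) (s' : S')

/-- the map of fibres induced by a change of base -/
noncomputable def fiberBC : g'.fiber s' ⟶ g.fiber (σ s') :=
  pullback.lift (g'.fiberι s' ≫ eY) (g'.fiberToSpecResidueField s' ≫ Spec.map (σ.residueFieldMap s')) (by
    rw [Category.assoc, hY.w, ← Category.assoc]
    erw [(isPullback_fiber g' s').w]
    rw [Category.assoc, Category.assoc, Scheme.Hom.SpecMap_residueFieldMap_fromSpecResidueField])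

@[reassoc]
theorem fiberBC_fiberι : fiberBC hY s' ≫ g.fiberι (σ s') = g'.fiberι s' ≫ eY :=
  pullback.lift_fst _ _ _

@[reassoc]
theorem fiberBC_toSpec : fiberBC hY s' ≫ g.fiberToSpecResidueField (σ s') =
    g'.fiberToSpecResidueField s' ≫ Spec.map (σ.residueFieldMap s') :=
  pullback.lift_snd _ _ _

theorem isPullback_fiberBC :
    IsPullback (fiberBC hY s') (g'.fiberToSpecResidueField s') (g.fiberToSpecResidueField (σ s'))
      (Spec.map (σ.residueFieldMap s')) := by
  refine IsPullback.of_right ?_ (fiberBC_toSpec hY s') (isPullback_fiber g (σ s'))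
  rw [fiberBC_fiberι, Scheme.Hom.SpecMap_residueFieldMap_fromSpecResidueField]
  exact (isPullback_fiber g' s').paste_horiz hY

variable {X X' : Scheme.{u}} {f : X ⟶ Y} {f' : X' ⟶ Y'} {eX : X' ⟶ X} (hX : IsPullback eX f' f eY)

theorem isPullback_fiberBC_fiberMap :
    IsPullback (fiberBC (hX.paste_vert hY) s') (MoreMor.fiberMap f' g' s') (MoreMor.fiberMap f g (σ s'))
      (fiberBC hY s') := by
  refine IsPullback.of_bot ?_ ?_ (isPullback_fiberBC hY s')
  · rw [fiberMap_toSpec, fiberMap_toSpec]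
    exact isPullback_fiberBC (hX.paste_vert hY) s'
  · apply pullback.hom_ext
    · show (fiberBC (hX.paste_vert hY) s' ≫ MoreMor.fiberMap f g (σ s')) ≫ g.fiberι (σ s') =
        (MoreMor.fiberMap f' g' s' ≫ fiberBC hY s') ≫ g.fiberι (σ s')
      rw [Category.assoc, Category.assoc, fiberMap_fiberι, fiberBC_fiberι, fiberBC_fiberι_assoc,
        fiberMap_fiberι_assoc, hX.w]
    · show (fiberBC (hX.paste_vert hY) s' ≫ MoreMor.fiberMap f g (σ s')) ≫ g.fiberToSpecResidueField (σ s') =
        (MoreMor.fiberMap f' g' s' ≫ fiberBC hY s') ≫ g.fiberToSpecResidueField (σ s')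
      rw [Category.assoc, Category.assoc, fiberMap_toSpec, fiberBC_toSpec, fiberBC_toSpec, fiberMap_toSpec_assoc]

end

/-- membership in the locus of a field-stable relation is insensitive to change of base -/
theorem mem_locusMor_iff {P : ∀ ⦃X Y T : Scheme.{u}⦄, (X ⟶ Y) → (Y ⟶ T) → Prop}
    (hP : ConsProp.IsFieldStableMor P) {X X' Y Y' S S' : Scheme.{u}} {f : X ⟶ Y} {g : Y ⟶ S}
    {f' : X' ⟶ Y'} {g' : Y' ⟶ S'} {eX : X' ⟶ X} {eY : Y' ⟶ Y} {σ : S' ⟶ S}
    [LocallyOfFiniteType g] [QuasiCompact g] [LocallyOfFiniteType (f ≫ g)] [QuasiCompact (f ≫ g)]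
    (hY : IsPullback eY g' g σ) (hX : IsPullback eX f' f eY) (s' : S') :
    s' ∈ ConsProp.locusMor P f' g' ↔ σ s' ∈ ConsProp.locusMor P f g := by
  have : LocallyOfFiniteType (g.fiberToSpecResidueField (σ s')) :=
    MorphismProperty.of_isPullback (P := @LocallyOfFiniteType) (isPullback_fiber g (σ s')) ‹_›
  have : QuasiCompact (g.fiberToSpecResidueField (σ s')) :=
    MorphismProperty.of_isPullback (P := @QuasiCompact) (isPullback_fiber g (σ s')) ‹_›
  have : LocallyOfFiniteType (MoreMor.fiberMap f g (σ s') ≫ g.fiberToSpecResidueField (σ s')) := by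
    rw [fiberMap_toSpec]
    exact MorphismProperty.of_isPullback (P := @LocallyOfFiniteType) (isPullback_fiber (f ≫ g) (σ s')) ‹_›
  have : QuasiCompact (MoreMor.fiberMap f g (σ s') ≫ g.fiberToSpecResidueField (σ s')) := by
    rw [fiberMap_toSpec]
    exact MorphismProperty.of_isPullback (P := @QuasiCompact) (isPullback_fiber (f ≫ g) (σ s')) ‹_›
  exact (hP _ _ _ _ _ _ _ (isPullback_fiberBC hY s') (isPullback_fiberBC_fiberMap hY s' hX)).symm

theorem locusMor_preimage {P : ∀ ⦃X Y T : Scheme.{u}⦄, (X ⟶ Y) → (Y ⟶ T) → Prop}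
    (hP : ConsProp.IsFieldStableMor P) {X X' Y Y' S S' : Scheme.{u}} {f : X ⟶ Y} {g : Y ⟶ S}
    {f' : X' ⟶ Y'} {g' : Y' ⟶ S'} {eX : X' ⟶ X} {eY : Y' ⟶ Y} {σ : S' ⟶ S}
    [LocallyOfFiniteType g] [QuasiCompact g] [LocallyOfFiniteType (f ≫ g)] [QuasiCompact (f ≫ g)]
    (hY : IsPullback eY g' g σ) (hX : IsPullback eX f' f eY) :
    ConsProp.locusMor P f' g' = σ ⁻¹' ConsProp.locusMor P f g :=
  Set.ext fun s' => mem_locusMor_iff hP hY hX s'

end Groth.Agent.ConsEngine
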