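import Groth.Agent.ConsEngine.LimTop

universe u

open CategoryTheory Limits AlgebraicGeometry Topology TopologicalSpace

namespace Groth.Agent.ConsEngine

theorem proCons_of_isClosed {X : Scheme.{u}} {F : Set X} (hF : IsClosed F) :
    ProCons.IsProConstructible F := by
  rw [ConsTop.isProConstructible_iff_indCons_compl]
  refine ConsTop.indCons_iff_affine.mpr fun W hW => ?_
  obtain ⟨_, _, _, _⟩ := ConsTop.affine_instances hW
  exact ConsTop.isOpen_cons_of_isOpen (hF.isOpen_compl.preimage continuous_subtype_val)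

variable {I : Type u} [SmallCategory I] [IsCofiltered I] (D : I ⥤ Scheme.{u})
  [∀ {i j} (f : i ⟶ j), IsAffineHom (D.map f)] (c : Cone D) (hc : IsLimit c)

theorem image_π_subset {j i : I} (φ : j ⟶ i) (A : Set c.pt) :
    D.map φ '' (closure (c.π.app j '' A)) ⊆ closure (c.π.app i '' A) := by
  refine (image_closure_subset_closure_image (D.map φ).continuous).trans (closure_mono ?_)
  rintro _ ⟨_, ⟨x, hx, rfl⟩, rfl⟩
  exact ⟨x, hx, by rw [← Scheme.Hom.comp_apply, c.w φ]⟩

include hc in
/-- irreducible components of the limit are those of a deep enough stage -/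
theorem bijOn_irreducibleComponents (i₁ : I) [NoetherianSpace c.pt]
    (hd : ∀ (j : I) (_ : j ⟶ i₁), DenseRange (c.π.app j)) :
    ∃ (i : I) (_ : i ⟶ i₁), ∀ (j : I) (_ : j ⟶ i),
      Set.BijOn (fun Y : Set c.pt => closure (⇑(c.π.app j) '' (Y : Set c.pt) : Set (D.obj j)))
        (irreducibleComponents c.pt) (irreducibleComponents (D.obj j)) := by
  classical
  have hfin : (irreducibleComponents c.pt).Finite := NoetherianSpace.finite_irreducibleComponents
  haveI := hfin.to_subtype
  have key : ∀ p : irreducibleComponents c.pt × irreducibleComponents c.pt, ∃ i : I, p.1 ≠ p.2 →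
      ∀ (j : I) (_ : j ⟶ i), ¬ closure (c.π.app j '' p.1.1) ⊆ closure (c.π.app j '' p.2.1) := by
    rintro ⟨⟨Y, hY⟩, ⟨Y', hY'⟩⟩
    by_cases hne : Y = Y'
    · exact ⟨i₁, fun h => absurd (Subtype.ext hne) h⟩
    have hns : ¬ Y ⊆ Y' := fun h => hne (h.antisymm (hY.2 hY'.1 h))
    obtain ⟨x, hxY, hxY'⟩ := Set.not_subset.mp hns
    have hY'c : IsClosed Y' := isClosed_of_mem_irreducibleComponents _ hY'
    obtain ⟨i, O, -, hxO, hO⟩ := exists_stage_open D c hc (K := {x}) isCompact_singleton
      ⟨Y'ᶜ, hY'c.isOpen_compl⟩ (Set.singleton_subset_iff.mpr hxY')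
    refine ⟨i, fun _ j φ hsub => ?_⟩
    have hxj : c.π.app j x ∈ D.map φ ⁻¹' (O : Set (D.obj i)) := by
      rw [Set.mem_preimage, ← Scheme.Hom.comp_apply, c.w φ]
      exact hxO rfl
    obtain ⟨_, hO', ⟨x', hx', rfl⟩⟩ := mem_closure_iff.mp
      (hsub (subset_closure ⟨x, hxY, rfl⟩)) _ (O.2.preimage (D.map φ).continuous) hxj
    rw [Set.mem_preimage, ← Scheme.Hom.comp_apply, c.w φ] at hO'
    exact hO hO' hx'
  choose st hst using key
  haveI := Fintype.ofFinite (irreducibleComponents c.pt)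
  obtain ⟨i, hi⟩ := IsCofiltered.inf_objs_exists (insert i₁ (Finset.univ.image st))
  obtain ⟨φ₁⟩ := hi (Finset.mem_insert_self _ _)
  refine ⟨i, φ₁, fun j φ => ?_⟩
  let Φ : Set c.pt → Set (D.obj j) := fun Y => closure (c.π.app j '' Y)
  have hsep : ∀ Y ∈ irreducibleComponents c.pt, ∀ Y' ∈ irreducibleComponents c.pt,
      Φ Y ⊆ Φ Y' → Y = Y' := by
    intro Y hY Y' hY' hsub
    by_contra hne
    obtain ⟨a⟩ := hi (Finset.mem_insert_of_mem
      (Finset.mem_image_of_mem st (Finset.mem_univ (⟨Y, hY⟩, ⟨Y', hY'⟩))))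
    exact hst (⟨Y, hY⟩, ⟨Y', hY'⟩) (fun h => hne (Subtype.ext_iff.mp h)) j (φ ≫ a) hsub
  have hirr : ∀ Y ∈ irreducibleComponents c.pt, IsIrreducible (Φ Y) := fun Y hY =>
    (hY.1.image _ (c.π.app j).continuous.continuousOn).closure
  have hcov : ∀ Z : Set (D.obj j), IsIrreducible Z → ∃ Y ∈ irreducibleComponents c.pt, Z ⊆ Φ Y := by
    intro Z hZ
    have hu : (⋃ Y ∈ irreducibleComponents c.pt, Φ Y) = Set.univ := by
      refine Set.eq_univ_of_univ_subset ?_
      rw [← (hd j (φ ≫ φ₁)).closure_range]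
      refine closure_minimal ?_ (hfin.isClosed_biUnion fun _ _ => isClosed_closure)
      rintro _ ⟨x, rfl⟩
      exact Set.mem_biUnion (irreducibleComponent_mem_irreducibleComponents x)
        (subset_closure ⟨x, mem_irreducibleComponent, rfl⟩)
    obtain ⟨t, ht, hZt⟩ := isIrreducible_iff_sUnion_isClosed.mp hZ (hfin.toFinset.image Φ)
      (fun z hz => by
        obtain ⟨Y, -, rfl⟩ := Finset.mem_image.mp hz
        exact isClosed_closure)
      (fun z _ => by
        have hz : z ∈ ⋃ Y ∈ irreducibleComponents c.pt, Φ Y := hu ▸ Set.mem_univ z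
        obtain ⟨Y, hY, hzY⟩ := Set.mem_iUnion₂.mp hz
        exact ⟨Φ Y, Finset.mem_coe.mpr (Finset.mem_image_of_mem _ (hfin.mem_toFinset.mpr hY)), hzY⟩)
    obtain ⟨Y, hY, rfl⟩ := Finset.mem_image.mp ht
    exact ⟨Y, hfin.mem_toFinset.mp hY, hZt⟩
  have hmax : ∀ Y ∈ irreducibleComponents c.pt, Φ Y ∈ irreducibleComponents (D.obj j) := by
    intro Y hY
    refine ⟨hirr Y hY, fun Z hZ hsub => ?_⟩
    obtain ⟨Y', hY', hZY'⟩ := hcov Z hZ
    exact (hsep Y hY Y' hY' (le_trans hsub hZY')) ▸ hZY'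
  refine ⟨hmax, fun Y hY Y' hY' h => hsep Y hY Y' hY' h.subset, fun Z hZ => ?_⟩
  obtain ⟨Y, hY, hZY⟩ := hcov Z hZ.1
  exact ⟨Y, hY, (hZ.2 (hirr Y hY) hZY).antisymm hZY⟩

include hc in
/-- connected components of the limit are those of a deep enough stage -/
theorem bijOn_connectedComponents (i₁ : I) [CompactSpace (D.obj i₁)] [NoetherianSpace c.pt]
    (hd : ∀ (j : I) (_ : j ⟶ i₁), DenseRange (c.π.app j)) :
    ∃ (i : I) (_ : i ⟶ i₁), ∀ (j : I) (_ : j ⟶ i),
      Set.BijOn (fun C : Set c.pt => closure (⇑(c.π.app j) '' (C : Set c.pt) : Set (D.obj j)))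
        (Set.range (connectedComponent : c.pt → Set c.pt))
        (Set.range (connectedComponent : D.obj j → Set (D.obj j))) := by
  classical
  have hfin : (Set.range (connectedComponent : c.pt → Set c.pt)).Finite := by
    let g : Set c.pt → Set c.pt := fun Y => if h : Y.Nonempty then connectedComponent h.choose else ∅
    refine ((NoetherianSpace.finite_irreducibleComponents (α := c.pt)).image g).subset ?_
    rintro _ ⟨x, rfl⟩
    refine ⟨irreducibleComponent x, irreducibleComponent_mem_irreducibleComponents x, ?_⟩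
    have h : (irreducibleComponent x).Nonempty := ⟨x, mem_irreducibleComponent⟩
    simp only [g, dif_pos h]
    exact (connectedComponent_eq
      (isIrreducible_irreducibleComponent.isConnected.isPreconnected.subset_connectedComponent
        mem_irreducibleComponent h.choose_spec)).symm
  haveI := hfin.to_subtype
  have hclopen : ∀ x : c.pt, IsClopen (connectedComponent x) := fun x => by
    refine ⟨isClosed_connectedComponent, isClosed_compl_iff.mp ?_⟩
    have e : (connectedComponent x)ᶜ =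
        ⋃₀ (Set.range (connectedComponent : c.pt → Set c.pt) \ {connectedComponent x}) := by
      ext y
      refine ⟨fun hy => ⟨connectedComponent y, ⟨⟨y, rfl⟩, fun h => hy (h ▸ mem_connectedComponent)⟩,
        mem_connectedComponent⟩, ?_⟩
      rintro ⟨_, ⟨⟨z, rfl⟩, hne⟩, hy⟩ hyx
      exact hne ((connectedComponent_eq hy).trans (connectedComponent_eq hyx).symm)
    rw [e, Set.sUnion_eq_biUnion]
    refine (hfin.subset Set.sdiff_subset).isClosed_biUnion fun C hC => ?_
    obtain ⟨y, rfl⟩ := hC.1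
    exact isClosed_connectedComponent
  have key : ∀ C : Set.range (connectedComponent : c.pt → Set c.pt), ∃ i : I, ∀ (j : I) (_ : j ⟶ i),
      closure (c.π.app j '' C.1) ∩ closure (c.π.app j '' C.1ᶜ) = ∅ := by
    rintro ⟨_, x₀, rfl⟩
    set C := connectedComponent x₀ with hC
    obtain ⟨a, O, -, hCO, hO⟩ := exists_stage_open D c hc (K := C) (NoetherianSpace.isCompact _)
      ⟨C, (hclopen x₀).2⟩ le_rfl
    obtain ⟨b, O', -, hCO', hO'⟩ := exists_stage_open D c hc (K := Cᶜ) (NoetherianSpace.isCompact _)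
      ⟨Cᶜ, (hclopen x₀).1.isOpen_compl⟩ le_rfl
    obtain ⟨i, hi⟩ := IsCofiltered.inf_objs_exists ({i₁, a, b} : Finset I)
    obtain ⟨p⟩ := hi (X := i₁) (by simp)
    obtain ⟨q⟩ := hi (X := a) (by simp)
    obtain ⟨r⟩ := hi (X := b) (by simp)
    haveI : CompactSpace (D.obj i) := QuasiCompact.compactSpace_of_compactSpace (D.map p)
    have sep : ∀ {d : I} (e : i ⟶ d) (W : (D.obj d).Opens) (A B : Set c.pt) (x : c.pt), x ∈ A →
        A ⊆ c.π.app d ⁻¹' (W : Set (D.obj d)) →
        Disjoint (c.π.app d ⁻¹' (W : Set (D.obj d))) B →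
        c.π.app i x ∉ closure (c.π.app i '' B) := by
      intro d e W A B x hx hA hB hcl
      have hw : ∀ z : c.pt, D.map e (c.π.app i z) = c.π.app d z := fun z => by
        rw [← Scheme.Hom.comp_apply, c.w e]
      obtain ⟨_, hW, ⟨z, hz, rfl⟩⟩ := mem_closure_iff.mp hcl _ (W.2.preimage (D.map e).continuous)
        (show D.map e (c.π.app i x) ∈ W by rw [hw]; exact hA hx)
      refine Set.disjoint_left.mp hB ?_ hz
      rw [Set.mem_preimage, ← hw]
      exact hW
    have hpre : c.π.app i ⁻¹' (closure (c.π.app i '' C) ∩ closure (c.π.app i '' Cᶜ)) = ∅ := by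
      refine Set.eq_empty_of_forall_notMem fun x hx => ?_
      by_cases hxC : x ∈ C
      · exact sep q O C Cᶜ x hxC hCO (Set.disjoint_left.mpr fun z hz hz' => hz' (hO hz)) hx.2
      · exact sep r O' Cᶜ C x hxC hCO' (Set.disjoint_left.mpr fun z hz hz' => (hO' hz) hz') hx.1
    obtain ⟨k, ψ, hk⟩ := exists_preimage_eq_empty D c hc i
      (proCons_of_isClosed (isClosed_closure.inter isClosed_closure)) hpre
    refine ⟨k, fun j φ => Set.eq_empty_of_forall_notMem fun y hy => ?_⟩
    refine (Set.eq_empty_iff_forall_notMem.mp hk) (D.map φ y)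
      ⟨image_π_subset D c ψ C ⟨_, image_π_subset D c φ C ⟨y, hy.1, rfl⟩, rfl⟩,
        image_π_subset D c ψ Cᶜ ⟨_, image_π_subset D c φ Cᶜ ⟨y, hy.2, rfl⟩, rfl⟩⟩
  choose st hst using key
  haveI := Fintype.ofFinite (Set.range (connectedComponent : c.pt → Set c.pt))
  obtain ⟨i, hi⟩ := IsCofiltered.inf_objs_exists (insert i₁ (Finset.univ.image st))
  obtain ⟨φ₁⟩ := hi (Finset.mem_insert_self _ _)
  refine ⟨i, φ₁, fun j φ => ?_⟩
  have hdis : ∀ x : c.pt, closure (c.π.app j '' connectedComponent x) ∩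
      closure (c.π.app j '' (connectedComponent x)ᶜ) = ∅ := fun x => by
    obtain ⟨a⟩ := hi (Finset.mem_insert_of_mem (Finset.mem_image_of_mem st
      (Finset.mem_univ ⟨connectedComponent x, x, rfl⟩)))
    exact hst ⟨connectedComponent x, x, rfl⟩ j (φ ≫ a)
  have hun : ∀ A : Set c.pt, closure (c.π.app j '' A) ∪ closure (c.π.app j '' Aᶜ) = Set.univ := by
    intro A
    rw [← closure_union, ← Set.image_union, Set.union_compl_self, Set.image_univ,
      (hd j (φ ≫ φ₁)).closure_range]
  have heq : ∀ x : c.pt, closure (c.π.app j '' connectedComponent x) =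
      connectedComponent (c.π.app j x) := by
    intro x
    have hx : c.π.app j x ∈ closure (c.π.app j '' connectedComponent x) :=
      subset_closure ⟨x, mem_connectedComponent, rfl⟩
    have hcompl : (closure (c.π.app j '' connectedComponent x))ᶜ =
        closure (c.π.app j '' (connectedComponent x)ᶜ) := by
      refine Set.Subset.antisymm (fun y hy => ?_) (fun y hy hy' => ?_)
      · exact ((hun (connectedComponent x)).symm ▸ Set.mem_univ y :
          y ∈ closure (c.π.app j '' connectedComponent x) ∪ _).resolve_left hy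
      · exact (Set.eq_empty_iff_forall_notMem.mp (hdis x)) y ⟨hy', hy⟩
    refine Set.Subset.antisymm
      ((isPreconnected_connectedComponent.image _ (c.π.app j).continuous.continuousOn).closure.subset_connectedComponent hx) ?_
    refine IsClopen.connectedComponent_subset ⟨isClosed_closure, ?_⟩ hx
    rw [← isClosed_compl_iff, hcompl]
    exact isClosed_closure
  refine ⟨?_, ?_, ?_⟩
  · rintro _ ⟨x, rfl⟩
    exact ⟨c.π.app j x, (heq x).symm⟩
  · rintro _ ⟨x, rfl⟩ _ ⟨y, rfl⟩ h
    by_contra hne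
    have hy : y ∉ connectedComponent x := fun hy => hne (connectedComponent_eq hy)
    refine (Set.eq_empty_iff_forall_notMem.mp (hdis x)) (c.π.app j y)
      ⟨?_, subset_closure ⟨y, hy, rfl⟩⟩
    exact h.symm.subset (subset_closure ⟨y, mem_connectedComponent, rfl⟩)
  · rintro _ ⟨y, rfl⟩
    have hy : y ∈ closure (c.π.app j '' (⋃ C ∈ Set.range (connectedComponent : c.pt → Set c.pt), C)) := by
      have e : (⋃ C ∈ Set.range (connectedComponent : c.pt → Set c.pt), C) = Set.univ :=
        Set.eq_univ_of_forall fun z => Set.mem_biUnion ⟨z, rfl⟩ mem_connectedComponent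
      rw [e, Set.image_univ, (hd j (φ ≫ φ₁)).closure_range]
      trivial
    rw [Set.image_iUnion₂, hfin.closure_biUnion] at hy
    obtain ⟨_, ⟨x, rfl⟩, hyx⟩ := Set.mem_iUnion₂.mp hy
    refine ⟨connectedComponent x, ⟨x, rfl⟩, ?_⟩
    simp only
    rw [heq x] at hyx ⊢
    exact connectedComponent_eq hyx

include hc in
/-- if the transition maps are embeddings, the limit is eventually dense -/
theorem eventually_denseRange_of_isEmbedding (i₀ : I) [NoetherianSpace (D.obj i₀)]
    (he : ∀ (i j : I) (φ : i ⟶ j), IsEmbedding ⇑(D.map φ)) :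
    ∃ (i : I) (_ : i ⟶ i₀), ∀ (j : I) (_ : j ⟶ i), DenseRange (c.π.app j) := by
  let R : Set (D.obj i₀) := closure (Set.range (c.π.app i₀))
  let O : (D.obj i₀).Opens := ⟨Rᶜ, isClosed_closure.isOpen_compl⟩
  obtain ⟨i, φ, hi⟩ := exists_preimage_inter_eq_empty D c hc i₀ O (NoetherianSpace.isCompact _)
    (K := Set.univ) ConsTop.isProConstructible_univ (by
      refine Set.eq_empty_of_forall_notMem fun x hx => ?_
      exact hx.1 (subset_closure ⟨x, rfl⟩))
  refine ⟨i, φ, fun j ψ => ?_⟩
  rw [denseRange_iff_closure_range, (he j i₀ (ψ ≫ φ)).isInducing.closure_eq_preimage_closure_image]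
  refine Set.eq_univ_of_forall fun y => ?_
  have e : D.map (ψ ≫ φ) '' Set.range (c.π.app j) = Set.range (c.π.app i₀) := by
    rw [← Set.range_comp, ← c.w (ψ ≫ φ)]
    rfl
  rw [Set.mem_preimage, e]
  by_contra hy
  refine (Set.eq_empty_iff_forall_notMem.mp hi) (D.map ψ y) ⟨?_, trivial⟩
  rw [← Scheme.Hom.comp_apply, ← D.map_comp]
  exact hy

end Groth.Agent.ConsEngine
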