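import Groth.Agent.ConsEngine.IndCons
import Groth.Agent.LimDesc.Tower
import Groth.Agent.S3398
import Groth.Agent.S4591
import Groth.Agent.S3439

/-!
Pro-constructible sets at the stages of a cofiltered limit with affine transition maps.
-/

set_option autoImplicit false
universe u
open CategoryTheory CategoryTheory.Limits AlgebraicGeometry

namespace Groth.Agent.ConsEngine

variable {I : Type u} [SmallCategory I] [IsCofiltered I] (D : I ⥤ Scheme.{u})
  [∀ {i j} (f : i ⟶ j), IsAffineHom (D.map f)] (c : Cone D) (hc : IsLimit c)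

include hc in
/-- image of the limit in a stage -/
theorem range_π_eq (i : I) : Set.range (c.π.app i) = ⋂ (j : I) (φ : j ⟶ i), Set.range (D.map φ) := by
  refine Set.Subset.antisymm (Set.subset_iInter₂ fun j φ => ?_) fun x hx => ?_
  · rintro _ ⟨y, rfl⟩
    exact ⟨c.π.app j y, by rw [← Scheme.Hom.comp_apply, c.w φ]⟩
  let g₀ := (D.obj i).fromSpecResidueField x
  have : ∀ {j k : Over i} (a : j ⟶ k), IsAffineHom ((LimDesc.tower D g₀).map a) :=
    fun a => LimDesc.isAffineHom_tower_map D g₀ a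
  have : ∀ j, CompactSpace ((LimDesc.tower D g₀).obj j) := fun j => LimDesc.compactSpace_stage D g₀ j
  have : ∀ j, Nonempty ((LimDesc.tower D g₀).obj j) := fun j => by
    obtain ⟨y, hy⟩ := Set.mem_iInter₂.mp hx j.left j.hom
    obtain ⟨z, -, -⟩ := Scheme.Pullback.exists_preimage_pullback (f := g₀) (g := D.map j.hom) default y
      (by rw [hy]; exact Scheme.fromSpecResidueField_apply x _)
    exact ⟨z⟩
  have hY : IsPullback (pullback.fst g₀ (c.π.app i)) (pullback.snd g₀ (c.π.app i)) g₀ (c.π.app i) :=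
    .of_hasPullback _ _
  obtain ⟨z⟩ := Scheme.nonempty_of_isLimit _ (LimDesc.towerCone D g₀ c hY) (LimDesc.isLimitTowerCone D g₀ c hY hc)
  refine ⟨pullback.snd g₀ (c.π.app i) z, ?_⟩
  rw [← Scheme.Hom.comp_apply, ← hY.w, Scheme.Hom.comp_apply]
  exact Scheme.fromSpecResidueField_apply x _

include hc in
/-- a pro-constructible set missing the limit is missed by some stage -/
theorem exists_preimage_eq_empty (i : I) [CompactSpace (D.obj i)] {K : Set (D.obj i)}
    (hK : ProCons.IsProConstructible K) (h : c.π.app i ⁻¹' K = ∅) :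
    ∃ (j : I) (φ : j ⟶ i), D.map φ ⁻¹' K = ∅ := by
  have hE : ∀ p : (Σ j : I, j ⟶ i), ProCons.IsIndConstructible (Set.range (D.map p.2))ᶜ := fun p => by
    rw [← Set.image_univ, ← ConsTop.isProConstructible_iff_indCons_compl]
    exact S3398.result (D.map p.2) _ ConsTop.isProConstructible_univ
  have hsub : K ⊆ ⋃ p : (Σ j : I, j ⟶ i), (Set.range (D.map p.2))ᶜ := fun x hx => by
    have : x ∉ Set.range (c.π.app i) := fun ⟨y, hy⟩ =>
      Set.eq_empty_iff_forall_notMem.mp h y (show c.π.app i y ∈ K from hy ▸ hx)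
    rw [range_π_eq D c hc i, Set.mem_iInter₂] at this
    simp only [not_forall] at this
    obtain ⟨j, φ, hj⟩ := this
    exact Set.mem_iUnion.mpr ⟨⟨j, φ⟩, hj⟩
  obtain ⟨J, hJ⟩ := S4591.result (D.obj i) K hK _ hE hsub
  classical
  obtain ⟨k, hk⟩ := IsCofiltered.inf_objs_exists (J.image fun p => Over.mk p.2 : Finset (Over i))
  refine ⟨k.left, k.hom, Set.eq_empty_iff_forall_notMem.mpr fun y hy => ?_⟩
  obtain ⟨p, hp, hpy⟩ := Set.mem_iUnion₂.mp (hJ (show D.map k.hom y ∈ K from hy))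
  obtain ⟨f⟩ := hk (X := Over.mk p.2) (Finset.mem_image_of_mem _ hp)
  exact hpy ⟨D.map f.left y, by
    rw [← Scheme.Hom.comp_apply, ← D.map_comp]
    exact congrArg (fun q => (D.map q : _ ⟶ _) y) (Over.w f)⟩

theorem indCons_union {X : Scheme.{u}} {E F : Set X} (hE : ProCons.IsIndConstructible E)
    (hF : ProCons.IsIndConstructible F) : ProCons.IsIndConstructible (E ∪ F) :=
  ConsTop.indCons_iff_affine.mpr fun W hW =>
    @IsOpen.union _ _ _ (constructibleTopology ↥(W : Set X))
      (ConsTop.indCons_iff_affine.mp hE W hW) (ConsTop.indCons_iff_affine.mp hF W hW)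

theorem proCons_inter_compl {X : Scheme.{u}} {E F : Set X} (hE : ProCons.IsProConstructible E)
    (hF : ProCons.IsIndConstructible F) : ProCons.IsProConstructible (E ∩ Fᶜ) := by
  rw [ConsTop.isProConstructible_iff_indCons_compl, Set.compl_inter, compl_compl]
  exact indCons_union (ConsTop.isProConstructible_iff_indCons_compl.mp hE) hF

include hc in
/-- comparison of pro-constructible and ind-constructible families at a late stage -/
theorem subset_iff_eventually (i₀ : I) [CompactSpace (D.obj i₀)] (E F : ∀ i : I, Set (D.obj i))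
    (hE : ∀ i, ProCons.IsProConstructible (E i)) (hF : ∀ i, ProCons.IsIndConstructible (F i))
    (hEm : ∀ (i j : I) (φ : i ⟶ j), E i ⊆ ⇑(D.map φ) ⁻¹' E j)
    (hFm : ∀ (i j : I) (φ : i ⟶ j), ⇑(D.map φ) ⁻¹' F j ⊆ F i) :
    (⋂ i, ⇑(c.π.app i) ⁻¹' E i : Set c.pt) ⊆ (⋃ i, ⇑(c.π.app i) ⁻¹' F i : Set c.pt) ↔
      ∃ (i : I) (_ : i ⟶ i₀), ∀ (j : I) (_ : j ⟶ i), E j ⊆ F j := by
  have hw : ∀ (a b : I) (φ : a ⟶ b) (x : c.pt), D.map φ (c.π.app a x) = c.π.app b x := fun a b φ x => by
    rw [← Scheme.Hom.comp_apply, c.w φ]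
  constructor
  · intro h
    have : IsAffineHom (c.π.app i₀) := isAffineHom_π_app _ _ hc i₀
    have : CompactSpace c.pt := QuasiCompact.compactSpace_of_compactSpace (c.π.app i₀)
    let K : ∀ i, Set (D.obj i) := fun i => E i ∩ (F i)ᶜ
    have hK : ∀ i, ProCons.IsProConstructible (K i) := fun i => proCons_inter_compl (hE i) (hF i)
    have hKm : ∀ (a b : I) (φ : a ⟶ b), K a ⊆ D.map φ ⁻¹' K b := fun a b φ x hx =>
      ⟨hEm a b φ hx.1, fun hF' => hx.2 (hFm a b φ hF')⟩
    have hKp : ∀ i, ProCons.IsProConstructible (c.π.app i ⁻¹' K i : Set c.pt) := fun i => by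
      rw [ConsTop.isProConstructible_iff_indCons_compl]
      exact indCons_preimage (c.π.app i) (ConsTop.isProConstructible_iff_indCons_compl.mp (hK i))
    have hem : ⋂ i, (c.π.app i ⁻¹' K i : Set c.pt) ⊆ (∅ : Set c.pt) := fun x hx => by
      obtain ⟨i, hi⟩ := Set.mem_iUnion.mp (h (Set.mem_iInter.mpr fun i => (Set.mem_iInter.mp hx i).1))
      exact (Set.mem_iInter.mp hx i).2 hi
    have hemp : ProCons.IsIndConstructible (∅ : Set c.pt) :=
      ConsTop.indCons_iff_affine.mpr fun W _ => @isOpen_empty _ (constructibleTopology ↥(W : Set c.pt))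
    obtain ⟨J, hJ⟩ := S3439.result c.pt ∅ hemp _ hKp hem
    classical
    obtain ⟨k, hk⟩ := IsCofiltered.inf_objs_exists (insert i₀ J)
    obtain ⟨e⟩ := hk (Finset.mem_insert_self i₀ J)
    have : CompactSpace (D.obj k) := QuasiCompact.compactSpace_of_compactSpace (D.map e)
    have hk0 : (c.π.app k ⁻¹' K k : Set c.pt) = ∅ := Set.subset_empty_iff.mp fun x hx =>
      hJ (Set.mem_iInter₂.mpr fun p hp => by
        obtain ⟨φ⟩ := hk (Finset.mem_insert_of_mem hp)
        show c.π.app p x ∈ K p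
        rw [← hw k p φ x]
        exact hKm k p φ hx)
    obtain ⟨j, φ, hj⟩ := exists_preimage_eq_empty D c hc k (hK k) hk0
    refine ⟨j, φ ≫ e, fun l ψ x hx => by_contra fun hn => ?_⟩
    exact Set.eq_empty_iff_forall_notMem.mp hj _ (hKm j k φ (hKm l j ψ ⟨hx, hn⟩))
  · rintro ⟨i, -, hi⟩ x hx
    exact Set.mem_iUnion.mpr ⟨i, hi i (𝟙 i) (Set.mem_iInter.mp hx i)⟩

end Groth.Agent.ConsEngine
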