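import Mathlib
import Groth.Agent.LimDesc.Tower

/-!
A quasi-compact morphism is universally closed as soon as its products with affine spaces are closed.
-/

set_option autoImplicit false
set_option linter.style.haveILetI false
universe u
open CategoryTheory CategoryTheory.Limits AlgebraicGeometry

namespace Groth.Agent.ConsEngine

theorem isClosedMap_of_isPullback_preimmersion {X X' Y Y' : Scheme.{u}} {f : X ⟶ Y} {f' : X' ⟶ Y'} {eX : X' ⟶ X}
    {e : Y' ⟶ Y} [IsPreimmersion e] (h : IsPullback eX f' f e) (hf : IsClosedMap f) : IsClosedMap f' := by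
  intro Z hZ
  haveI : IsPreimmersion eX := MorphismProperty.of_isPullback (P := @IsPreimmersion) h.flip ‹_›
  obtain ⟨C, hC, rfl⟩ := eX.isEmbedding.isInducing.isClosed_iff.mp hZ
  have : f' '' (eX ⁻¹' C) = e ⁻¹' (f '' C) := by
    ext y
    constructor
    · rintro ⟨x, hx, rfl⟩
      exact ⟨eX x, hx, by rw [← Scheme.Hom.comp_apply, h.w, Scheme.Hom.comp_apply]⟩
    · rintro ⟨x, hx, hxy⟩
      obtain ⟨z, hz1, hz2⟩ := Scheme.Pullback.exists_preimage_pullback (f := f) (g := e) x y hxy
      refine ⟨h.isoPullback.inv z, ?_, ?_⟩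
      · show eX (h.isoPullback.inv z) ∈ C
        rw [← Scheme.Hom.comp_apply, h.isoPullback_inv_fst, hz1]; exact hx
      · rw [← Scheme.Hom.comp_apply, h.isoPullback_inv_snd, hz2]
  rw [this]
  exact (hf C hC).preimage e.continuous

section

open LimDesc

variable {I : Type u} [SmallCategory I] [IsCofiltered I] (D : I ⥤ Scheme.{u})
  [∀ {i j} (f : i ⟶ j), IsAffineHom (D.map f)] (c : Cone D) (hc : IsLimit c) {i₀ : I}
  {X₀ : Scheme.{u}} (a₀ : X₀ ⟶ D.obj i₀) [QuasiCompact a₀] {X : Scheme.{u}} {a : X ⟶ c.pt} {qX : X ⟶ X₀}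
  (hX : IsPullback qX a a₀ (c.π.app i₀))

include hc hX in
/-- closedness at all stages gives closedness in the limit -/
theorem isClosedMap_of_stages (h : ∀ j : Over i₀, IsClosedMap (toStage D a₀ j)) : IsClosedMap a := by
  intro Z hZ
  refine isClosed_of_closure_subset fun y hy => by_contra fun hyZ => ?_
  have hq : QuasiCompact a := MorphismProperty.of_isPullback (P := @QuasiCompact) hX ‹_›
  let F := pullback a (c.pt.fromSpecResidueField y)
  have : CompactSpace F := QuasiCompact.compactSpace_of_compactSpace (pullback.snd a (c.pt.fromSpecResidueField y))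
  let φ : F ⟶ X := pullback.fst a (c.pt.fromSpecResidueField y)
  have hφ : Set.range φ = a ⁻¹' {y} := by
    rw [Scheme.Pullback.range_fst, Scheme.range_fromSpecResidueField]
  let K : Over i₀ → Set F := fun j => (φ ≫ proj D a₀ c hX j) ⁻¹' closure (proj D a₀ c hX j '' Z)
  have hKc : ∀ j, IsClosed (K j) := fun j => isClosed_closure.preimage (Scheme.Hom.continuous _)
  have hKne : ∀ j, (K j).Nonempty := by
    intro j
    have h1 : c.π.app j.left y ∈ toStage D a₀ j '' closure (proj D a₀ c hX j '' Z) := by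
      have h2 : closure (a '' Z) ⊆ c.π.app j.left ⁻¹' (toStage D a₀ j '' closure (proj D a₀ c hX j '' Z)) := by
        refine closure_minimal ?_ ((h j _ isClosed_closure).preimage (c.π.app j.left).continuous)
        rintro _ ⟨x, hx, rfl⟩
        refine ⟨_, subset_closure ⟨x, hx, rfl⟩, ?_⟩
        rw [← Scheme.Hom.comp_apply, proj_toStage, Scheme.Hom.comp_apply]
      exact h2 hy
    obtain ⟨x, hx, hxy⟩ := h1
    have hsq := isPullback_proj D a₀ c hX j
    obtain ⟨z, hz1, hz2⟩ := Scheme.Pullback.exists_preimage_pullback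
      (f := toStage D a₀ j) (g := c.π.app j.left) x y hxy
    obtain ⟨w, hw⟩ : hsq.isoPullback.inv z ∈ Set.range φ := by
      rw [hφ]
      show a (hsq.isoPullback.inv z) = y
      rw [← Scheme.Hom.comp_apply, hsq.isoPullback_inv_snd, hz2]
    refine ⟨w, ?_⟩
    show (φ ≫ proj D a₀ c hX j) w ∈ closure (proj D a₀ c hX j '' Z)
    rw [Scheme.Hom.comp_apply, hw, ← Scheme.Hom.comp_apply, hsq.isoPullback_inv_fst, hz1]
    exact hx
  have hKm : ∀ {j k : Over i₀} (e : j ⟶ k), K j ⊆ K k := by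
    intro j k e w hw
    have he : proj D a₀ c hX j ≫ trans D a₀ e = proj D a₀ c hX k := (towerCone D a₀ c hX).w e
    show (φ ≫ proj D a₀ c hX k) w ∈ closure (proj D a₀ c hX k '' Z)
    rw [← he, ← Category.assoc, Scheme.Hom.comp_apply]
    refine map_mem_closure (trans D a₀ e).continuous hw ?_
    rintro _ ⟨x, hx, rfl⟩
    exact ⟨x, hx, Scheme.Hom.comp_apply _ _ _⟩
  haveI : Nonempty (Over i₀) := ⟨Over.mk (𝟙 i₀)⟩
  obtain ⟨w, hw⟩ := IsCompact.nonempty_iInter_of_directed_nonempty_isCompact_isClosed K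
    (fun j k => by
      obtain ⟨l, e₁, e₂, -⟩ := IsCofilteredOrEmpty.cone_objs j k
      exact ⟨l, hKm e₁, hKm e₂⟩)
    hKne (fun j => (hKc j).isCompact) hKc
  refine hyZ ⟨φ w, ?_, (hφ.le ⟨w, rfl⟩ : φ w ∈ a ⁻¹' {y})⟩
  by_contra hn
  haveI : ∀ {j k : Over i₀} (e : j ⟶ k), IsAffineHom ((tower D a₀).map e) := fun e => isAffineHom_tower_map D a₀ e
  obtain ⟨_, ⟨j, V, -, rfl⟩, hwV, hVZ⟩ := TopologicalSpace.Opens.isBasis_iff_nbhd.mp
    (isBasis_preimage_isAffineOpen (tower D a₀) (towerCone D a₀ c hX) (isLimitTowerCone D a₀ c hX hc))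
    (show φ w ∈ (⟨Zᶜ, hZ.isOpen_compl⟩ : X.Opens) from hn)
  obtain ⟨_, hvV, x, hx, rfl⟩ := mem_closure_iff.mp (Set.mem_iInter.mp hw j) V.carrier V.2 hwV
  exact hVZ hvV hx

end

section fgSub

variable (R : Type u) [CommRing R] (A : Type u) [CommRing A] [Algebra R A]

/-- finitely generated subalgebras -/
abbrev FgOver : Type u := {B : Subalgebra R A // B.FG}

instance : IsFiltered (FgOver R A) := by
  have : Nonempty (FgOver R A) := ⟨⟨⊥, Subalgebra.fg_bot⟩⟩
  have : IsDirectedOrder (FgOver R A) :=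
    ⟨fun B C => ⟨⟨B.1 ⊔ C.1, B.2.sup C.2⟩, (le_sup_left : B.1 ≤ B.1 ⊔ C.1), (le_sup_right : C.1 ≤ B.1 ⊔ C.1)⟩⟩
  infer_instance

/-- their system -/
def fgOverFunctor : FgOver R A ⥤ CommRingCat.{u} where
  obj B := CommRingCat.of B.1
  map h := CommRingCat.ofHom (Subalgebra.inclusion (leOfHom h : _ ≤ _)).toRingHom

/-- their cocone -/
def fgOverCocone : Cocone (fgOverFunctor R A) where
  pt := CommRingCat.of A
  ι := { app := fun B => CommRingCat.ofHom (algebraMap B.1 A) }

/-- with colimit `A` -/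
noncomputable def fgOverIsColimit : IsColimit (fgOverCocone R A) := by
  haveI : PreservesColimit (fgOverFunctor R A) (forget CommRingCat.{u}) :=
    (inferInstance : PreservesFilteredColimits (forget CommRingCat.{u})).preserves_filtered_colimits _ |>.preservesColimit
  haveI : ReflectsColimit (fgOverFunctor R A) (forget CommRingCat.{u}) := reflectsColimit_of_reflectsIsomorphisms _ _
  refine isColimitOfReflects (forget CommRingCat.{u}) (Types.FilteredColimit.isColimitOf _ _ ?_ ?_)
  · intro x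
    let B : FgOver R A := ⟨Algebra.adjoin R {(show A from x)}, by simpa using Subalgebra.fg_adjoin_finset (R := R) ({(show A from x)} : Finset A)⟩
    exact ⟨B, ⟨(show A from x), Algebra.subset_adjoin (Set.mem_singleton _)⟩, rfl⟩
  · intro B C x y h
    let E : FgOver R A := ⟨B.1 ⊔ C.1, B.2.sup C.2⟩
    exact ⟨E, homOfLE (le_sup_left : B.1 ≤ B.1 ⊔ C.1), homOfLE (le_sup_right : C.1 ≤ B.1 ⊔ C.1), Subtype.ext h⟩

/-- the system of spectra -/
noncomputable def fgOverDiagram : (FgOver R A)ᵒᵖ ⥤ Scheme.{u} := (fgOverFunctor R A).op ⋙ Scheme.Spec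

/-- its cone -/
noncomputable def fgOverCone : Cone (fgOverDiagram R A) := Scheme.Spec.mapCone (fgOverCocone R A).op

/-- which is a limit -/
noncomputable def fgOverIsLimit : IsLimit (fgOverCone R A) :=
  isLimitOfPreserves Scheme.Spec (fgOverIsColimit R A).op

instance {i j : (FgOver R A)ᵒᵖ} (f : i ⟶ j) : IsAffineHom ((fgOverDiagram R A).map f) :=
  inferInstanceAs (IsAffineHom (Spec.map _))

end fgSub

variable {X S : Scheme.{u}} (f : X ⟶ S)

/-- closedness of the base change to a finite type algebra -/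
theorem isClosedMap_of_finiteType
    (h : ∀ n : ℕ, IsClosedMap (pullback.snd f (𝔸(ULift.{u} (Fin n); S) ↘ S)))
    {V : S.Opens} (hV : IsAffineOpen V) (B : Type u) [CommRing B] [Algebra Γ(S, V) B] [Algebra.FiniteType Γ(S, V) B]
    {X' : Scheme.{u}} {q : X' ⟶ X} {f' : X' ⟶ Spec (CommRingCat.of B)}
    (sq : IsPullback q f' f (Spec.map (CommRingCat.ofHom (algebraMap Γ(S, V) B)) ≫ hV.fromSpec)) :
    IsClosedMap f' := by
  obtain ⟨n, p, hp⟩ := Algebra.FiniteType.iff_quotient_mvPolynomial''.mp ‹Algebra.FiniteType Γ(S, V) B›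
  let p' : MvPolynomial (ULift.{u} (Fin n)) Γ(S, V) →ₐ[Γ(S, V)] B :=
    p.comp (MvPolynomial.renameEquiv Γ(S, V) Equiv.ulift).toAlgHom
  have hp' : Function.Surjective p' := hp.comp (AlgEquiv.surjective _)
  let σ := ULift.{u} (Fin n)
  let ι₁ : Spec (CommRingCat.of B) ⟶ 𝔸(σ; Spec Γ(S, V)) :=
    Spec.map (CommRingCat.ofHom p'.toRingHom) ≫ (AffineSpace.SpecIso σ Γ(S, V)).inv
  haveI : IsClosedImmersion (Spec.map (CommRingCat.ofHom p'.toRingHom)) :=
    IsClosedImmersion.spec_of_surjective _ hp'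
  haveI : IsOpenImmersion (AffineSpace.map σ hV.fromSpec) :=
    MorphismProperty.of_isPullback (P := @IsOpenImmersion) (AffineSpace.isPullback_map (n := σ) hV.fromSpec).flip
      inferInstance
  let e := ι₁ ≫ AffineSpace.map σ hV.fromSpec
  haveI : IsPreimmersion e := inferInstance
  have he : e ≫ (𝔸(σ; S) ↘ S) = Spec.map (CommRingCat.ofHom (algebraMap Γ(S, V) B)) ≫ hV.fromSpec := by
    simp only [e, ι₁, Category.assoc, AffineSpace.map_over]
    rw [AffineSpace.SpecIso_inv_over_assoc, ← Spec.map_comp_assoc]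
    congr 2
    ext r
    simp [p']
  let k : X' ⟶ pullback f (𝔸(σ; S) ↘ S) := pullback.lift q (f' ≫ e) (by rw [Category.assoc, he, sq.w])
  refine isClosedMap_of_isPullback_preimmersion (eX := k) (e := e) ?_ (h n)
  refine IsPullback.of_right ?_ (pullback.lift_snd _ _ _) (IsPullback.of_hasPullback f (𝔸(σ; S) ↘ S))
  rw [pullback.lift_fst, he]
  exact sq

/-- criterion of universal closedness by affine spaces -/
theorem universallyClosed_of_affineSpace [QuasiCompact f]
    (h : ∀ n : ℕ, IsClosedMap (pullback.snd f (𝔸(ULift.{u} (Fin n); S) ↘ S))) :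
    UniversallyClosed f := by
  rw [universallyClosed_iff]
  intro X' S' qX g f' sq
  replace sq := sq.flip
  haveI : QuasiCompact f' := MorphismProperty.of_isPullback (P := @QuasiCompact) sq ‹_›
  refine isClosedMap_iff_closure_image.mpr fun Z y hy => ?_
  obtain ⟨V, hV, hyV, -⟩ := exists_isAffineOpen_mem_and_subset (U := (⊤ : S.Opens)) (x := g y) trivial
  obtain ⟨U, hU, hyU, hUV⟩ := exists_isAffineOpen_mem_and_subset (U := g ⁻¹ᵁ V) (x := y) hyV
  letI : Algebra Γ(S, V) Γ(S', U) := (g.appLE V U hUV).hom.toAlgebra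
  let R := Γ(S, V)
  let A := Γ(S', U)
  haveI : IsCofiltered (FgOver R A)ᵒᵖ := isCofiltered_op_of_isFiltered _
  let i₀ : (FgOver R A)ᵒᵖ := Opposite.op ⟨⊥, Subalgebra.fg_bot⟩
  let m : ∀ j : (FgOver R A)ᵒᵖ, (fgOverDiagram R A).obj j ⟶ S :=
    fun j => Spec.map (CommRingCat.ofHom (algebraMap R j.unop.1)) ≫ hV.fromSpec
  have hm : ∀ (j k : (FgOver R A)ᵒᵖ) (e : j ⟶ k), (fgOverDiagram R A).map e ≫ m k = m j := fun j k e => by
    show Spec.map _ ≫ Spec.map _ ≫ hV.fromSpec = Spec.map _ ≫ hV.fromSpec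
    rw [← Spec.map_comp_assoc]
    rfl
  have hsU : IsPullback (pullback.fst f' hU.fromSpec ≫ qX) (pullback.snd f' hU.fromSpec) f
      ((fgOverCone R A).π.app i₀ ≫ m i₀) := by
    have e1 : hU.fromSpec ≫ g = (fgOverCone R A).π.app i₀ ≫ m i₀ := by
      rw [← hV.SpecMap_appLE_fromSpec g hU hUV]
      show Spec.map (g.appLE V U hUV) ≫ hV.fromSpec =
        Spec.map (CommRingCat.ofHom (algebraMap i₀.unop.1 A)) ≫
          Spec.map (CommRingCat.ofHom (algebraMap R i₀.unop.1)) ≫ hV.fromSpec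
      rw [← Spec.map_comp_assoc]
      rfl
    exact e1 ▸ (IsPullback.of_hasPullback f' hU.fromSpec).paste_horiz sq
  let qa : pullback f' hU.fromSpec ⟶ pullback f (m i₀) :=
    pullback.lift (pullback.fst f' hU.fromSpec ≫ qX) (pullback.snd f' hU.fromSpec ≫ (fgOverCone R A).π.app i₀)
      (by rw [hsU.w, Category.assoc])
  have hqa : IsPullback qa (pullback.snd f' hU.fromSpec) (pullback.snd f (m i₀)) ((fgOverCone R A).π.app i₀) := by
    refine IsPullback.of_right ?_ (pullback.lift_snd _ _ _) (IsPullback.of_hasPullback f (m i₀))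
    rw [pullback.lift_fst]
    exact hsU
  have hcl : IsClosedMap (pullback.snd f' hU.fromSpec) := by
    refine isClosedMap_of_stages (fgOverDiagram R A) (fgOverCone R A) (fgOverIsLimit R A) (pullback.snd f (m i₀))
      hqa fun j => ?_
    haveI : Algebra.FiniteType R j.left.unop.1 := (Subalgebra.fg_iff_finiteType _).mp j.left.unop.2
    refine isClosedMap_of_finiteType f h hV j.left.unop.1
      (q := LimDesc.toBase _ _ j ≫ pullback.fst f (m i₀)) ?_
    have := (LimDesc.isPullback_stage (fgOverDiagram R A) (pullback.snd f (m i₀)) j).paste_horiz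
      (IsPullback.of_hasPullback f (m i₀))
    rw [hm] at this
    exact this
  obtain ⟨y', rfl⟩ : y ∈ Set.range hU.fromSpec := by rw [hU.range_fromSpec]; exact hyU
  have h2 : y' ∈ closure (pullback.snd f' hU.fromSpec '' (pullback.fst f' hU.fromSpec ⁻¹' closure Z)) := by
    have h3 : y' ∈ closure (hU.fromSpec ⁻¹' (f' '' Z)) := by
      rw [← hU.fromSpec.isOpenEmbedding.isOpenMap.preimage_closure_eq_closure_preimage hU.fromSpec.continuous]
      exact hy
    refine closure_mono ?_ h3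
    rintro w ⟨x, hx, hxw⟩
    obtain ⟨z, hz1, hz2⟩ := Scheme.Pullback.exists_preimage_pullback (f := f') (g := hU.fromSpec) x w hxw
    exact ⟨z, show pullback.fst f' hU.fromSpec z ∈ closure Z from hz1 ▸ subset_closure hx, hz2⟩
  rw [(hcl _ (isClosed_closure.preimage (Scheme.Hom.continuous _))).closure_eq] at h2
  obtain ⟨z, hz, rfl⟩ := h2
  exact ⟨_, hz, by rw [← Scheme.Hom.comp_apply, pullback.condition, Scheme.Hom.comp_apply]⟩

end Groth.Agent.ConsEngine
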