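import Groth.Agent.ConsEngine.Diag
import Groth.Agent.ConsEngine.UnivClosed
import Groth.Agent.LimDesc.Tower

/-!
Combinators for constructible properties, and spreading out from the generic point.
-/

set_option autoImplicit false
set_option linter.style.haveILetI false
set_option linter.unusedVariables false
universe u
open CategoryTheory CategoryTheory.Limits AlgebraicGeometry

namespace Groth.Agent.ConsEngine

theorem lfp_of_lft {X Y : Scheme.{u}} (f : X ⟶ Y) [IsLocallyNoetherian Y] [LocallyOfFiniteType f] :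
    LocallyOfFinitePresentation f := by
  refine (HasRingHomProperty.iff_appLE (P := @LocallyOfFinitePresentation)).mpr fun V W e => ?_
  haveI : IsNoetherianRing Γ(Y, V) := IsLocallyNoetherian.component_noetherian V
  exact RingHom.FinitePresentation.of_finiteType.mp (f.finiteType_appLE V.2 W.2 e)

variable {P Q : ∀ ⦃X Y T : Scheme.{u}⦄, (X ⟶ Y) → (Y ⟶ T) → Prop}

theorem IsConsMor.and (hP : ConsProp.IsConsMor P) (hQ : ConsProp.IsConsMor Q) :
    ConsProp.IsConsMor (fun X Y T f g => P f g ∧ Q f g) := by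
  refine ⟨?_, fun X Y S f g _ _ _ _ _ _ => ?_⟩
  · intro X X' Y Y' T T' f g f' g' eX eY h _ _ _ _ _ _ _ _ hY hX
    exact and_congr (hP.1 f g f' g' eX eY h hY hX) (hQ.1 f g f' g' eX eY h hY hX)
  · rcases hP.2 f g with h1 | h1
    · rcases hQ.2 f g with h2 | h2
      · left
        obtain ⟨z, hz⟩ := nonempty_preirreducible_inter isOpen_interior isOpen_interior h1 h2
        exact ⟨z, mem_interior.mpr ⟨interior (ConsProp.locusMor P f g) ∩ interior (ConsProp.locusMor Q f g),
          fun w hw => ⟨interior_subset (s := ConsProp.locusMor P f g) hw.1,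
            interior_subset (s := ConsProp.locusMor Q f g) hw.2⟩,
          isOpen_interior.inter isOpen_interior, hz⟩⟩
      · right
        exact h2.mono (interior_mono (s := (ConsProp.locusMor Q f g)ᶜ) fun w hw hPQ => hw hPQ.2)
    · right
      exact h1.mono (interior_mono (s := (ConsProp.locusMor P f g)ᶜ) fun w hw hPQ => hw hPQ.1)

/-- equivalence of relations on algebraic schemes over fields suffices -/
theorem IsConsMor.congr' (hP : ConsProp.IsConsMor P)
    (h : ∀ {X Y T : Scheme.{u}} (f : X ⟶ Y) (g : Y ⟶ T) [IsIntegral T] [Subsingleton T]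
      [LocallyOfFiniteType g] [QuasiCompact g] [LocallyOfFiniteType (f ≫ g)] [QuasiCompact (f ≫ g)],
      P f g ↔ Q f g) : ConsProp.IsConsMor Q := by
  refine ⟨?_, fun X Y S f g _ _ _ _ _ _ => ?_⟩
  · intro X X' Y Y' T T' f g f' g' eX eY h' _ _ _ _ _ _ _ _ hY hX
    haveI : LocallyOfFiniteType g' := MorphismProperty.of_isPullback (P := @LocallyOfFiniteType) hY ‹_›
    haveI : QuasiCompact g' := MorphismProperty.of_isPullback (P := @QuasiCompact) hY ‹_›
    haveI : LocallyOfFiniteType (f' ≫ g') :=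
      MorphismProperty.of_isPullback (P := @LocallyOfFiniteType) (hX.paste_vert hY) ‹_›
    haveI : QuasiCompact (f' ≫ g') := MorphismProperty.of_isPullback (P := @QuasiCompact) (hX.paste_vert hY) ‹_›
    exact (h f g).symm.trans ((hP.1 f g f' g' eX eY h' hY hX).trans (h f' g'))
  · rw [show ConsProp.locusMor Q f g = ConsProp.locusMor P f g from Set.ext fun s => by
      obtain ⟨_, _, _, _⟩ := instances_fiber f g s
      exact (h _ _).symm]
    exact hP.2 f g

theorem open_restrict {S : Scheme.{u}} [IsIntegral S] [IsNoetherian S] (V : S.Opens) (hV : (V : Set S).Nonempty) :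
    IsIntegral V.toScheme ∧ IsNoetherian V.toScheme ∧ QuasiCompact V.ι := by
  haveI : Nonempty V.toScheme := hV.to_subtype
  haveI : IsIntegral V.toScheme := isIntegral_of_isOpenImmersion V.ι
  haveI : IsLocallyNoetherian V.toScheme := isLocallyNoetherian_of_isOpenImmersion V.ι
  haveI : CompactSpace V.toScheme := isCompact_iff_compactSpace.mp (TopologicalSpace.NoetherianSpace.isCompact _)
  exact ⟨‹_›, { toIsLocallyNoetherian := ‹_›, toCompactSpace := ‹_› }, inferInstance⟩

/-- the dichotomy may be checked after shrinking the base -/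
theorem interior_or_of_restrict (hP : ConsProp.IsFieldStableMor P) {X Y S : Scheme.{u}} (f : X ⟶ Y) (g : Y ⟶ S)
    [IsIntegral S] [IsNoetherian S] [LocallyOfFiniteType g] [QuasiCompact g]
    [LocallyOfFiniteType (f ≫ g)] [QuasiCompact (f ≫ g)] (V : S.Opens) (hV : (V : Set S).Nonempty)
    (h : ∀ {X' Y' : Scheme.{u}} (f' : X' ⟶ Y') (g' : Y' ⟶ V.toScheme) [IsIntegral V.toScheme] [IsNoetherian V.toScheme]
      [LocallyOfFiniteType g'] [QuasiCompact g'] [LocallyOfFiniteType (f' ≫ g')] [QuasiCompact (f' ≫ g')]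
      (eX : X' ⟶ X) (eY : Y' ⟶ Y), IsPullback eY g' g V.ι → IsPullback eX f' f eY →
      (interior (ConsProp.locusMor P f' g')).Nonempty ∨ (interior (ConsProp.locusMor P f' g')ᶜ).Nonempty) :
    (interior (ConsProp.locusMor P f g)).Nonempty ∨ (interior (ConsProp.locusMor P f g)ᶜ).Nonempty := by
  obtain ⟨_, _, _⟩ := open_restrict V hV
  have hY : IsPullback (pullback.fst g V.ι) (pullback.snd g V.ι) g V.ι := .of_hasPullback _ _
  have hX : IsPullback (pullback.fst f (pullback.fst g V.ι)) (pullback.snd f (pullback.fst g V.ι)) f (pullback.fst g V.ι) :=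
    .of_hasPullback _ _
  haveI : LocallyOfFiniteType (pullback.snd f (pullback.fst g V.ι) ≫ pullback.snd g V.ι) :=
    MorphismProperty.of_isPullback (P := @LocallyOfFiniteType) (hX.paste_vert hY) ‹_›
  haveI : QuasiCompact (pullback.snd f (pullback.fst g V.ι) ≫ pullback.snd g V.ι) :=
    MorphismProperty.of_isPullback (P := @QuasiCompact) (hX.paste_vert hY) ‹_›
  have := h _ _ _ _ hY hX
  rw [locusMor_preimage hP hY hX] at this
  have key : ∀ E : Set S, (interior (V.ι ⁻¹' E : Set V.toScheme)).Nonempty → (interior E).Nonempty := fun E ⟨z, hz⟩ =>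
    ⟨V.ι z, mem_interior.mpr ⟨V.ι '' interior (V.ι ⁻¹' E), by
      rintro _ ⟨w, hw, rfl⟩; exact interior_subset (s := (V.ι ⁻¹' E : Set V.toScheme)) hw,
      V.ι.isOpenEmbedding.isOpenMap _ isOpen_interior, z, hz, rfl⟩⟩
  exact this.imp (key _) (key _)

/-- a relation holds iff the point of the base is in its locus -/
theorem iff_point (hP : ConsProp.IsFieldStableMor P) {X Y T : Scheme.{u}} (f : X ⟶ Y) (g : Y ⟶ T)
    [IsIntegral T] [Subsingleton T] [LocallyOfFiniteType g] [QuasiCompact g]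
    [LocallyOfFiniteType (f ≫ g)] [QuasiCompact (f ≫ g)] (t : T) :
    P f g ↔ t ∈ ConsProp.locusMor P f g :=
  hP f g _ _ _ _ _ (isPullback_fiber g t) (isPullback_fiberMap f g t)

theorem surjective_flat_qc {T T' : Scheme.{u}} (h : T' ⟶ T) [IsIntegral T] [Subsingleton T] [IsIntegral T']
    [Subsingleton T'] : Surjective h ∧ Flat h ∧ QuasiCompact h := by
  haveI : Surjective h := ⟨fun t => ⟨Classical.arbitrary T', Subsingleton.elim _ _⟩⟩
  exact ⟨inferInstance, inferInstance, inferInstance⟩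

/-- properties of morphisms with fpqc descent are stable under extension of the field -/
theorem isFieldStableMor_of_descends (R : MorphismProperty Scheme.{u}) [R.IsStableUnderBaseChange]
    [R.DescendsAlong (@Surjective ⊓ @Flat ⊓ @QuasiCompact)] :
    ConsProp.IsFieldStableMor (fun X Y T f g => R f) := by
  intro X X' Y Y' T T' f g f' g' eX eY h _ _ _ _ _ _ _ _ hY hX
  obtain ⟨h1, h2, h3⟩ := surjective_flat_qc h
  exact ⟨fun hf => R.of_isPullback hX hf, fun hf => MorphismProperty.of_isPullback_of_descendsAlong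
    (P := R) (Q := @Surjective ⊓ @Flat ⊓ @QuasiCompact) hX.flip
    ⟨⟨MorphismProperty.of_isPullback (P := @Surjective) hY.flip h1,
      MorphismProperty.of_isPullback (P := @Flat) hY.flip h2⟩,
      MorphismProperty.of_isPullback (P := @QuasiCompact) hY.flip h3⟩ hf⟩

/-- a property of morphisms that spreads out along a limit of affine schemes -/
def SpreadsOut (R : MorphismProperty Scheme.{u}) : Prop :=
  ∀ {I : Type u} [SmallCategory I] [IsCofiltered I] (D : I ⥤ Scheme.{u}) [∀ {i j} (f : i ⟶ j), IsAffineHom (D.map f)]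
    (c : Cone D) (_ : IsLimit c) {i₀ : I} [IsAffine (D.obj i₀)] {X₀ Y₀ : Scheme.{u}} (f₀ : X₀ ⟶ Y₀)
    (g₀ : Y₀ ⟶ D.obj i₀) [LocallyOfFinitePresentation g₀] [QuasiCompact g₀] [QuasiSeparated g₀]
    [LocallyOfFinitePresentation (f₀ ≫ g₀)] [QuasiCompact (f₀ ≫ g₀)] [QuasiSeparated (f₀ ≫ g₀)]
    {X Y : Scheme.{u}} (f : X ⟶ Y) (g : Y ⟶ c.pt) (qY : Y ⟶ Y₀) (qX : X ⟶ X₀)
    (_ : IsPullback qY g g₀ (c.π.app i₀)) (_ : IsPullback qX f f₀ qY),
    R f → ∃ j : Over i₀, R (LimDesc.stageMap D g₀ f₀ j)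

theorem interior_of_generic (R : MorphismProperty Scheme.{u}) [R.IsStableUnderBaseChange]
    (hP : ConsProp.IsFieldStableMor (fun X Y T f g => R f)) (hS : SpreadsOut R) {X Y S : Scheme.{u}} (f : X ⟶ Y) (g : Y ⟶ S)
    [IsIntegral S] [IsNoetherian S] [LocallyOfFiniteType g] [QuasiCompact g]
    [LocallyOfFiniteType (f ≫ g)] [QuasiCompact (f ≫ g)]
    (hη : genericPoint S ∈ ConsProp.locusMor (fun X Y T f g => R f) f g) :
    (interior (ConsProp.locusMor (fun X Y T f g => R f) f g)).Nonempty := by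
  classical
  obtain ⟨V, hV, hηV, -⟩ := exists_isAffineOpen_mem_and_subset (U := (⊤ : S.Opens)) (x := genericPoint S) trivial
  haveI : Nonempty V := ⟨⟨_, hηV⟩⟩
  haveI : IsDomain Γ(S, V) := IsIntegral.component_integral V
  let A := Γ(S, V)
  let K := FractionRing A
  haveI : IsCofiltered (FgOver A K)ᵒᵖ := isCofiltered_op_of_isFiltered _
  let D := fgOverDiagram A K
  let c := fgOverCone A K
  let i₀ : (FgOver A K)ᵒᵖ := Opposite.op ⟨⊥, Subalgebra.fg_bot⟩
  let m : ∀ j : (FgOver A K)ᵒᵖ, D.obj j ⟶ S :=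
    fun j => Spec.map (CommRingCat.ofHom (algebraMap A j.unop.1)) ≫ hV.fromSpec
  have hm : ∀ (j k : (FgOver A K)ᵒᵖ) (e : j ⟶ k), D.map e ≫ m k = m j := fun j k e => by
    show Spec.map _ ≫ Spec.map _ ≫ hV.fromSpec = Spec.map _ ≫ hV.fromSpec
    rw [← Spec.map_comp_assoc]
    rfl
  haveI : IsAffine (D.obj i₀) := inferInstanceAs (IsAffine (Spec _))
  have h0Y : IsPullback (pullback.fst g (m i₀)) (pullback.snd g (m i₀)) g (m i₀) := .of_hasPullback _ _
  have h0X : IsPullback (pullback.fst f (pullback.fst g (m i₀))) (pullback.snd f (pullback.fst g (m i₀))) f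
      (pullback.fst g (m i₀)) := .of_hasPullback _ _
  let g₀ := pullback.snd g (m i₀)
  let f₀ := pullback.snd f (pullback.fst g (m i₀))
  have hKY : IsPullback (pullback.fst g₀ (c.π.app i₀)) (pullback.snd g₀ (c.π.app i₀)) g₀ (c.π.app i₀) :=
    .of_hasPullback _ _
  have hKX : IsPullback (pullback.fst f₀ (pullback.fst g₀ (c.π.app i₀))) (pullback.snd f₀ (pullback.fst g₀ (c.π.app i₀)))
      f₀ (pullback.fst g₀ (c.π.app i₀)) := .of_hasPullback _ _
  haveI : LocallyOfFiniteType (f₀ ≫ g₀) :=
    MorphismProperty.of_isPullback (P := @LocallyOfFiniteType) (h0X.paste_vert h0Y) ‹_›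
  haveI : QuasiCompact (f₀ ≫ g₀) := MorphismProperty.of_isPullback (P := @QuasiCompact) (h0X.paste_vert h0Y) ‹_›
  haveI : IsLocallyNoetherian Y := LocallyOfFiniteType.isLocallyNoetherian g
  haveI : IsLocallyNoetherian X := LocallyOfFiniteType.isLocallyNoetherian (f ≫ g)
  haveI : LocallyOfFinitePresentation g₀ :=
    MorphismProperty.of_isPullback (P := @LocallyOfFinitePresentation) h0Y (lfp_of_lft g)
  haveI : QuasiSeparated g₀ := MorphismProperty.of_isPullback (P := @QuasiSeparated) h0Y inferInstance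
  haveI : LocallyOfFinitePresentation (f₀ ≫ g₀) :=
    MorphismProperty.of_isPullback (P := @LocallyOfFinitePresentation) (h0X.paste_vert h0Y) (lfp_of_lft (f ≫ g))
  haveI : QuasiSeparated (f₀ ≫ g₀) :=
    MorphismProperty.of_isPullback (P := @QuasiSeparated) (h0X.paste_vert h0Y) inferInstance
  haveI : IsIntegral c.pt := inferInstanceAs (IsIntegral (Spec (CommRingCat.of K)))
  haveI : Subsingleton c.pt := inferInstanceAs (Subsingleton (PrimeSpectrum K))
  haveI : IsIntegral (((Functor.const (FgOver A K)ᵒᵖ).obj c.pt).obj i₀) := inferInstanceAs (IsIntegral c.pt)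
  haveI : Subsingleton (((Functor.const (FgOver A K)ᵒᵖ).obj c.pt).obj i₀) := inferInstanceAs (Subsingleton c.pt)
  let t : c.pt := Classical.arbitrary c.pt
  have hbot : (c.π.app i₀ ≫ m i₀) t = genericPoint S := by
    rw [show c.π.app i₀ ≫ m i₀ = Spec.map (CommRingCat.ofHom (algebraMap A K)) ≫ hV.fromSpec by
      show Spec.map _ ≫ Spec.map _ ≫ hV.fromSpec = Spec.map _ ≫ hV.fromSpec
      rw [← Spec.map_comp_assoc]
      rfl]
    show hV.fromSpec (Spec.map (CommRingCat.ofHom (algebraMap A K)) t) = genericPoint S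
    obtain ⟨q, hq⟩ : genericPoint S ∈ Set.range hV.fromSpec := by rw [hV.range_fromSpec]; exact hηV
    refine (Specializes.antisymm ((genericPoint_spec S).specializes trivial) ?_).eq.symm
    rw [← hq]
    refine Specializes.map ?_ hV.fromSpec.continuous
    refine (PrimeSpectrum.le_iff_specializes (R := A) _ q).mp ?_
    have h0 : ∀ p : PrimeSpectrum K, p.asIdeal.comap (algebraMap A K) ≤ q.asIdeal := fun p a ha => by
      rcases Ideal.eq_bot_or_top p.asIdeal with h | h
      · rw [Ideal.mem_comap, h, Ideal.mem_bot, IsFractionRing.to_map_eq_zero_iff] at ha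
        rw [ha]
        exact zero_mem _
      · exact absurd h p.2.ne_top
    exact h0 t
  haveI : LocallyOfFiniteType (pullback.snd f₀ (pullback.fst g₀ (c.π.app i₀)) ≫ pullback.snd g₀ (c.π.app i₀)) :=
    MorphismProperty.of_isPullback (P := @LocallyOfFiniteType) (hKX.paste_vert hKY) ‹_›
  haveI : QuasiCompact (pullback.snd f₀ (pullback.fst g₀ (c.π.app i₀)) ≫ pullback.snd g₀ (c.π.app i₀)) :=
    MorphismProperty.of_isPullback (P := @QuasiCompact) (hKX.paste_vert hKY) ‹_›
  have hRK : R (pullback.snd f₀ (pullback.fst g₀ (c.π.app i₀))) := by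
    refine (iff_point hP _ (pullback.snd g₀ (c.π.app i₀)) t).mpr ?_
    rw [locusMor_preimage hP (hKY.paste_horiz h0Y) (hKX.paste_horiz h0X), Set.mem_preimage, hbot]
    exact hη
  obtain ⟨j, hj⟩ := hS D c (fgOverIsLimit A K) f₀ g₀ _ _ _ _ hKY hKX hRK
  obtain ⟨T, hT⟩ := j.left.unop.2
  obtain ⟨⟨d, hd⟩, hint⟩ := IsLocalization.exist_integer_multiples_of_finset (nonZeroDivisors A) T
  have hd0 : algebraMap A K d ≠ 0 := by
    simpa using (IsFractionRing.to_map_eq_zero_iff (K := K)).not.mpr (nonZeroDivisors.ne_zero hd)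
  let B' : FgOver A K := ⟨Algebra.adjoin A {(algebraMap A K d)⁻¹}, by
    simpa using Subalgebra.fg_adjoin_finset (R := A) ({(algebraMap A K d)⁻¹} : Finset K)⟩
  have hle : j.left.unop.1 ≤ B'.1 := by
    rw [← hT]
    refine Algebra.adjoin_le fun x hx => ?_
    obtain ⟨a, ha⟩ := hint x hx
    have : x = algebraMap A K a * (algebraMap A K d)⁻¹ := by
      rw [eq_mul_inv_iff_mul_eq₀ hd0, ha, Algebra.smul_def, mul_comm]
    rw [this]
    exact mul_mem (Subalgebra.algebraMap_mem _ _) (Algebra.subset_adjoin rfl)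
  haveI : IsLocalization.Away d B'.1 := by
    have hu : IsUnit (algebraMap A B'.1 d) :=
      IsUnit.of_mul_eq_one ⟨(algebraMap A K d)⁻¹, Algebra.subset_adjoin rfl⟩
        (Subtype.ext (mul_inv_cancel₀ hd0))
    refine IsLocalization.Away.mk d hu (fun z => ?_) (fun a b hab => ⟨0, ?_⟩)
    · obtain ⟨p, hp⟩ : ∃ p : Polynomial A, Polynomial.aeval ((algebraMap A K d)⁻¹) p = z.1 := by
        have h2 : z.1 ∈ Algebra.adjoin A {(algebraMap A K d)⁻¹} := z.2
        rw [Algebra.adjoin_singleton_eq_range_aeval] at h2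
        exact h2
      refine ⟨p.natDegree, (p.reverse).eval d, Subtype.ext ?_⟩
      show z.1 * algebraMap A K d ^ p.natDegree = algebraMap A K ((p.reverse).eval d)
      rw [← hp, ← Polynomial.eval₂_id, Polynomial.hom_eval₂, RingHom.comp_id]
      haveI : Invertible ((algebraMap A K d)⁻¹) := invertibleOfNonzero (inv_ne_zero hd0)
      have h1 := Polynomial.eval₂_reverse_mul_pow (algebraMap A K) ((algebraMap A K d)⁻¹) p
      rw [invOf_eq_inv, inv_inv] at h1
      rw [Polynomial.aeval_def, ← h1, mul_assoc, ← mul_pow, inv_mul_cancel₀ hd0, one_pow, mul_one]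
    · simpa using IsFractionRing.injective A K (congrArg Subtype.val hab)
  let e₁ : Opposite.op B' ⟶ j.left := (homOfLE (show j.left.unop ≤ B' from hle)).op
  let k : Over i₀ := Over.mk (e₁ ≫ j.hom)
  let a : k ⟶ j := Over.homMk e₁
  have hk : R (LimDesc.stageMap D g₀ f₀ k) := R.of_isPullback (LimDesc.isPullback_trans_stageMap D g₀ f₀ a) hj
  haveI : IsOpenImmersion (Spec.map (CommRingCat.ofHom (algebraMap A B'.1))) :=
    IsOpenImmersion.of_isLocalization d
  haveI : IsOpenImmersion (m k.left) := inferInstanceAs (IsOpenImmersion (Spec.map (CommRingCat.ofHom (algebraMap A B'.1)) ≫ hV.fromSpec))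
  haveI : Nonempty (D.obj k.left) := ⟨c.π.app k.left t⟩
  refine Set.Nonempty.mono (interior_maximal ?_ (m k.left).isOpenEmbedding.isOpen_range) (Set.range_nonempty _)
  rintro _ ⟨s, rfl⟩
  have hYk := (LimDesc.isPullback_stage D g₀ k).paste_horiz h0Y
  have hXk := (LimDesc.isPullback_stageMap D g₀ f₀ k).paste_horiz h0X
  rw [hm] at hYk
  exact (mem_locusMor_iff hP hYk hXk s).mp (R.of_isPullback (isPullback_fiberMap _ _ s) hk)

end Groth.Agent.ConsEngine
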