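import Groth.Agent.LimModel.FgSubalgebra
import Groth.Agent.LimMore.Hom

/-!
A morphism of finitely presented schemes over an affine base comes from one over a finitely
generated `ℤ`-subalgebra.
-/

set_option autoImplicit false
universe u
open CategoryTheory CategoryTheory.Limits AlgebraicGeometry

namespace Groth.Agent.ConsEngine

open LimModel LimDesc

theorem exists_model_over {I : Type u} [SmallCategory I] (D : I ⥤ Scheme.{u}) (c : Cone D) {i k : I} (e : k ⟶ i)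
    {Y Y₀ : Scheme.{u}} {g : Y ⟶ c.pt} {b : Y₀ ⟶ D.obj i} {q : Y ⟶ Y₀}
    (h : IsPullback q g b (c.π.app i)) :
    ∃ q' : Y ⟶ pullback b (D.map e), IsPullback q' g (pullback.snd b (D.map e)) (c.π.app k) := by
  refine ⟨pullback.lift q (g ≫ c.π.app k) (by rw [Category.assoc, c.w e, h.w]),
    IsPullback.of_right ?_ (pullback.lift_snd _ _ _) (IsPullback.of_hasPullback _ _)⟩
  rw [pullback.lift_fst, c.w e]
  exact h

theorem exists_model_mor_cone {I : Type u} [SmallCategory I] [IsCofiltered I] (D : I ⥤ Scheme.{u})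
    [∀ {i j} (f : i ⟶ j), IsAffineHom (D.map f)] [∀ i, CompactSpace (D.obj i)]
    [∀ i, QuasiSeparatedSpace (D.obj i)] (c : Cone D) (hc : IsLimit c)
    {X Y : Scheme.{u}} (f : X ⟶ Y) (g : Y ⟶ c.pt)
    [LocallyOfFinitePresentation g] [QuasiCompact g] [QuasiSeparated g]
    [LocallyOfFinitePresentation (f ≫ g)] [QuasiCompact (f ≫ g)] [QuasiSeparated (f ≫ g)] :
    ∃ (j : I) (X₀ Y₀ : Scheme.{u}) (f₀ : X₀ ⟶ Y₀) (g₀ : Y₀ ⟶ D.obj j) (qY : Y ⟶ Y₀) (qX : X ⟶ X₀),
      LocallyOfFinitePresentation g₀ ∧ QuasiCompact g₀ ∧ QuasiSeparated g₀ ∧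
      LocallyOfFinitePresentation (f₀ ≫ g₀) ∧ QuasiCompact (f₀ ≫ g₀) ∧ QuasiSeparated (f₀ ≫ g₀) ∧
      IsPullback qY g g₀ (c.π.app j) ∧ IsPullback qX f f₀ qY := by
  obtain ⟨i, Yi, bi, qi, hb1, hb2, hb3, hYi⟩ := exists_model D c hc (a := g)
  obtain ⟨i', Xi, ai, qi', ha1, ha2, ha3, hXi⟩ := exists_model D c hc (a := f ≫ g)
  obtain ⟨k, e, e', -⟩ := IsCofilteredOrEmpty.cone_objs i i'
  obtain ⟨qY, hY⟩ := exists_model_over D c e hYi
  obtain ⟨qX, hX⟩ := exists_model_over D c e' hXi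
  have : CompactSpace ↥(pullback ai (D.map e')) :=
    QuasiCompact.compactSpace_of_compactSpace (pullback.snd ai (D.map e'))
  have : QuasiSeparatedSpace ↥(pullback ai (D.map e')) :=
    quasiSeparatedSpace_of_quasiSeparated (pullback.snd ai (D.map e'))
  obtain ⟨j, fj, hfj, hfj'⟩ := LimMore.exists_hom D c hc (pullback.snd ai (D.map e'))
    (pullback.snd bi (D.map e)) hX hY f rfl
  have hYj := isPullback_proj D (pullback.snd bi (D.map e)) c hY j
  have hXj := isPullback_proj D (pullback.snd ai (D.map e')) c hX j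
  refine ⟨j.left, _, _, fj, toStage D (pullback.snd bi (D.map e)) j, proj D _ c hY j, proj D _ c hX j,
    inferInstance, inferInstance, inferInstance, ?_, ?_, ?_, hYj, IsPullback.of_bot ?_ hfj' hYj⟩
  · rw [hfj]; infer_instance
  · rw [hfj]; infer_instance
  · rw [hfj]; infer_instance
  · rw [hfj]; exact hXj

/-- A morphism of finitely presented schemes over `Spec A` is the base change of one over a
noetherian base. -/
theorem exists_model_mor {A : Type u} [CommRing A] {X Y : Scheme.{u}} (f : X ⟶ Y) (g : Y ⟶ Spec (CommRingCat.of A))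
    [LocallyOfFinitePresentation g] [QuasiCompact g] [QuasiSeparated g]
    [LocallyOfFinitePresentation (f ≫ g)] [QuasiCompact (f ≫ g)] [QuasiSeparated (f ≫ g)] :
    ∃ (S₀ : Scheme.{u}) (σ : Spec (CommRingCat.of A) ⟶ S₀) (X₀ Y₀ : Scheme.{u}) (f₀ : X₀ ⟶ Y₀) (g₀ : Y₀ ⟶ S₀)
      (qY : Y ⟶ Y₀) (qX : X ⟶ X₀), IsNoetherian S₀ ∧
      LocallyOfFinitePresentation g₀ ∧ QuasiCompact g₀ ∧ QuasiSeparated g₀ ∧
      LocallyOfFinitePresentation (f₀ ≫ g₀) ∧ QuasiCompact (f₀ ≫ g₀) ∧ QuasiSeparated (f₀ ≫ g₀) ∧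
      IsPullback qY g g₀ σ ∧ IsPullback qX f f₀ qY := by
  haveI : IsCofiltered (FgSub A)ᵒᵖ := isCofiltered_op_of_isFiltered _
  haveI : ∀ i : (FgSub A)ᵒᵖ, CompactSpace ((fgDiagram A).obj i) := fun i => inferInstance
  haveI : ∀ i : (FgSub A)ᵒᵖ, QuasiSeparatedSpace ((fgDiagram A).obj i) := fun i => inferInstance
  haveI : @LocallyOfFinitePresentation Y (fgCone A).pt g := ‹LocallyOfFinitePresentation g›
  haveI : @QuasiCompact Y (fgCone A).pt g := ‹QuasiCompact g›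
  haveI : @QuasiSeparated Y (fgCone A).pt g := ‹QuasiSeparated g›
  haveI : @LocallyOfFinitePresentation X (fgCone A).pt (f ≫ g) := ‹LocallyOfFinitePresentation (f ≫ g)›
  haveI : @QuasiCompact X (fgCone A).pt (f ≫ g) := ‹QuasiCompact (f ≫ g)›
  haveI : @QuasiSeparated X (fgCone A).pt (f ≫ g) := ‹QuasiSeparated (f ≫ g)›
  obtain ⟨j, X₀, Y₀, f₀, g₀, qY, qX, h⟩ :=
    exists_model_mor_cone (fgDiagram A) (fgCone A) (fgIsLimit A) f (g : Y ⟶ (fgCone A).pt)
  have hn : IsNoetherianRing ↥(j.unop.1 : Subalgebra ℤ A) := by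
    haveI : Algebra.FiniteType ℤ ↥(j.unop.1 : Subalgebra ℤ A) := (Subalgebra.fg_iff_finiteType _).mp j.unop.2
    exact Algebra.FiniteType.isNoetherianRing ℤ _
  have hN : IsNoetherian ((fgDiagram A).obj j) :=
    inferInstanceAs (IsNoetherian (Spec (CommRingCat.of ↥(j.unop.1 : Subalgebra ℤ A))))
  exact ⟨_, (fgCone A).π.app j, X₀, Y₀, f₀, g₀, qY, qX, hN, h⟩

end Groth.Agent.ConsEngine
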