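import Groth.Agent.ConsEngine.Main
import Groth.Agent.S3398

/-!
Pointwise relations on morphisms (every fibre of `f` has a property).
-/

set_option autoImplicit false
universe u
open CategoryTheory CategoryTheory.Limits AlgebraicGeometry

namespace Groth.Agent.ConsEngine

variable {P : ∀ ⦃Y T : Scheme.{u}⦄, (Y ⟶ T) → Prop}

theorem fibre_iff (hP : ConsProp.IsFieldStable P) {X X' Y Y' : Scheme.{u}} {f : X ⟶ Y} {f' : X' ⟶ Y'}
    {eX : X' ⟶ X} {eY : Y' ⟶ Y} [LocallyOfFiniteType f] [QuasiCompact f] (h : IsPullback eX f' f eY) (y' : Y') :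
    P (f'.fiberToSpecResidueField y') ↔ P (f.fiberToSpecResidueField (eY y')) := by
  have : LocallyOfFiniteType (f.fiberToSpecResidueField (eY y')) :=
    MorphismProperty.of_isPullback (P := @LocallyOfFiniteType) (isPullback_fiber f (eY y')) ‹_›
  have : QuasiCompact (f.fiberToSpecResidueField (eY y')) :=
    MorphismProperty.of_isPullback (P := @QuasiCompact) (isPullback_fiber f (eY y')) ‹_›
  exact (hP _ _ _ _ (isPullback_fiberBC h y')).symm

theorem qc_lft_of_comp {X Y T : Scheme.{u}} (f : X ⟶ Y) (g : Y ⟶ T) [IsLocallyNoetherian T]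
    [LocallyOfFiniteType g] [LocallyOfFiniteType (f ≫ g)] [QuasiCompact (f ≫ g)] :
    LocallyOfFiniteType f ∧ QuasiCompact f := by
  have : IsLocallyNoetherian Y := LocallyOfFiniteType.isLocallyNoetherian g
  exact ⟨locallyOfFiniteType_of_comp f g, QuasiCompact.of_comp f g⟩

theorem isFieldStableMor_forall (hP : ConsProp.IsFieldStable P) :
    ConsProp.IsFieldStableMor (fun X Y T f g => ∀ y : ↥Y, P (f.fiberToSpecResidueField y)) := by
  intro X X' Y Y' T T' f g f' g' eX eY h _ _ _ _ _ _ _ _ hY hX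
  obtain ⟨_, _⟩ := qc_lft_of_comp f g
  have : Surjective h := ⟨fun t => ⟨Classical.arbitrary T', Subsingleton.elim _ _⟩⟩
  have : Surjective eY := MorphismProperty.of_isPullback (P := @Surjective) hY.flip this
  refine ⟨fun hall y' => (fibre_iff hP hX y').mpr (hall _), fun hall y => ?_⟩
  obtain ⟨y', rfl⟩ := eY.surjective y
  exact (fibre_iff hP hX y').mp (hall y')

theorem locus_forall_eq (hP : ConsProp.IsFieldStable P) {X Y S : Scheme.{u}} (f : X ⟶ Y) (g : Y ⟶ S)
    [LocallyOfFiniteType f] [QuasiCompact f] :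
    ConsProp.locusMor (fun X Y T f g => ∀ y : ↥Y, P (f.fiberToSpecResidueField y)) f g =
      (g '' (ConsProp.locus P f)ᶜ)ᶜ := by
  ext s
  refine ⟨fun h ⟨y, hy, hys⟩ => hy ?_, fun h y' => ?_⟩
  · obtain ⟨y', rfl⟩ : y ∈ Set.range (g.fiberι s) := by rw [g.range_fiberι]; exact hys
    exact (fibre_iff hP (isPullback_fiberMap f g s) y').mp (h y')
  · refine (fibre_iff hP (isPullback_fiberMap f g s) y').mpr (by_contra fun hn => h ⟨_, hn, ?_⟩)
    have : g.fiberι s y' ∈ g ⁻¹' {s} := by rw [← g.range_fiberι]; exact ⟨y', rfl⟩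
    exact this

/-- a relation on schemes seen as one on morphisms -/
theorem isConsMor_snd (hP : ConsProp.IsCons P) : ConsProp.IsConsMor (fun X Y T f g => P g) :=
  ⟨fun X X' Y Y' T T' f g f' g' eX eY h _ _ _ _ _ _ _ _ hY _ => hP.1 g g' eY h hY,
    fun X Y S f g _ _ _ _ _ _ => hP.2 g⟩

theorem isIndConsMor_snd (hP : ConsProp.IsIndCons P) : ConsProp.IsIndConsMor (fun X Y T f g => P g) :=
  ⟨fun X X' Y Y' T T' f g f' g' eX eY h _ _ _ _ _ _ _ _ hY _ => hP.1 g g' eY h hY,
    fun X Y S f g _ _ _ _ _ _ => hP.2 g⟩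

theorem isLocallyConstructible_locus (hP : ConsProp.IsCons P) {X S : Scheme.{u}} (u : X ⟶ S)
    [LocallyOfFinitePresentation u] [QuasiCompact u] [QuasiSeparated u] :
    Topology.IsLocallyConstructible (ConsProp.locus P u) := by
  have : LocallyOfFinitePresentation (𝟙 X ≫ u) := by simpa
  have : QuasiCompact (𝟙 X ≫ u) := by simpa
  have : QuasiSeparated (𝟙 X ≫ u) := by simpa
  exact isLocallyConstructible_locusMor (isConsMor_snd hP) (𝟙 X) u

theorem indCons_locus (hP : ConsProp.IsIndCons P) {X S : Scheme.{u}} (u : X ⟶ S)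
    [LocallyOfFinitePresentation u] [QuasiCompact u] [QuasiSeparated u] :
    ProCons.IsIndConstructible (ConsProp.locus P u) := by
  have : LocallyOfFinitePresentation (𝟙 X ≫ u) := by simpa
  have : QuasiCompact (𝟙 X ≫ u) := by simpa
  have : QuasiSeparated (𝟙 X ≫ u) := by simpa
  exact indCons_locusMor (isIndConsMor_snd hP) (𝟙 X) u

theorem interior_nonempty_of_indCons {S : Scheme.{u}} [IrreducibleSpace S] [IsLocallyNoetherian S]
    {E : Set S} (hE : ProCons.IsIndConstructible E) (hη : genericPoint S ∈ E) :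
    (interior E).Nonempty := by
  obtain ⟨N, hN, hNo, hxN⟩ := mem_nhds_iff.mp ((S3401.result S E).mp hE _ hη)
  obtain ⟨O, hO, hON⟩ := isOpen_induced_iff.mp hNo
  have hxO : genericPoint S ∈ O := by rw [← hON] at hxN; exact hxN
  refine ⟨genericPoint S, mem_interior.mpr ⟨O, fun y hy => ?_, hO, hxO⟩⟩
  have hy' : y ∈ closure ({genericPoint S} : Set S) := specializes_iff_mem_closure.mp
    ((genericPoint_spec S).specializes (Set.mem_univ y))
  exact hN (show (⟨y, hy'⟩ : ↥(closure ({genericPoint S} : Set S))) ∈ N by rw [← hON]; exact hy)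

theorem interior_or_of_isLocallyConstructible {S : Scheme.{u}} [IrreducibleSpace S] [IsLocallyNoetherian S]
    {E : Set S} (hE : Topology.IsLocallyConstructible E) :
    (interior E).Nonempty ∨ (interior Eᶜ).Nonempty :=
  (Classical.em (genericPoint S ∈ E)).imp
    (interior_nonempty_of_indCons (indCons_of_isLocallyConstructible hE).1)
    (interior_nonempty_of_indCons (indCons_of_isLocallyConstructible hE).2)

theorem isIndConsMor_forall (hP : ConsProp.IsIndCons P) :
    ConsProp.IsIndConsMor (fun X Y T f g => ∀ y : ↥Y, P (f.fiberToSpecResidueField y)) := by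
  refine ⟨isFieldStableMor_forall hP.1, fun X Y S f g _ _ _ _ _ _ hη => ?_⟩
  obtain ⟨_, _⟩ := qc_lft_of_comp f g
  have : IsLocallyNoetherian Y := LocallyOfFiniteType.isLocallyNoetherian g
  have : IsLocallyNoetherian X := LocallyOfFiniteType.isLocallyNoetherian (f ≫ g)
  rw [locus_forall_eq hP.1 f g] at hη ⊢
  refine interior_nonempty_of_indCons (ConsTop.isProConstructible_iff_indCons_compl.mp ?_) hη
  refine S3398.result g _ (ConsTop.isProConstructible_iff_indCons_compl.mpr ?_)
  rw [compl_compl]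
  exact indCons_locus hP f

theorem isConsMor_forall (hP : ConsProp.IsCons P) :
    ConsProp.IsConsMor (fun X Y T f g => ∀ y : ↥Y, P (f.fiberToSpecResidueField y)) := by
  refine ⟨isFieldStableMor_forall hP.1, fun X Y S f g _ _ _ _ _ _ => ?_⟩
  obtain ⟨_, _⟩ := qc_lft_of_comp f g
  have : IsLocallyNoetherian Y := LocallyOfFiniteType.isLocallyNoetherian g
  have : IsLocallyNoetherian X := LocallyOfFiniteType.isLocallyNoetherian (f ≫ g)
  rw [locus_forall_eq hP.1 f g]
  refine interior_or_of_isLocallyConstructible (ConsTop.isLocallyConstructible_compl ?_)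
  exact g.isLocallyConstructible_image (ConsTop.isLocallyConstructible_compl (isLocallyConstructible_locus hP f))

end Groth.Agent.ConsEngine
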