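import Mathlib
import Groth.Agent.S0389

/-!
An open set that is dense in the generic fibre is dense in nearby fibres (ring version).
-/

set_option autoImplicit false
universe u
open TensorProduct

namespace Groth.Agent.ConsEngine

theorem exists_mul_pow_mem {B : Type u} [CommRing B] {I q : Ideal B} (hq : q ∈ I.minimalPrimes) {h : B}
    (hh : h ∈ q) : ∃ s : B, s ∉ q ∧ ∃ n : ℕ, s * h ^ n ∈ I := by
  haveI : q.IsPrime := hq.1.1
  have : algebraMap B (Localization.AtPrime q) h ∈ (I.map (algebraMap B (Localization.AtPrime q))).radical := by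
    rw [Ideal.radical_eq_sInf, Ideal.mem_sInf]
    rintro Q ⟨hIQ, hQ⟩
    have h1 : Q.comap (algebraMap B (Localization.AtPrime q)) ≤ q := fun x hx => by
      by_contra hxq
      exact hQ.ne_top (Ideal.eq_top_of_isUnit_mem _ hx
        (IsLocalization.map_units (Localization.AtPrime q) (⟨x, hxq⟩ : q.primeCompl)))
    exact hq.2 ⟨hQ.comap _, Ideal.map_le_iff_le_comap.mp hIQ⟩ h1 hh
  obtain ⟨n, hn⟩ := this
  rw [← map_pow, IsLocalization.algebraMap_mem_map_algebraMap_iff q.primeCompl] at hn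
  obtain ⟨m, hm, h'⟩ := hn
  exact ⟨m, hm, n, h'⟩

/-- A nonzero element of a finite type domain stays a nonzero divisor on nearby fibres. -/
theorem exists_forall_exists_le_notMem {A B : Type u} [CommRing A] [IsDomain A] [CommRing B] [IsDomain B]
    [Algebra A B] [Algebra.FiniteType A B] (h : B) (hh : h ≠ 0) :
    ∃ f : A, f ≠ 0 ∧ ∀ q : Ideal B, q.IsPrime → f ∉ q.comap (algebraMap A B) →
      ∃ q' : Ideal B, q'.IsPrime ∧ q' ≤ q ∧ q'.comap (algebraMap A B) = q.comap (algebraMap A B) ∧ h ∉ q' := by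
  obtain ⟨f, hf, hfree, -⟩ := S0389.result (R := A) (S := B) (M := B ⧸ Ideal.span {h})
  refine ⟨f, hf, fun q hq hfq => ?_⟩
  set p := q.comap (algebraMap A B) with hp
  have hple : p.map (algebraMap A B) ≤ q := Ideal.map_comap_le
  obtain ⟨q', hq', hq'q⟩ := Ideal.exists_minimalPrimes_le hple
  haveI : q'.IsPrime := hq'.1.1
  have hcq : q'.comap (algebraMap A B) = p :=
    le_antisymm (Ideal.comap_mono hq'q) (Ideal.map_le_iff_le_comap.mp hq'.1.2)
  refine ⟨q', hq'.1.1, hq'q, hcq, fun hhq => ?_⟩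
  obtain ⟨s, hs, n, hn⟩ := exists_mul_pow_mem hq' hhq
  let R := Localization.Away f
  let μ : B →ₗ[A] B := LinearMap.mulLeft A h
  let π : B →ₗ[A] B ⧸ Ideal.span {h} := ((Ideal.span {h}).restrictScalars A).mkQ
  have hexact : Function.Exact μ π := by
    intro y
    show (π y = 0 ↔ y ∈ Set.range μ)
    constructor
    · intro hy
      obtain ⟨a, ha⟩ := Ideal.mem_span_singleton'.mp ((Submodule.Quotient.mk_eq_zero _).mp hy)
      exact ⟨a, by show h * a = y; rw [mul_comm, ha]⟩
    · rintro ⟨a, rfl⟩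
      exact (Submodule.Quotient.mk_eq_zero _).mpr (Ideal.mem_span_singleton.mpr ⟨a, rfl⟩)
  have hπ : Function.Surjective π := Submodule.mkQ_surjective _
  haveI : Module.Flat A R := IsLocalization.flat R (Submonoid.powers f)
  have hμ : Function.Injective (μ.baseChange R) := by
    show Function.Injective (μ.lTensor R)
    exact Module.Flat.lTensor_preserves_injective_linearMap μ (mul_right_injective₀ hh)
  have hexact' : Function.Exact (μ.baseChange R) (π.baseChange R) := lTensor_exact R hexact hπ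
  haveI : Module.Projective R (R ⊗[A] (B ⧸ Ideal.span {h})) := Module.Projective.of_free
  obtain ⟨sec, hsec⟩ := Module.projective_lifting_property (π.baseChange R) LinearMap.id
    (LinearMap.lTensor_surjective R hπ)
  have hr : ∀ y, y - sec (π.baseChange R y) ∈ LinearMap.range (μ.baseChange R) := fun y => by
    refine (hexact' _).mp ?_
    rw [map_sub, ← LinearMap.comp_apply (π.baseChange R) sec, hsec, LinearMap.id_apply, sub_self]
  let e := LinearEquiv.ofInjective _ hμ
  let r : R ⊗[A] B →ₗ[R] R ⊗[A] B :=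
    e.symm.toLinearMap ∘ₗ LinearMap.codRestrict _ (LinearMap.id - sec ∘ₗ π.baseChange R) hr
  have hμeq : ∀ x, μ.baseChange R x = (1 ⊗ₜ h) * x := fun x => by
    induction x using TensorProduct.induction_on with
    | zero => simp
    | tmul a b => simp [μ]
    | add x y hx hy => rw [map_add, hx, hy, mul_add]
  have hr' : ∀ x, r ((1 ⊗ₜ h) * x) = x := fun x => by
    apply e.injective
    apply Subtype.ext
    show (e (e.symm (LinearMap.codRestrict _ _ hr ((1 ⊗ₜ h) * x)))).1 = μ.baseChange R x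
    rw [LinearEquiv.apply_symm_apply, ← hμeq]
    show μ.baseChange R x - sec (π.baseChange R (μ.baseChange R x)) = μ.baseChange R x
    rw [hexact'.apply_apply_eq_zero, map_zero, sub_zero]
  let J : Ideal (R ⊗[A] B) := (p.map (algebraMap A R)).map (algebraMap R (R ⊗[A] B))
  have hJ : ∀ x, (1 ⊗ₜ h) * x ∈ J → x ∈ J := fun x hx => by
    have hJ' : J.restrictScalars R = (p.map (algebraMap A R)) • (⊤ : Submodule R (R ⊗[A] B)) :=
      (Ideal.smul_top_eq_map _).symm
    have h2 : (1 ⊗ₜ h) * x ∈ J.restrictScalars R := hx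
    rw [hJ'] at h2
    have h3 := Submodule.mem_map_of_mem (f := r) h2
    rw [Submodule.map_smul'', hr'] at h3
    have h4 : x ∈ (p.map (algebraMap A R)) • (⊤ : Submodule R (R ⊗[A] B)) :=
      Submodule.smul_mono le_rfl le_top h3
    rw [← hJ'] at h4
    exact h4
  let K := FractionRing (B ⧸ q')
  let g : B →ₐ[A] K := (IsScalarTower.toAlgHom A (B ⧸ q') K).comp (Ideal.Quotient.mkₐ A q')
  have hg : ∀ b, g b = 0 ↔ b ∈ q' := fun b => by
    show algebraMap (B ⧸ q') K (Ideal.Quotient.mk q' b) = 0 ↔ _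
    rw [IsFractionRing.to_map_eq_zero_iff, Ideal.Quotient.eq_zero_iff_mem]
  have hfu : ∀ y : Submonoid.powers f, IsUnit (algebraMap A K y) := by
    rintro ⟨_, k, rfl⟩
    show IsUnit (algebraMap A K (f ^ k))
    rw [map_pow]
    refine (IsUnit.mk0 _ fun h0 => hfq ?_).pow k
    show f ∈ p
    rw [← hcq]
    exact (hg _).mp (by rwa [AlgHom.commutes])
  let φ : R ⊗[A] B →ₐ[A] K :=
    Algebra.TensorProduct.lift (IsLocalization.liftAlgHom (f := Algebra.ofId A K) hfu) g
      (fun _ _ => Commute.all _ _)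
  have hφJ : ∀ x ∈ J, φ x = 0 := fun x hx => by
    have hker : J ≤ RingHom.ker φ.toRingHom := by
      simp only [J, Ideal.map_le_iff_le_comap]
      intro a ha
      show φ (algebraMap R (R ⊗[A] B) (algebraMap A R a)) = 0
      rw [← IsScalarTower.algebraMap_apply, AlgHom.commutes, ← g.commutes]
      exact (hg _).mpr (show a ∈ q'.comap (algebraMap A B) from hcq.symm ▸ ha)
    exact hker hx
  refine hs ((hg s).mp ?_)
  have hcancel : ∀ (k : ℕ) (y : R ⊗[A] B), (1 ⊗ₜ h) ^ k * y ∈ J → y ∈ J := by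
    intro k
    induction k with
    | zero => exact fun y hy => by simpa using hy
    | succ k ih => exact fun y hy => ih y (hJ _ (by rwa [← mul_assoc, ← pow_succ']))
  have h1 : (1 : R) ⊗ₜ[A] (s * h ^ n) ∈ J := by
    let ι : B →ₐ[A] R ⊗[A] B := Algebra.TensorProduct.includeRight
    have h5 := Ideal.mem_map_of_mem ι.toRingHom hn
    rw [Ideal.map_map, show ι.toRingHom.comp (algebraMap A B) =
      (algebraMap R (R ⊗[A] B)).comp (algebraMap A R) from RingHom.ext fun a => by
        simp [← IsScalarTower.algebraMap_apply], ← Ideal.map_map] at h5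
    exact h5
  have h2 : (1 : R) ⊗ₜ[A] s ∈ J := hcancel n _ (by
    rwa [Algebra.TensorProduct.tmul_pow, one_pow, Algebra.TensorProduct.tmul_mul_tmul, one_mul, mul_comm])
  simpa [φ] using hφJ _ h2

/-- An open set containing the minimal primes over the generic point is dense in nearby fibres. -/
theorem exists_forall_exists_le_mem {A B : Type u} [CommRing A] [IsDomain A] [CommRing B] [IsNoetherianRing B]
    [Algebra A B] [Algebra.FiniteType A B] (U : Set (PrimeSpectrum B)) (hU : IsOpen U)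
    (hgen : ∀ Q : PrimeSpectrum B, Q.asIdeal ∈ minimalPrimes B → Q.asIdeal.comap (algebraMap A B) = ⊥ → Q ∈ U) :
    ∃ f : A, f ≠ 0 ∧ ∀ Q : PrimeSpectrum B, f ∉ Q.asIdeal.comap (algebraMap A B) →
      ∃ Q' : PrimeSpectrum B, Q' ≤ Q ∧
        Q'.asIdeal.comap (algebraMap A B) = Q.asIdeal.comap (algebraMap A B) ∧ Q' ∈ U := by
  classical
  have key : ∀ m : Ideal B, m ∈ minimalPrimes B → ∃ f : A, f ≠ 0 ∧ ∀ Q : PrimeSpectrum B,
      m ≤ Q.asIdeal → f ∉ Q.asIdeal.comap (algebraMap A B) →
      ∃ Q' : PrimeSpectrum B, Q' ≤ Q ∧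
        Q'.asIdeal.comap (algebraMap A B) = Q.asIdeal.comap (algebraMap A B) ∧ Q' ∈ U := by
    intro m hm
    haveI : m.IsPrime := hm.1.1
    by_cases hb : m.comap (algebraMap A B) = ⊥
    · obtain ⟨_, ⟨h, rfl⟩, hmh, hhU⟩ :=
        PrimeSpectrum.isTopologicalBasis_basic_opens.exists_subset_of_mem_open (hgen ⟨m, hm.1.1⟩ hm hb) hU
      have hh : Ideal.Quotient.mk m h ≠ 0 := fun h0 => hmh (Ideal.Quotient.eq_zero_iff_mem.mp h0)
      haveI : Algebra.FiniteType A (B ⧸ m) := .of_surjective (Ideal.Quotient.mkₐ A m) Ideal.Quotient.mk_surjective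
      obtain ⟨f, hf, hf'⟩ := exists_forall_exists_le_notMem (A := A) (Ideal.Quotient.mk m h) hh
      refine ⟨f, hf, fun Q hmQ hfQ => ?_⟩
      have hc : (Q.asIdeal.map (Ideal.Quotient.mk m)).comap (Ideal.Quotient.mk m) = Q.asIdeal := by
        rw [Ideal.comap_map_of_surjective _ Ideal.Quotient.mk_surjective, ← RingHom.ker_eq_comap_bot,
          Ideal.mk_ker, sup_eq_left.mpr hmQ]
      have hc' : ∀ I : Ideal (B ⧸ m), (I.comap (Ideal.Quotient.mk m)).comap (algebraMap A B) =
          I.comap (algebraMap A (B ⧸ m)) := fun I => Ideal.comap_comap _ _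
      obtain ⟨q', hq', hle, hcq, hhq⟩ := hf' (Q.asIdeal.map (Ideal.Quotient.mk m))
        (Ideal.map_isPrime_of_surjective Ideal.Quotient.mk_surjective (by rw [Ideal.mk_ker]; exact hmQ))
        (by rw [← hc', hc]; exact hfQ)
      refine ⟨⟨q'.comap (Ideal.Quotient.mk m), hq'.comap _⟩, ?_, ?_, hhU hhq⟩
      · show q'.comap (Ideal.Quotient.mk m) ≤ Q.asIdeal
        rw [← hc]
        exact Ideal.comap_mono hle
      · show (q'.comap (Ideal.Quotient.mk m)).comap (algebraMap A B) = _
        rw [hc', hcq, ← hc', hc]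
    · obtain ⟨a, ha, ha0⟩ := Submodule.exists_mem_ne_zero_of_ne_bot hb
      exact ⟨a, ha0, fun Q hmQ hfQ => absurd (hmQ ha) hfQ⟩
  choose f hf hf' using key
  refine ⟨∏ m ∈ (minimalPrimes.finite_of_isNoetherianRing B).toFinset.attach,
    f m.1 ((Set.Finite.mem_toFinset _).mp m.2), Finset.prod_ne_zero_iff.mpr fun m _ => hf _ _, fun Q hQ => ?_⟩
  obtain ⟨m, hm, hmQ⟩ := Ideal.exists_minimalPrimes_le (bot_le : (⊥ : Ideal B) ≤ Q.asIdeal)
  refine hf' m hm Q hmQ fun hmem => hQ ?_
  exact Ideal.prod_mem (I := Q.asIdeal.comap (algebraMap A B))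
    (f := fun m : {x // x ∈ (minimalPrimes.finite_of_isNoetherianRing B).toFinset} =>
      f m.1 ((Set.Finite.mem_toFinset _).mp m.2))
    (Finset.mem_attach _ ⟨m, (Set.Finite.mem_toFinset _).mpr hm⟩) hmem

end Groth.Agent.ConsEngine
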