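import Groth.Agent.ConsEngine.IndCons
import Groth.Agent.ConsEngine.GenDense
import Groth.Agent.S3403
import Groth.Agent.DvrDom.ClosedProper
import Groth.Agent.FpqcDescent.Immersion

/-!
The closure of a constructible set is computed fibrewise near the generic point of the base.
-/

set_option autoImplicit false
set_option linter.style.haveILetI false
universe u
open CategoryTheory AlgebraicGeometry Topology

namespace Groth.Agent.ConsEngine

/-- the closure of a locally constructible set consists of specialisations of its points -/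
theorem exists_specializes_of_mem_closure {Y : Scheme.{u}} {E : Set Y} (hE : Topology.IsLocallyConstructible E)
    {y : Y} (hy : y ∈ closure E) : ∃ x ∈ E, x ⤳ y := by
  obtain ⟨W, hW, hyW, -⟩ := exists_isAffineOpen_mem_and_subset (U := (⊤ : Y.Opens)) (x := y) trivial
  haveI : IsAffine W.toScheme := hW
  obtain ⟨_, _, _, _⟩ := ConsTop.affine_instances hW
  obtain ⟨X', f, _, hf⟩ := ConsTop.exists_affine_range_eq (Z := W.toScheme) (E := W.ι ⁻¹' E)
    (ConsTop.isClopen_of_isLocallyConstructible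
      (hE.preimage_of_isOpenEmbedding W.2.isOpenEmbedding_subtypeVal)).2
  haveI := hf
  haveI : QuasiCompact f := (quasiCompact_iff_compactSpace (f := f)).mpr inferInstance
  have hy' : (⟨y, hyW⟩ : W.toScheme) ∈ closure (Set.range f) := by
    show _ ∈ closure (Set.range f.base)
    rw [hf, ← W.ι.isOpenEmbedding.isOpenMap.preimage_closure_eq_closure_preimage W.ι.continuous]
    exact hy
  obtain ⟨x', hx'⟩ := FpqcDescent.exists_specializes_of_mem_closure f hy'
  refine ⟨W.ι (f x'), ?_, hx'.map W.ι.continuous⟩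
  have : f x' ∈ W.ι ⁻¹' E := by rw [← hf]; exact ⟨x', rfl⟩
  exact this

variable {Y S : Scheme.{u}} [IsIntegral S] [IsLocallyNoetherian S] (g : Y ⟶ S) [LocallyOfFiniteType g] [QuasiCompact g]

theorem exists_dense_fibres (U : Y.Opens)
    (hU : ∀ y : Y, g y = genericPoint S → (∀ z : Y, z ⤳ y → z = y) → y ∈ U) :
    ∃ V : S.Opens, (V : Set S).Nonempty ∧ ∀ y : Y, g y ∈ V → ∃ z : Y, z ⤳ y ∧ g z = g y ∧ z ∈ U := by
  classical
  haveI : IsLocallyNoetherian Y := LocallyOfFiniteType.isLocallyNoetherian g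
  obtain ⟨V₀, hV₀, hη, -⟩ := exists_isAffineOpen_mem_and_subset (U := (⊤ : S.Opens)) (x := genericPoint S) trivial
  haveI : Nonempty V₀ := ⟨⟨_, hη⟩⟩
  haveI : IsDomain Γ(S, V₀) := IsIntegral.component_integral V₀
  have hbot : hV₀.fromSpec (⟨⊥, Ideal.isPrime_bot⟩ : PrimeSpectrum Γ(S, V₀)) = genericPoint S := by
    obtain ⟨P, hP⟩ : genericPoint S ∈ Set.range hV₀.fromSpec := by rw [hV₀.range_fromSpec]; exact hη
    refine (Specializes.antisymm ((genericPoint_spec S).specializes trivial) ?_).eq.symm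
    rw [← hP]
    exact ((PrimeSpectrum.le_iff_specializes _ _).mp (bot_le : (⊥ : Ideal Γ(S, V₀)) ≤ P.asIdeal)).map
      hV₀.fromSpec.continuous
  obtain ⟨t, ht⟩ := (g.isCompact_preimage hV₀.isCompact).elim_finite_subcover
    (fun W : {W : Y.affineOpens // W.1 ≤ g ⁻¹ᵁ V₀} => (W.1.1 : Set Y)) (fun W => W.1.1.2) (fun y hy => by
      obtain ⟨W, hW, hyW, hsub⟩ := exists_isAffineOpen_mem_and_subset (U := g ⁻¹ᵁ V₀) (x := y) hy
      exact Set.mem_iUnion.mpr ⟨⟨⟨W, hW⟩, hsub⟩, hyW⟩)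
  have key : ∀ W : {W : Y.affineOpens // W.1 ≤ g ⁻¹ᵁ V₀}, ∃ f : Γ(S, V₀), f ≠ 0 ∧
      ∀ y ∈ W.1.1, g y ∈ hV₀.fromSpec '' (PrimeSpectrum.basicOpen f : Set (PrimeSpectrum Γ(S, V₀))) →
        ∃ z : Y, z ⤳ y ∧ g z = g y ∧ z ∈ U := by
    rintro ⟨⟨W, hW⟩, hle⟩
    let φ := g.appLE V₀ W hle
    letI : Algebra Γ(S, V₀) Γ(Y, W) := φ.hom.toAlgebra
    haveI : Algebra.FiniteType Γ(S, V₀) Γ(Y, W) := g.finiteType_appLE hV₀ hW hle
    haveI : IsNoetherianRing Γ(Y, W) := IsLocallyNoetherian.component_noetherian ⟨W, hW⟩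
    have hcomm : ∀ Q : PrimeSpectrum Γ(Y, W), g (hW.fromSpec Q) =
        hV₀.fromSpec (⟨Q.asIdeal.comap φ.hom, inferInstance⟩ : PrimeSpectrum Γ(S, V₀)) := fun Q => by
      rw [← Scheme.Hom.comp_apply, ← hV₀.SpecMap_appLE_fromSpec g hW hle, Scheme.Hom.comp_apply]
      rfl
    obtain ⟨f, hf, hf'⟩ := exists_forall_exists_le_mem (A := Γ(S, V₀))
      (hW.fromSpec ⁻¹' (U : Set Y) : Set (PrimeSpectrum Γ(Y, W))) (U.2.preimage hW.fromSpec.continuous)
      (fun Q hQm hQ => by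
        refine hU _ ?_ fun z hz => ?_
        · rw [hcomm]
          convert hbot using 2
          exact PrimeSpectrum.ext hQ
        · obtain ⟨Q', rfl⟩ : z ∈ Set.range hW.fromSpec := by
            rw [hW.range_fromSpec]
            exact hz.mem_open W.2 (hW.range_fromSpec ▸ ⟨Q, rfl⟩)
          have h1 : Q'.asIdeal ≤ Q.asIdeal :=
            (PrimeSpectrum.le_iff_specializes (R := Γ(Y, W)) Q' Q).mpr
              (hW.fromSpec.isOpenEmbedding.isInducing.specializes_iff.mp hz)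
          congr 1
          exact PrimeSpectrum.ext (le_antisymm h1 (hQm.2 ⟨Q'.2, bot_le⟩ h1)))
    refine ⟨f, hf, fun y hy hgy => ?_⟩
    obtain ⟨Q, rfl⟩ : y ∈ Set.range hW.fromSpec := by rw [hW.range_fromSpec]; exact hy
    obtain ⟨P, hP, hPe⟩ := hgy
    rw [hcomm] at hPe
    have hPQ := hV₀.fromSpec.isOpenEmbedding.injective hPe
    obtain ⟨Q', hle', hc, hQ'U⟩ := hf' Q (by
      have hfP : f ∉ P.asIdeal := hP
      rw [hPQ] at hfP
      exact hfP)
    refine ⟨hW.fromSpec Q', ((PrimeSpectrum.le_iff_specializes _ _).mp hle').map hW.fromSpec.continuous, ?_, hQ'U⟩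
    rw [hcomm, hcomm]
    exact congrArg hV₀.fromSpec (PrimeSpectrum.ext hc)
  choose f hf hf' using key
  refine ⟨⟨hV₀.fromSpec '' (PrimeSpectrum.basicOpen (∏ W ∈ t, f W) : Set (PrimeSpectrum Γ(S, V₀))),
    hV₀.fromSpec.isOpenEmbedding.isOpenMap _ (PrimeSpectrum.basicOpen _).2⟩, ?_, ?_⟩
  · refine ⟨_, ⟨⊥, Ideal.isPrime_bot⟩, ?_, rfl⟩
    show ∏ W ∈ t, f W ∉ (⊥ : Ideal Γ(S, V₀))
    rw [Ideal.mem_bot]
    exact Finset.prod_ne_zero_iff.mpr fun W _ => hf W
  · rintro y ⟨P, hP, hPy⟩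
    have hy : g y ∈ V₀ := by
      show g y ∈ (V₀ : Set S)
      rw [← hV₀.range_fromSpec]
      exact ⟨P, hPy⟩
    obtain ⟨W, hW, hyW⟩ := Set.mem_iUnion₂.mp (ht hy)
    exact hf' W y hyW ⟨P, fun hmem => hP (Ideal.prod_mem (I := P.asIdeal) (f := f) hW hmem), hPy⟩

theorem exists_closure_fibre_subset (E : Set Y) (hE : Topology.IsLocallyConstructible E) :
    ∃ V : S.Opens, (V : Set S).Nonempty ∧
      ∀ y ∈ closure E, g y ∈ V → y ∈ closure (E ∩ g ⁻¹' {g y}) := by
  let C : TopologicalSpace.Closeds Y := ⟨closure E, isClosed_closure⟩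
  let i := (Scheme.IdealSheafData.vanishingIdeal C).subschemeι
  have hr : Set.range i = closure E :=
    (Scheme.IdealSheafData.range_subschemeι _).trans (Scheme.IdealSheafData.coe_support_vanishingIdeal C)
  haveI : IsLocallyNoetherian Y := LocallyOfFiniteType.isLocallyNoetherian g
  haveI : IsLocallyNoetherian (Scheme.IdealSheafData.vanishingIdeal C).subscheme :=
    LocallyOfFiniteType.isLocallyNoetherian i
  have hEi := indCons_preimage i (indCons_of_isLocallyConstructible hE).1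
  have hec := i.isClosedEmbedding.isInducing
  obtain ⟨V, hV, hV'⟩ := exists_dense_fibres (i ≫ g) ⟨interior (i ⁻¹' E), isOpen_interior⟩ (fun w _ hw => by
    refine (S3403.result _ _ hEi w).mpr fun w' hw' => ?_
    rw [hw w' hw']
    by_contra hn
    have hwc : i w ∈ closure E := hr ▸ ⟨w, rfl⟩
    obtain ⟨_, hO, hwO⟩ := exists_specializes_of_mem_closure hE hwc
    obtain ⟨w₁, rfl⟩ : _ ∈ Set.range i := hr ▸ subset_closure hO
    exact hn (hw w₁ (hec.specializes_iff.mp hwO) ▸ hO))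
  refine ⟨V, hV, fun y hy hgy => ?_⟩
  obtain ⟨w, rfl⟩ : y ∈ Set.range i := hr ▸ hy
  obtain ⟨z, hzy, hgz, hzU⟩ := hV' w (by rw [Scheme.Hom.comp_apply]; exact hgy)
  rw [Scheme.Hom.comp_apply, Scheme.Hom.comp_apply] at hgz
  exact (hzy.map i.continuous).mem_closed isClosed_closure
    (subset_closure ⟨interior_subset (s := (i ⁻¹' E : Set _)) hzU, hgz⟩)

end Groth.Agent.ConsEngine
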