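import Groth.Agent.ConsEngine.Points
import Groth.Agent.ConsEngine.ClosureFibre

/-!
Constructibility of: fibre morphism surjective / dominant / with closed range.
-/

set_option autoImplicit false
set_option linter.style.haveILetI false
universe u
open CategoryTheory CategoryTheory.Limits AlgebraicGeometry

namespace Groth.Agent.ConsEngine

theorem range_of_isPullback {X X' Y Y' : Scheme.{u}} {f : X ⟶ Y} {f' : X' ⟶ Y'} {eX : X' ⟶ X} {eY : Y' ⟶ Y}
    (h : IsPullback eX f' f eY) : Set.range f' = eY ⁻¹' Set.range f := by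
  rw [← Scheme.Pullback.range_snd f eY, ← h.isoPullback_hom_snd]
  ext y
  constructor
  · rintro ⟨x, rfl⟩; exact ⟨_, rfl⟩
  · rintro ⟨z, rfl⟩
    exact ⟨h.isoPullback.inv z, by simp [← Scheme.Hom.comp_apply]⟩

variable {X Y S : Scheme.{u}} (f : X ⟶ Y) (g : Y ⟶ S) (s : S)

theorem range_fiberMap : Set.range (MoreMor.fiberMap f g s) = g.fiberι s ⁻¹' Set.range f :=
  range_of_isPullback (isPullback_fiberMap f g s)

theorem surjective_fiberMap_iff :
    Surjective (MoreMor.fiberMap f g s) ↔ g ⁻¹' {s} ⊆ Set.range f := by
  rw [surjective_iff, ← Set.range_eq_univ, range_fiberMap, Set.preimage_eq_univ_iff, g.range_fiberι]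

theorem closure_range_fiberMap : closure (Set.range (MoreMor.fiberMap f g s)) =
    g.fiberι s ⁻¹' closure (Set.range f ∩ g ⁻¹' {s}) := by
  rw [range_fiberMap, (g.fiberι s).isEmbedding.isInducing.closure_eq_preimage_closure_image,
    Set.image_preimage_eq_inter_range, g.range_fiberι]

theorem isClosed_range_fiberMap_iff :
    IsClosed (Set.range (MoreMor.fiberMap f g s)) ↔
      closure (Set.range f ∩ g ⁻¹' {s}) ∩ g ⁻¹' {s} ⊆ Set.range f := by
  rw [← closure_subset_iff_isClosed, closure_range_fiberMap, range_fiberMap]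
  refine ⟨fun h y hy => ?_, fun h z hz => h ⟨hz, g.range_fiberι s ▸ ⟨z, rfl⟩⟩⟩
  obtain ⟨z, rfl⟩ : y ∈ Set.range (g.fiberι s) := by rw [g.range_fiberι]; exact hy.2
  exact h hy.1

theorem denseRange_fiberMap_iff :
    DenseRange (MoreMor.fiberMap f g s) ↔ g ⁻¹' {s} ⊆ closure (Set.range f ∩ g ⁻¹' {s}) := by
  rw [denseRange_iff_closure_range, closure_range_fiberMap, Set.preimage_eq_univ_iff, g.range_fiberι]

section

omit f g s
variable (f : X ⟶ Y) (g : Y ⟶ S)

/-- constructible sets of closed sets -/
theorem isLocallyConstructible_of_isClosed {Z : Scheme.{u}} [IsLocallyNoetherian Z] {E : Set Z} (hE : IsClosed E) :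
    Topology.IsLocallyConstructible E := by
  refine isLocallyConstructible_of_indCons ?_ ?_
  · refine (S3401.result Z E).mpr fun x hx => Filter.mem_of_superset Filter.univ_mem ?_
    exact fun y _ => closure_minimal (Set.singleton_subset_iff.mpr hx) hE y.2
  · refine ConsTop.indCons_iff_affine.mpr fun W hW => ?_
    obtain ⟨_, _, _, _⟩ := ConsTop.affine_instances hW
    exact ConsTop.isOpen_cons_of_isOpen (hE.isOpen_compl.preimage continuous_subtype_val)

theorem isLocallyConstructible_range [IsLocallyNoetherian Y] [LocallyOfFiniteType f] [QuasiCompact f] :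
    Topology.IsLocallyConstructible (Set.range f) := by
  rw [← Set.image_univ]
  haveI : IsLocallyNoetherian X := LocallyOfFiniteType.isLocallyNoetherian f
  exact f.isLocallyConstructible_image (isLocallyConstructible_of_isClosed isClosed_univ)

theorem locallyConstructible_inter {Z : Scheme.{u}} {E F : Set Z} (hE : Topology.IsLocallyConstructible E)
    (hF : Topology.IsLocallyConstructible F) : Topology.IsLocallyConstructible (E ∩ F) := by
  refine isLocallyConstructible_of_indCons ?_ ?_
  · exact ConsTop.indCons_iff_affine.mpr fun W hW => @IsOpen.inter _ (constructibleTopology ↥(W : Set Z)) _ _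
      (ConsTop.indCons_iff_affine.mp (indCons_of_isLocallyConstructible hE).1 W hW)
      (ConsTop.indCons_iff_affine.mp (indCons_of_isLocallyConstructible hF).1 W hW)
  · rw [Set.compl_inter]
    exact ConsTop.indCons_iff_affine.mpr fun W hW => @IsOpen.union _ _ _ (constructibleTopology ↥(W : Set Z))
      (ConsTop.indCons_iff_affine.mp (indCons_of_isLocallyConstructible hE).2 W hW)
      (ConsTop.indCons_iff_affine.mp (indCons_of_isLocallyConstructible hF).2 W hW)

theorem interior_or_of_agree {S : Scheme.{u}} [IrreducibleSpace S] [IsLocallyNoetherian S] {L C : Set S}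
    (hC : Topology.IsLocallyConstructible C) (V : S.Opens) (hV : (V : Set S).Nonempty)
    (h : ∀ s ∈ V, s ∈ L ↔ s ∈ C) : (interior L).Nonempty ∨ (interior Lᶜ).Nonempty := by
  refine (interior_or_of_isLocallyConstructible hC).imp (fun hi => ?_) (fun hi => ?_)
  · obtain ⟨z, hz⟩ := nonempty_preirreducible_inter isOpen_interior V.2 hi hV
    exact ⟨z, mem_interior.mpr ⟨interior C ∩ V, fun w hw => (h w hw.2).mpr (interior_subset hw.1),
      isOpen_interior.inter V.2, hz⟩⟩
  · obtain ⟨z, hz⟩ := nonempty_preirreducible_inter isOpen_interior V.2 hi hV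
    exact ⟨z, mem_interior.mpr ⟨interior Cᶜ ∩ V,
      fun w hw hwL => interior_subset hw.1 ((h w hw.2).mp hwL), isOpen_interior.inter V.2, hz⟩⟩

/-- the data of a field extension square -/
theorem open_surjective_of_square {Y Y' T T' : Scheme.{u}} {g : Y ⟶ T} {g' : Y' ⟶ T'} {eY : Y' ⟶ Y} {h : T' ⟶ T}
    [IsIntegral T] [Subsingleton T] [IsIntegral T'] (hY : IsPullback eY g' g h) :
    Surjective eY ∧ IsOpenMap eY := by
  have : Surjective h := ⟨fun t => ⟨Classical.arbitrary T', Subsingleton.elim _ _⟩⟩
  have : UniversallyOpen eY := MorphismProperty.of_isPullback (P := @UniversallyOpen) hY.flip inferInstance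
  exact ⟨MorphismProperty.of_isPullback (P := @Surjective) hY.flip ‹_›, eY.isOpenMap⟩

theorem isConsMor_surjective : ConsProp.IsConsMor (fun X Y T f g => Surjective f) := by
  refine ⟨?_, fun X Y S f g _ _ _ _ _ _ => ?_⟩
  · intro X X' Y Y' T T' f g f' g' eX eY h _ _ _ _ _ _ _ _ hY hX
    obtain ⟨hs, -⟩ := open_surjective_of_square hY
    show Surjective f ↔ Surjective f'
    rw [surjective_iff, surjective_iff, ← Set.range_eq_univ, ← Set.range_eq_univ, range_of_isPullback hX]
    exact ⟨fun h => by rw [h, Set.preimage_univ],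
      fun h => Set.eq_univ_iff_forall.mpr fun y => by
        obtain ⟨y', rfl⟩ := eY.surjective y
        exact Set.eq_univ_iff_forall.mp h y'⟩
  · obtain ⟨_, _⟩ := qc_lft_of_comp f g
    haveI : IsLocallyNoetherian Y := LocallyOfFiniteType.isLocallyNoetherian g
    refine interior_or_of_agree (C := (g '' (Set.range f)ᶜ)ᶜ)
      (ConsTop.isLocallyConstructible_compl (g.isLocallyConstructible_image
        (ConsTop.isLocallyConstructible_compl (isLocallyConstructible_range f)))) ⊤ ⟨genericPoint S, trivial⟩
      fun s _ => ?_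
    show Surjective _ ↔ _
    rw [surjective_fiberMap_iff]
    exact ⟨fun h ⟨y, hy, hys⟩ => hy (h hys), fun h y hy => by_contra fun hn => h ⟨y, hn, hy⟩⟩

theorem isConsMor_dominant : ConsProp.IsConsMor (fun X Y T f g => IsDominant f) := by
  refine ⟨?_, fun X Y S f g _ _ _ _ _ _ => ?_⟩
  · intro X X' Y Y' T T' f g f' g' eX eY h _ _ _ _ _ _ _ _ hY hX
    obtain ⟨hs, ho⟩ := open_surjective_of_square hY
    have e : closure (Set.range f') = eY ⁻¹' closure (Set.range f) := by
      rw [range_of_isPullback hX, ho.preimage_closure_eq_closure_preimage eY.continuous]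
    show IsDominant f ↔ IsDominant f'
    rw [isDominant_iff, isDominant_iff, denseRange_iff_closure_range, denseRange_iff_closure_range, e]
    exact ⟨fun h => by rw [h, Set.preimage_univ],
      fun h => Set.eq_univ_iff_forall.mpr fun y => by
        obtain ⟨y', rfl⟩ := eY.surjective y
        exact Set.eq_univ_iff_forall.mp h y'⟩
  · obtain ⟨_, _⟩ := qc_lft_of_comp f g
    haveI : IsLocallyNoetherian Y := LocallyOfFiniteType.isLocallyNoetherian g
    obtain ⟨V, hV, hV'⟩ := exists_closure_fibre_subset g _ (isLocallyConstructible_range f)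
    refine interior_or_of_agree (C := (g '' (closure (Set.range f))ᶜ)ᶜ)
      (ConsTop.isLocallyConstructible_compl (g.isLocallyConstructible_image
        (ConsTop.isLocallyConstructible_compl (isLocallyConstructible_of_isClosed isClosed_closure)))) V hV
      fun s hs => ?_
    show IsDominant _ ↔ _
    rw [isDominant_iff, denseRange_fiberMap_iff]
    refine ⟨fun h ⟨y, hy, hys⟩ => hy (closure_mono Set.inter_subset_left (h hys)), fun h y hy => ?_⟩
    have hy' : g y = s := hy
    have := hV' y (by_contra fun hn => h ⟨y, hn, hy'⟩) (by rw [hy']; exact hs)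
    rwa [hy'] at this

theorem isConsMor_isClosed_range : ConsProp.IsConsMor (fun X Y T f g => IsClosed (Set.range f)) := by
  refine ⟨?_, fun X Y S f g _ _ _ _ _ _ => ?_⟩
  · intro X X' Y Y' T T' f g f' g' eX eY h _ _ _ _ _ _ _ _ hY hX
    obtain ⟨hs, ho⟩ := open_surjective_of_square hY
    show IsClosed (Set.range f) ↔ IsClosed (Set.range f')
    rw [range_of_isPullback hX, (ho.isQuotientMap eY.continuous eY.surjective).isClosed_preimage]
  · obtain ⟨_, _⟩ := qc_lft_of_comp f g
    haveI : IsLocallyNoetherian Y := LocallyOfFiniteType.isLocallyNoetherian g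
    obtain ⟨V, hV, hV'⟩ := exists_closure_fibre_subset g _ (isLocallyConstructible_range f)
    refine interior_or_of_agree (C := (g '' (closure (Set.range f) ∩ (Set.range f)ᶜ))ᶜ)
      (ConsTop.isLocallyConstructible_compl (g.isLocallyConstructible_image
        (locallyConstructible_inter (isLocallyConstructible_of_isClosed isClosed_closure)
          (ConsTop.isLocallyConstructible_compl (isLocallyConstructible_range f))))) V hV
      fun s hs => ?_
    show IsClosed _ ↔ _
    rw [isClosed_range_fiberMap_iff]
    constructor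
    · rintro h ⟨y, ⟨hy, hyn⟩, hys⟩
      have := hV' y hy (by rw [hys]; exact hs)
      rw [hys] at this
      exact hyn (h ⟨this, hys⟩)
    · exact fun h y hy => by_contra fun hn => h ⟨y, ⟨closure_mono Set.inter_subset_left hy.1, hn⟩, hy.2⟩

end

end Groth.Agent.ConsEngine
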