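import Mathlib
import Groth.Prelude.Def_ProCons
import Groth.Agent.ConsTop.Maps
import Groth.Agent.S3401
import Groth.Agent.S3402
import Groth.Agent.DvrDom.ClosedProper

/-!
Ind-constructible sets: inverse images, locality, and a criterion on noetherian schemes through
integral closed subschemes.
-/

set_option autoImplicit false
universe u
open CategoryTheory AlgebraicGeometry Topology

namespace Groth.Agent.ConsEngine

variable {X Y : Scheme.{u}}

theorem indCons_preimage (f : X ⟶ Y) {T : Set Y} (hT : ProCons.IsIndConstructible T) :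
    ProCons.IsIndConstructible (f ⁻¹' T : Set X) := by
  refine ConsTop.indCons_iff_affine.mpr fun V hV => ?_
  obtain ⟨_, _, _, _⟩ := ConsTop.affine_instances hV
  refine (@isOpen_iff_forall_mem_open _ (constructibleTopology ↥(V : Set X)) _).mpr fun z hz => ?_
  obtain ⟨W, hW, hzW, -⟩ := exists_isAffineOpen_mem_and_subset (U := (⊤ : Y.Opens)) (x := f z.1) trivial
  obtain ⟨V', hV', hzV', hsub⟩ := exists_isAffineOpen_mem_and_subset
    (U := V ⊓ f ⁻¹ᵁ W) (x := z.1) ⟨z.2, hzW⟩
  obtain ⟨_, _, _, _⟩ := ConsTop.affine_instances hV'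
  have hi : (V' : Set X) ⊆ (V : Set X) := fun a ha => (hsub ha).1
  have he1 : IsOpenEmbedding (Set.inclusion hi) :=
    .of_comp _ V.2.isOpenEmbedding_subtypeVal V'.2.isOpenEmbedding_subtypeVal
  have e : V' ≤ f ⁻¹ᵁ W := fun a ha => (hsub ha).2
  refine ⟨Set.inclusion hi '' ((fun x : ↥(V' : Set X) => (⟨f x.1, e x.2⟩ : ↥(W : Set Y))) ⁻¹' (Subtype.val ⁻¹' T)),
    ?_, ConsTop.isOpen_image_cons he1 (@IsOpen.preimage _ _ (constructibleTopology _) (constructibleTopology _) _
      (ConsTop.continuous_cons_resLE f hW hV' e) _ (ConsTop.indCons_iff_affine.mp hT W hW)),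
    ⟨⟨z.1, hzV'⟩, hz, rfl⟩⟩
  rintro _ ⟨a, ha, rfl⟩
  exact ha

theorem indCons_preimage_iff_of_iso (e : X ≅ Y) {T : Set Y} :
    ProCons.IsIndConstructible (e.hom ⁻¹' T : Set X) ↔ ProCons.IsIndConstructible T := by
  refine ⟨fun h => ?_, indCons_preimage _⟩
  convert indCons_preimage e.inv h using 1
  ext y
  simp [← Scheme.Hom.comp_apply]

theorem indCons_of_affine (E : Set X)
    (h : ∀ W : X.Opens, IsAffineOpen W → ProCons.IsIndConstructible (W.ι ⁻¹' E : Set W.toScheme)) :
    ProCons.IsIndConstructible E := by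
  refine ConsTop.indCons_iff_affine.mpr fun W hW => ?_
  haveI : IsAffine W.toScheme := hW
  exact ConsTop.isOpen_cons_of_indCons (h W hW)

theorem isLocallyConstructible_of_indCons {E : Set X} (h : ProCons.IsIndConstructible E)
    (h' : ProCons.IsIndConstructible Eᶜ) : Topology.IsLocallyConstructible E :=
  (S3402.result X E).mpr ⟨h, ConsTop.isProConstructible_iff_indCons_compl.mpr h'⟩

theorem indCons_of_isLocallyConstructible {E : Set X} (h : Topology.IsLocallyConstructible E) :
    ProCons.IsIndConstructible E ∧ ProCons.IsIndConstructible Eᶜ :=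
  ⟨((S3402.result X E).mp h).1, ConsTop.isProConstructible_iff_indCons_compl.mp ((S3402.result X E).mp h).2⟩

theorem indCons_of_closed_integral [IsLocallyNoetherian X] (E : Set X)
    (h : ∀ (Z : Scheme.{u}) (i : Z ⟶ X) [IsClosedImmersion i] [IsIntegral Z],
      i (genericPoint Z) ∈ E → (interior (i ⁻¹' E : Set Z)).Nonempty) :
    ProCons.IsIndConstructible E := by
  refine (S3401.result X E).mpr fun x hx => ?_
  let C : TopologicalSpace.Closeds X := ⟨closure {x}, isClosed_closure⟩
  let I : X.IdealSheafData := Scheme.IdealSheafData.vanishingIdeal C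
  have hr : Set.range I.subschemeι = closure {x} := by
    rw [Scheme.IdealSheafData.range_subschemeι]
    exact Scheme.IdealSheafData.coe_support_vanishingIdeal C
  obtain ⟨ξ, hξ⟩ : x ∈ Set.range I.subschemeι := hr ▸ subset_closure rfl
  have hemb := I.subschemeι.isClosedEmbedding
  have hgen : IsGenericPoint ξ (Set.univ : Set I.subscheme) := by
    rw [isGenericPoint_iff_specializes]
    intro y
    refine ⟨fun _ => trivial, fun _ => ?_⟩
    rw [← hemb.isInducing.specializes_iff, hξ, specializes_iff_mem_closure, ← hr]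
    exact ⟨y, rfl⟩
  have : IrreducibleSpace I.subscheme := by
    have := hgen.isIrreducible
    exact { toNonempty := ⟨ξ⟩, isPreirreducible_univ := this.2 }
  have : AlgebraicGeometry.IsReduced I.subscheme := DvrDom.isReduced_vanishingIdeal_subscheme C
  have : IsIntegral I.subscheme := isIntegral_of_irreducibleSpace_of_isReduced _
  have hη : genericPoint I.subscheme = ξ := (genericPoint_spec _).eq hgen
  obtain ⟨z, hz⟩ := h I.subscheme I.subschemeι (by rw [hη, hξ]; exact hx)
  have hξi : ξ ∈ interior (I.subschemeι ⁻¹' E : Set I.subscheme) :=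
    (hgen.specializes (Set.mem_univ z)).mem_open isOpen_interior hz
  obtain ⟨O, hO, hOe⟩ := hemb.isInducing.isOpen_iff.mp
    (isOpen_interior (s := (I.subschemeι ⁻¹' E : Set I.subscheme)))
  rw [← hOe] at hξi
  refine mem_nhds_iff.mpr ⟨Subtype.val ⁻¹' O, ?_, hO.preimage continuous_subtype_val, hξ ▸ hξi⟩
  rintro ⟨y, hy⟩ hyO
  obtain ⟨w, rfl⟩ : y ∈ Set.range I.subschemeι := hr ▸ hy
  have hw : w ∈ interior (I.subschemeι ⁻¹' E : Set I.subscheme) := hOe ▸ hyO
  exact interior_subset hw

end Groth.Agent.ConsEngine
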