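import Groth.Agent.ConsEngine.LimComp

universe u

open CategoryTheory Limits AlgebraicGeometry Topology TopologicalSpace

namespace Groth.Agent.ConsEngine

/-- a point without proper generisation -/
abbrev IsMaxPt {X : Type*} [TopologicalSpace X] (s : X) : Prop := ∀ z : X, z ⤳ s → z = s

theorem exists_isMaxPt_specializes {X : Scheme.{u}} (x : X) : ∃ m : X, m ⤳ x ∧ IsMaxPt m := by
  obtain ⟨m, hm⟩ := QuasiSober.sober (α := X) (isIrreducible_irreducibleComponent (x := x))
    isClosed_irreducibleComponent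
  refine ⟨m, hm.specializes mem_irreducibleComponent, fun z hz => ?_⟩
  have hsub : irreducibleComponent x ⊆ closure {z} := by
    rw [← hm.def]
    exact hz.closure_subset
  have h2 := (irreducibleComponent_mem_irreducibleComponents x).2 isIrreducible_singleton.closure hsub
  exact (hz.antisymm (hm.specializes (h2 (subset_closure rfl)))).eq

theorem dense_of_forall_isMaxPt {X : Scheme.{u}} (V : X.Opens) (h : ∀ m : X, IsMaxPt m → m ∈ V) :
    Dense (V : Set X) := fun x => by
  obtain ⟨m, hm, hmax⟩ := exists_isMaxPt_specializes x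
  exact hm.mem_closed isClosed_closure (subset_closure (h m hmax))

theorem mem_of_dense_of_isMaxPt {X : Scheme.{u}} (hfin : {m : X | IsMaxPt m}.Finite) (V : X.Opens)
    (hV : Dense (V : Set X)) {m : X} (hm : IsMaxPt m) : m ∈ V := by
  let C : Set X := ⋃ n ∈ {n : X | IsMaxPt n} \ {m}, closure {n}
  have hC : IsClosed C := (hfin.subset Set.sdiff_subset).isClosed_biUnion fun _ _ => isClosed_closure
  have hmC : m ∈ Cᶜ := fun h => by
    obtain ⟨n, ⟨hn, hne⟩, hmn⟩ := Set.mem_iUnion₂.mp h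
    exact hne (hm n (specializes_iff_mem_closure.mpr hmn))
  obtain ⟨y, hyC, hyV⟩ := mem_closure_iff.mp (hV m) _ hC.isOpen_compl hmC
  obtain ⟨n, hn, hnmax⟩ := exists_isMaxPt_specializes y
  have : n = m := by_contra fun hne =>
    hyC (Set.mem_biUnion (show n ∈ {n : X | IsMaxPt n} \ {m} from ⟨hnmax, hne⟩) hn.mem_closure)
  exact this ▸ hn.mem_open V.2 hyV

theorem proCons_of_finite {X : Scheme.{u}} {E : Set X} (hE : E.Finite) : ProCons.IsProConstructible E :=
  ConsTop.proCons_iff_affine.mpr fun W hW => by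
    obtain ⟨_, _, _, _⟩ := ConsTop.affine_instances hW
    haveI := ConsTop.t2Space_cons (X := ↥(W : Set X))
    exact @Set.Finite.isClosed _ (constructibleTopology ↥(W : Set X)) _ _
      (hE.preimage Subtype.val_injective.injOn)

variable {I : Type u} [SmallCategory I] [IsCofiltered I] (D : I ⥤ Scheme.{u})
  [∀ {i j} (f : i ⟶ j), IsAffineHom (D.map f)] (c : Cone D) (hc : IsLimit c)

include hc in
/-- a system of non-empty finite sets inside a compact open has a point in the limit -/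
theorem exists_forall_π_mem {i₀ : I} (O : (D.obj i₀).Opens) (hO : IsCompact (O : Set (D.obj i₀)))
    (E : ∀ j : Over i₀, Set (D.obj j.left)) (hne : ∀ j, (E j).Nonempty) (hfin : ∀ j, (E j).Finite)
    (hEO : ∀ j, E j ⊆ D.map j.hom ⁻¹' (O : Set (D.obj i₀)))
    (hmap : ∀ {j k : Over i₀} (a : j ⟶ k), E j ⊆ D.map a.left ⁻¹' E k) :
    ∃ z : c.pt, ∀ j : Over i₀, c.π.app j.left z ∈ E j := by
  haveI : CompactSpace ((opensDiagram D i₀ O).obj (Over.mk (𝟙 i₀))) :=
    isCompact_iff_compactSpace.mp ((D.map (𝟙 i₀)).isCompact_preimage hO)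
  let E' : ∀ j : Over i₀, Set ((opensDiagram D i₀ O).obj j) := fun j => (D.map j.hom ⁻¹ᵁ O).ι ⁻¹' E j
  have hmap' : ∀ (j k : Over i₀) (a : j ⟶ k), E' j ⊆ (opensDiagram D i₀ O).map a ⁻¹' E' k := by
    intro j k a w hw
    show ((D.map a.left).resLE (D.map k.hom ⁻¹ᵁ O) _ _ ≫ (D.map k.hom ⁻¹ᵁ O).ι) w ∈ E k
    rw [Scheme.Hom.resLE_comp_ι]
    exact hmap a hw
  by_contra! hno
  obtain ⟨i, -, hi⟩ := (subset_iff_eventually (opensDiagram D i₀ O) (opensCone D c i₀ O)
    (isLimitOpensCone D c hc i₀ O) (Over.mk (𝟙 i₀)) E' (fun _ => ∅)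
    (fun j => proCons_of_finite ((hfin j).preimage (D.map j.hom ⁻¹ᵁ O).ι.isOpenEmbedding.injective.injOn))
    (fun k => ConsTop.indCons_iff_affine.mpr fun W _ => by
      rw [Set.preimage_empty]
      exact @isOpen_empty _ (constructibleTopology ↥(W : Set ((opensDiagram D i₀ O).obj k))))
    hmap' (fun _ _ _ => by simp)).mp (fun w hw => by
      obtain ⟨j, hj⟩ := hno w.1
      refine absurd ?_ hj
      have := Set.mem_iInter.mp hw j
      change ((c.π.app j.left).resLE (D.map j.hom ⁻¹ᵁ O) _ _ ≫ (D.map j.hom ⁻¹ᵁ O).ι) w ∈ E j at this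
      rwa [Scheme.Hom.resLE_comp_ι] at this)
  obtain ⟨y, hy⟩ := hne i
  exact hi i (𝟙 i) (show (⟨y, hEO i hy⟩ : ↥(D.map i.hom ⁻¹ᵁ O).toScheme) ∈ E' i from hy)

include hc in
theorem specializes_of_forall_π {z s : c.pt}
    (h : ∀ i : I, ∃ (j : I) (_ : j ⟶ i), c.π.app j z ⤳ c.π.app j s) : z ⤳ s := by
  refine specializes_iff_forall_open.mpr fun W hW hs => ?_
  obtain ⟨_, ⟨i, V, -, rfl⟩, hsV, hVW⟩ := TopologicalSpace.Opens.isBasis_iff_nbhd.mp
    (isBasis_preimage_isAffineOpen D c hc) (show s ∈ (⟨W, hW⟩ : c.pt.Opens) from hs)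
  obtain ⟨j, φ, hj⟩ := h i
  refine hVW (show c.π.app i z ∈ V from ?_)
  have hz : D.map φ (c.π.app j z) ⤳ D.map φ (c.π.app j s) := hj.map (D.map φ).continuous
  rw [← Scheme.Hom.comp_apply, ← Scheme.Hom.comp_apply, c.w φ] at hz
  exact hz.mem_open V.2 hsV

include hc in
/-- maximal points of the limit are the points with maximal images -/
theorem isMaxPt_iff_forall (hfin : ∀ i : I, {s : D.obj i | IsMaxPt s}.Finite)
    (hsys : ∀ (i j : I) (g : i ⟶ j) (s : D.obj i), IsMaxPt s → IsMaxPt (D.map g s)) (s : c.pt) :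
    IsMaxPt s ↔ ∀ i : I, IsMaxPt (c.π.app i s) := by
  constructor
  · intro hs i
    obtain ⟨O, hO, hsO, -⟩ := exists_isAffineOpen_mem_and_subset (U := (⊤ : (D.obj i).Opens))
      (x := c.π.app i s) trivial
    have hw : ∀ (j : Over i), D.map j.hom (c.π.app j.left s) = c.π.app i s := fun j => by
      rw [← Scheme.Hom.comp_apply, c.w j.hom]
    obtain ⟨z, hz⟩ := exists_forall_π_mem D c hc O hO.isCompact
      (fun j => {y | IsMaxPt y ∧ y ⤳ c.π.app j.left s})
      (fun j => let ⟨m, h1, h2⟩ := exists_isMaxPt_specializes (c.π.app j.left s); ⟨m, h2, h1⟩)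
      (fun j => (hfin j.left).subset fun y hy => hy.1)
      (fun j y hy => by
        have := hy.2.map (D.map j.hom).continuous
        rw [hw j] at this
        exact this.mem_open O.2 hsO)
      (fun {j k} a y hy => ⟨hsys _ _ a.left y hy.1, by
        have := hy.2.map (D.map a.left).continuous
        rw [← Scheme.Hom.comp_apply (f := c.π.app j.left), c.w a.left] at this
        exact this⟩)
    have hzs : z = s := hs z (specializes_of_forall_π D c hc fun l => by
      obtain ⟨j, p, q, -⟩ := IsCofilteredOrEmpty.cone_objs l i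
      exact ⟨j, p, (hz (Over.mk q)).2⟩)
    exact hzs ▸ (hz (Over.mk (𝟙 i))).1
  · intro h z hz
    refine ((specializes_of_forall_π D c hc fun i => ⟨i, 𝟙 i, ?_⟩).antisymm hz).eq.symm
    have := h i _ (hz.map (c.π.app i).continuous)
    exact (this.symm ▸ specializes_rfl : c.π.app i s ⤳ c.π.app i z)

end Groth.Agent.ConsEngine
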