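import Groth.Agent.ConsEngine.LimConn

universe u

open CategoryTheory Limits AlgebraicGeometry Topology TopologicalSpace

namespace Groth.Agent.ConsEngine

variable {I : Type u} [SmallCategory I] [IsCofiltered I] (D : I ⥤ Scheme.{u})
  [∀ {i j} (f : i ⟶ j), IsAffineHom (D.map f)] (c : Cone D) (hc : IsLimit c)

omit [IsCofiltered I] [∀ {i j : I} (f : i ⟶ j), IsAffineHom (D.map f)] in
theorem preimage_π_le {i j : I} (φ : j ⟶ i) (U : (D.obj i).Opens) :
    c.π.app i ⁻¹ᵁ U ≤ c.π.app j ⁻¹ᵁ D.map φ ⁻¹ᵁ U := by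
  rw [← Scheme.Hom.comp_preimage, c.w]

omit [IsCofiltered I] [∀ {i j : I} (f : i ⟶ j), IsAffineHom (D.map f)] in
theorem appLE_π_map {i j : I} (φ : j ⟶ i) {U : (D.obj i).Opens} (s : Γ(D.obj i, U)) :
    (c.π.app j).appLE _ (c.π.app i ⁻¹ᵁ U) (preimage_π_le D c φ U) ((D.map φ).app U s) =
      (c.π.app i).app U s := by
  rw [← ConcreteCategory.comp_apply, Scheme.Hom.app_eq_appLE, Scheme.Hom.app_eq_appLE,
    Scheme.Hom.appLE_comp_appLE]
  simp only [c.w φ]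

include hc in
set_option backward.isDefEq.respectTransparency false in
/-- a section over the preimage of an affine open comes from a stage -/
theorem exists_app_π_eq {i : I} {U : (D.obj i).Opens} (hU : IsAffineOpen U)
    (a : Γ(c.pt, c.π.app i ⁻¹ᵁ U)) :
    ∃ (j : I) (φ : j ⟶ i) (s : Γ(D.obj j, D.map φ ⁻¹ᵁ U)),
      (c.π.app j).appLE _ (c.π.app i ⁻¹ᵁ U) (preimage_π_le D c φ U) s = a := by
  haveI : ∀ j : Over i, IsAffine ((opensDiagram D i U).obj j) := fun j => hU.preimage (D.map _)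
  obtain ⟨j, t, ht⟩ := exists_appTop_π_eq_of_isAffine_of_isLimit _ _
    (isLimitOpensCone D c hc i U) ((c.π.app i ⁻¹ᵁ U).topIso.inv a)
  refine ⟨j.left, j.hom, (D.map j.hom ⁻¹ᵁ U).topIso.hom t, ?_⟩
  have key : Scheme.Hom.appTop ((c.π.app j.left).resLE (D.map j.hom ⁻¹ᵁ U) (c.π.app i ⁻¹ᵁ U)
      (preimage_π_le D c j.hom U)) ≫ (c.π.app i ⁻¹ᵁ U).topIso.hom = (D.map j.hom ⁻¹ᵁ U).topIso.hom ≫
      (c.π.app j.left).appLE _ (c.π.app i ⁻¹ᵁ U) (preimage_π_le D c j.hom U) := by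
    simp [Scheme.Hom.appTop, Scheme.Hom.app_eq_appLE, Scheme.Hom.resLE_appLE]
  refine (ConcreteCategory.congr_hom key t).symm.trans ?_
  refine (congrArg (fun z => (c.π.app i ⁻¹ᵁ U).topIso.hom z) ht).trans ?_
  exact Iso.inv_hom_id_apply _ _

end Groth.Agent.ConsEngine
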