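import Groth.Agent.ConsEngine.Props
import Groth.Agent.S2156
import Mathlib.AlgebraicGeometry.Morphisms.SmoothFiber
import Mathlib.AlgebraicGeometry.Morphisms.LocalFlatDescent

/-!
Constructibility of: smooth, unramified, etale.
-/

set_option autoImplicit false
set_option linter.style.haveILetI false
set_option linter.unusedVariables false
universe u
open CategoryTheory CategoryTheory.Limits AlgebraicGeometry

namespace Groth.Agent.ConsEngine

theorem fiber_smooth_iff {X S : Scheme.{u}} (u : X ⟶ S) [LocallyOfFinitePresentation u] [Flat u] (s : S) :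
    Smooth (u.fiberToSpecResidueField s) ↔ ∀ x, u x = s → x ∈ u.smoothLocus := by
  haveI : ∀ t, LocallyOfFinitePresentation (u.fiberToSpecResidueField t) := fun t =>
    MorphismProperty.of_isPullback (P := @LocallyOfFinitePresentation) (isPullback_fiber u t) ‹_›
  constructor
  · intro h x hx
    subst hx
    refine (S2156.result u x).mpr ⟨Flat.stalkMap u x, ?_⟩
    exact ((Scheme.Hom.smoothLocus_eq_top_iff (f := u.fiberToSpecResidueField (u x))).mpr h) ▸ trivial
  · intro h
    rw [← Scheme.Hom.smoothLocus_eq_top_iff, ← top_le_iff]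
    rintro p -
    obtain ⟨⟨x, hx⟩, rfl⟩ : ∃ q, (u.fiberHomeo s).symm q = p := (u.fiberHomeo s).symm.surjective p
    subst hx
    exact ((S2156.result u x).mp (h x rfl)).2

theorem isCons_smooth : ConsProp.IsCons.{u} (fun Y T g => Smooth g) := by
  refine ⟨fun Y Y' T T' g g' e h _ _ _ _ _ _ hsq => ?_, fun X S u _ _ _ _ => ?_⟩
  · obtain ⟨h1, h2, h3⟩ := surjective_flat_qc h
    exact ⟨fun hg => MorphismProperty.of_isPullback (P := @Smooth) hsq hg,
      fun hg => MorphismProperty.of_isPullback_of_descendsAlong (P := @Smooth)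
        (Q := @Surjective ⊓ @Flat ⊓ @QuasiCompact) hsq.flip ⟨⟨h1, h2⟩, h3⟩ hg⟩
  obtain ⟨U, hU, hflat, -⟩ := S0414.result u
  haveI := LocallyOfFiniteType.isLocallyNoetherian u
  haveI := lfp_of_lft u
  let flatU := u ∣_ U
  haveI : Flat flatU := hflat
  haveI : LocallyOfFinitePresentation flatU :=
    MorphismProperty.of_isPullback (P := @LocallyOfFinitePresentation) (isPullback_morphismRestrict u U).flip ‹_›
  haveI : QuasiCompact flatU :=
    MorphismProperty.of_isPullback (P := @QuasiCompact) (isPullback_morphismRestrict u U).flip ‹_›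
  refine interior_or_of_agree (C := (u '' ((u ⁻¹ᵁ U).ι '' (flatU.smoothLocus : Set _)ᶜ))ᶜ) ?_ U hU.nonempty
    fun s hs => ?_
  · haveI : IsLocallyNoetherian (u ⁻¹ᵁ U).toScheme := isLocallyNoetherian_of_isOpenImmersion (u ⁻¹ᵁ U).ι
    haveI : IsNoetherian X :=
      { toIsLocallyNoetherian := ‹_›, toCompactSpace := QuasiCompact.compactSpace_of_compactSpace u }
    haveI : QuasiCompact (u ⁻¹ᵁ U).ι := inferInstance
    exact ConsTop.isLocallyConstructible_compl (u.isLocallyConstructible_image
      ((u ⁻¹ᵁ U).ι.isLocallyConstructible_image (isLocallyConstructible_of_isClosed flatU.smoothLocus.2.isClosed_compl)))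
  · have e : Smooth (flatU.fiberToSpecResidueField ⟨s, hs⟩) ↔ Smooth (u.fiberToSpecResidueField s) := by
      have sq := isPullback_fiberBC (isPullback_morphismRestrict u U).flip ⟨s, hs⟩
      haveI : IsIso (Spec.map (U.ι.residueFieldMap ⟨s, hs⟩)) := inferInstance
      refine ⟨fun hg => ?_, fun hg => MorphismProperty.of_isPullback (P := @Smooth) sq hg⟩
      obtain ⟨h1, h2, h3⟩ := surjective_flat_qc (Spec.map (U.ι.residueFieldMap ⟨s, hs⟩))
      exact MorphismProperty.of_isPullback_of_descendsAlong (P := @Smooth)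
        (Q := @Surjective ⊓ @Flat ⊓ @QuasiCompact) sq.flip ⟨⟨h1, h2⟩, h3⟩ hg
    show Smooth (u.fiberToSpecResidueField s) ↔ _
    rw [← e, fiber_smooth_iff]
    constructor
    · rintro h ⟨_, ⟨w, hw, rfl⟩, hys⟩
      refine hw (h w (Subtype.ext (Eq.trans ?_ hys)))
      show (flatU ≫ U.ι) w = _
      rw [morphismRestrict_ι]
      rfl
    · intro h w hw
      refine by_contra fun hn => h ⟨_, ⟨w, hn, rfl⟩, ?_⟩
      have h2 : U.ι (flatU w) = s := by rw [hw]; rfl
      rw [← Scheme.Hom.comp_apply, morphismRestrict_ι, Scheme.Hom.comp_apply] at h2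
      exact h2

theorem isConsMor_smooth : ConsProp.IsConsMor.{u} (fun X Y T f g => Smooth f) :=
  IsConsMor.congr' (IsConsMor.and isConsMor_flat (isConsMor_forall isCons_smooth)) fun f g _ _ _ _ _ _ => by
    obtain ⟨_, _⟩ := qc_lft_of_comp f g
    haveI := LocallyOfFiniteType.isLocallyNoetherian g
    haveI := lfp_of_lft f
    refine ⟨fun ⟨h1, h2⟩ => Smooth.of_smooth_fiberToSpecResidueField f h2, fun h => ⟨inferInstance, fun y => ?_⟩⟩
    exact MorphismProperty.of_isPullback (P := @Smooth) (isPullback_fiber f y) h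

theorem formallyUnramified_iff_diagonal {X Y : Scheme.{u}} (f : X ⟶ Y) [IsLocallyNoetherian Y]
    [LocallyOfFiniteType f] : Flat (pullback.diagonal f) ↔ FormallyUnramified f := by
  refine ⟨fun h2 => ?_, fun _ => inferInstance⟩
  haveI : IsLocallyNoetherian (pullback f f) := LocallyOfFiniteType.isLocallyNoetherian (pullback.fst f f ≫ f)
  haveI : LocallyOfFiniteType (pullback.diagonal f ≫ pullback.fst f f) := by
    rw [pullback.diagonal_fst]; infer_instance
  haveI : LocallyOfFiniteType (pullback.diagonal f) := locallyOfFiniteType_of_comp _ (pullback.fst f f)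
  haveI := lfp_of_lft (pullback.diagonal f)
  haveI := IsOpenImmersion.of_flat_of_mono (pullback.diagonal f)
  infer_instance

theorem isConsMor_formallyUnramified : ConsProp.IsConsMor.{u} (fun X Y T f g => FormallyUnramified f) :=
  IsConsMor.congr' (isConsMor_diagonal isConsMor_flat) fun f g _ _ _ _ _ _ => by
    obtain ⟨_, _⟩ := qc_lft_of_comp f g
    haveI := LocallyOfFiniteType.isLocallyNoetherian g
    exact formallyUnramified_iff_diagonal f

theorem isConsMor_etale : ConsProp.IsConsMor.{u} (fun X Y T f g => Etale f) :=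
  IsConsMor.congr' (IsConsMor.and isConsMor_flat isConsMor_formallyUnramified) fun f g _ _ _ _ _ _ => by
    obtain ⟨_, _⟩ := qc_lft_of_comp f g
    haveI := LocallyOfFiniteType.isLocallyNoetherian g
    haveI := lfp_of_lft f
    refine ⟨fun ⟨h1, h2⟩ => ?_, fun h => ⟨inferInstance, inferInstance⟩⟩
    rw [Etale.iff_flat_and_formallyUnramified]
    exact ⟨h1, h2, inferInstance⟩

end Groth.Agent.ConsEngine

namespace Groth.Agent.ConsEngine

/-- loci written with the fibre product along `fiberι` -/
theorem isLocallyConstructible_setOf_snd (R : MorphismProperty Scheme.{u}) [R.RespectsIso]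
    (hR : ConsProp.IsConsMor (fun X Y T f g => R f)) {X Y S : Scheme.{u}} (f : X ⟶ Y) (g : Y ⟶ S)
    [LocallyOfFinitePresentation g] [QuasiCompact g] [QuasiSeparated g]
    [LocallyOfFinitePresentation (f ≫ g)] [QuasiCompact (f ≫ g)] [QuasiSeparated (f ≫ g)] :
    Topology.IsLocallyConstructible {s : S | R (pullback.snd f (g.fiberι s))} := by
  convert isLocallyConstructible_locusMor hR f g using 1
  ext s
  show R _ ↔ R (MoreMor.fiberMap f g s)
  rw [← (isPullback_fiberMap f g s).isoPullback_hom_snd, R.cancel_left_of_respectsIso]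

end Groth.Agent.ConsEngine
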