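import Groth.Agent.ConsEngine.Range

/-!
Passing constructible properties through the diagonal.
-/

set_option autoImplicit false
set_option linter.style.haveILetI false
set_option linter.unusedVariables false
universe u
open CategoryTheory CategoryTheory.Limits AlgebraicGeometry

namespace Groth.Agent.ConsEngine

variable {P : ∀ ⦃X Y T : Scheme.{u}⦄, (X ⟶ Y) → (Y ⟶ T) → Prop}

theorem instances_fiber {X Y S : Scheme.{u}} (f : X ⟶ Y) (g : Y ⟶ S) (s : S)
    [LocallyOfFiniteType g] [QuasiCompact g] [LocallyOfFiniteType (f ≫ g)] [QuasiCompact (f ≫ g)] :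
    LocallyOfFiniteType (g.fiberToSpecResidueField s) ∧ QuasiCompact (g.fiberToSpecResidueField s) ∧
      LocallyOfFiniteType (MoreMor.fiberMap f g s ≫ g.fiberToSpecResidueField s) ∧
      QuasiCompact (MoreMor.fiberMap f g s ≫ g.fiberToSpecResidueField s) := by
  rw [fiberMap_toSpec]
  exact ⟨MorphismProperty.of_isPullback (P := @LocallyOfFiniteType) (isPullback_fiber g s) ‹_›,
    MorphismProperty.of_isPullback (P := @QuasiCompact) (isPullback_fiber g s) ‹_›,
    MorphismProperty.of_isPullback (P := @LocallyOfFiniteType) (isPullback_fiber (f ≫ g) s) ‹_›,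
    MorphismProperty.of_isPullback (P := @QuasiCompact) (isPullback_fiber (f ≫ g) s) ‹_›⟩

/-- any model of the fibre computes the locus -/
theorem iff_mem_locusMor (hP : ConsProp.IsFieldStableMor P) {X X' Y Y' S : Scheme.{u}} {f : X ⟶ Y} {g : Y ⟶ S}
    [LocallyOfFiniteType g] [QuasiCompact g] [LocallyOfFiniteType (f ≫ g)] [QuasiCompact (f ≫ g)] {s : S}
    {f' : X' ⟶ Y'} {g' : Y' ⟶ Spec (S.residueField s)} {eX : X' ⟶ X} {eY : Y' ⟶ Y}
    (hY : IsPullback eY g' g (S.fromSpecResidueField s)) (hX : IsPullback eX f' f eY) :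
    P f' g' ↔ s ∈ ConsProp.locusMor P f g := by
  obtain ⟨_, _, _, _⟩ := instances_fiber f g s
  let aY : Y' ⟶ g.fiber s := pullback.lift eY g' hY.w
  have haY : aY ≫ g.fiberι s = eY := pullback.lift_fst _ _ _
  have hY' : IsPullback aY g' (g.fiberToSpecResidueField s) (𝟙 _) := by
    refine IsPullback.of_right ?_ ?_ (isPullback_fiber g s)
    · rw [haY, Category.id_comp]; exact hY
    · rw [Category.comp_id]; exact pullback.lift_snd _ _ _
  let aX : X' ⟶ (f ≫ g).fiber s := pullback.lift eX (f' ≫ g') (hX.paste_vert hY).w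
  have haX : aX ≫ (f ≫ g).fiberι s = eX := pullback.lift_fst _ _ _
  have hX' : IsPullback aX f' (MoreMor.fiberMap f g s) aY := by
    refine IsPullback.of_right ?_ ?_ (isPullback_fiberMap f g s)
    · rw [haX, haY]; exact hX
    · apply pullback.hom_ext
      · show (aX ≫ MoreMor.fiberMap f g s) ≫ g.fiberι s = (f' ≫ aY) ≫ g.fiberι s
        rw [Category.assoc, Category.assoc, fiberMap_fiberι, haY, ← hX.w, ← Category.assoc, haX]
      · show (aX ≫ MoreMor.fiberMap f g s) ≫ g.fiberToSpecResidueField s = (f' ≫ aY) ≫ g.fiberToSpecResidueField s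
        rw [Category.assoc, Category.assoc, fiberMap_toSpec]
        exact (pullback.lift_snd _ _ _).trans (congrArg (f' ≫ ·) (pullback.lift_snd _ _ _).symm)
  exact (hP _ _ _ _ _ _ _ hY' hX').symm

section

variable {X X' Y Y' : Scheme.{u}} {f : X ⟶ Y} {f' : X' ⟶ Y'} {eX : X' ⟶ X} {eY : Y' ⟶ Y}
  (h : IsPullback eX f' f eY)

/-- the map of self-products -/
noncomputable def selfMap : pullback f' f' ⟶ pullback f f := pullback.map f' f' f f eX eX eY h.w.symm h.w.symm

theorem isPullback_selfMap :
    IsPullback (selfMap h) (pullback.fst f' f' ≫ f') (pullback.fst f f ≫ f) eY := by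
  refine IsPullback.paste_vert ?_ h
  refine IsPullback.of_right ?_ (pullback.lift_fst _ _ _) (IsPullback.of_hasPullback f f).flip
  rw [selfMap, pullback.lift_snd, h.w]
  exact (IsPullback.of_hasPullback f' f').flip.paste_horiz h

theorem isPullback_diagonal :
    IsPullback eX (pullback.diagonal f') (pullback.diagonal f) (selfMap h) := by
  refine IsPullback.of_bot ?_ ?_ (isPullback_selfMap h)
  · rw [pullback.diagonal_fst_assoc, pullback.diagonal_fst_assoc]
    exact h
  · apply pullback.hom_ext <;> simp [selfMap, pullback.lift_fst, pullback.lift_snd]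

end

theorem diag_instances {X Y T : Scheme.{u}} (f : X ⟶ Y) (g : Y ⟶ T)
    [LocallyOfFiniteType f] [QuasiCompact f]
    [LocallyOfFiniteType g] [QuasiCompact g] [LocallyOfFiniteType (f ≫ g)] [QuasiCompact (f ≫ g)] :
    LocallyOfFiniteType ((pullback.fst f f ≫ f) ≫ g) ∧ QuasiCompact ((pullback.fst f f ≫ f) ≫ g) ∧
      LocallyOfFiniteType (pullback.diagonal f ≫ (pullback.fst f f ≫ f) ≫ g) ∧
      QuasiCompact (pullback.diagonal f ≫ (pullback.fst f f ≫ f) ≫ g) := by
  rw [show pullback.diagonal f ≫ (pullback.fst f f ≫ f) ≫ g = f ≫ g by simp]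
  exact ⟨inferInstance, inferInstance, ‹_›, ‹_›⟩

/-- constructible properties pulled back through the diagonal -/
theorem isConsMor_diagonal (hP : ConsProp.IsConsMor P) :
    ConsProp.IsConsMor (fun X Y T f g => P (pullback.diagonal f) ((pullback.fst f f ≫ f) ≫ g)) := by
  refine ⟨?_, fun X Y S f g _ _ _ _ _ _ => ?_⟩
  · intro X X' Y Y' T T' f g f' g' eX eY h _ _ _ _ _ _ _ _ hY hX
    obtain ⟨_, _⟩ := qc_lft_of_comp f g
    obtain ⟨_, _, _, _⟩ := diag_instances f g
    exact hP.1 _ _ _ _ _ _ _ ((isPullback_selfMap hX).paste_vert hY) (isPullback_diagonal hX)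
  · obtain ⟨_, _⟩ := qc_lft_of_comp f g
    obtain ⟨_, _, _, _⟩ := diag_instances f g
    have e : ConsProp.locusMor (fun X Y T f g => P (pullback.diagonal f) ((pullback.fst f f ≫ f) ≫ g)) f g =
        ConsProp.locusMor P (pullback.diagonal f) ((pullback.fst f f ≫ f) ≫ g) := Set.ext fun s =>
      iff_mem_locusMor hP.1 ((isPullback_selfMap (isPullback_fiberMap f g s)).paste_vert (isPullback_fiber g s))
        (isPullback_diagonal (isPullback_fiberMap f g s))
    rw [e]
    exact hP.2 _ _

theorem IsConsMor.congr {Q : ∀ ⦃X Y T : Scheme.{u}⦄, (X ⟶ Y) → (Y ⟶ T) → Prop}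
    (hP : ConsProp.IsConsMor P) (h : ∀ {X Y T : Scheme.{u}} (f : X ⟶ Y) (g : Y ⟶ T), P f g ↔ Q f g) :
    ConsProp.IsConsMor Q := by
  refine ⟨?_, fun X Y S f g _ _ _ _ _ _ => ?_⟩
  · intro X X' Y Y' T T' f g f' g' eX eY h' _ _ _ _ _ _ _ _ hY hX
    exact (h f g).symm.trans ((hP.1 f g f' g' eX eY h' hY hX).trans (h f' g'))
  · rw [show ConsProp.locusMor Q f g = ConsProp.locusMor P f g from Set.ext fun s => (h _ _).symm]
    exact hP.2 f g

theorem isConsMor_universallyInjective : ConsProp.IsConsMor (fun X Y T f g => UniversallyInjective f) :=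
  IsConsMor.congr (isConsMor_diagonal isConsMor_surjective) fun f _ => (UniversallyInjective.iff_diagonal f).symm

theorem isSeparated_iff_isClosed_range {X Y : Scheme.{u}} (f : X ⟶ Y) :
    IsClosed (Set.range (pullback.diagonal f)) ↔ IsSeparated f := by
  refine ⟨fun h => ⟨IsClosedImmersion.of_isPreimmersion _ h⟩, fun _ => ?_⟩
  exact (pullback.diagonal f).isClosedEmbedding.isClosed_range

theorem isConsMor_isSeparated : ConsProp.IsConsMor (fun X Y T f g => IsSeparated f) :=
  IsConsMor.congr (isConsMor_diagonal isConsMor_isClosed_range) fun f _ => isSeparated_iff_isClosed_range f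

end Groth.Agent.ConsEngine

namespace Groth.Agent.ConsEngine

/-- from relations on morphisms to relations on schemes over a field -/
theorem isCons_of_isConsMor {Q : MorphismProperty Scheme.{u}}
    (hP : ConsProp.IsConsMor (fun X Y T f g => Q f)) : ConsProp.IsCons (fun Y T g => Q g) := by
  refine ⟨?_, fun X S u _ _ _ _ => ?_⟩
  · intro Y Y' T T' g g' e h _ _ _ _ _ _ hsq
    have : LocallyOfFiniteType (g ≫ 𝟙 T) := by rw [Category.comp_id]; infer_instance
    have : QuasiCompact (g ≫ 𝟙 T) := by rw [Category.comp_id]; infer_instance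
    exact hP.1 g (𝟙 T) g' (𝟙 T') e h h (IsPullback.id_vert h) hsq
  · have : LocallyOfFiniteType (u ≫ 𝟙 S) := by rw [Category.comp_id]; infer_instance
    have : QuasiCompact (u ≫ 𝟙 S) := by rw [Category.comp_id]; infer_instance
    rw [show ConsProp.locus (fun Y T g => Q g) u = ConsProp.locusMor (fun X Y T f g => Q f) u (𝟙 S) from
      Set.ext fun s => iff_mem_locusMor hP.1 (f' := u.fiberToSpecResidueField s) (g' := 𝟙 _)
        (IsPullback.id_vert _) (isPullback_fiber u s)]
    exact hP.2 u (𝟙 S)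

end Groth.Agent.ConsEngine
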