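import Groth.Agent.ConsEngine.Props
import Groth.Agent.LimMore.Basic
import Groth.Agent.DvrDom.ClosedProper

/-!
Constructibility of: finite, closed immersion; ind-constructibility of affine.
-/

set_option autoImplicit false
set_option linter.style.haveILetI false
set_option linter.unusedVariables false
universe u
open CategoryTheory CategoryTheory.Limits AlgebraicGeometry

namespace Groth.Agent.ConsEngine

theorem spreadsOut_isFinite : SpreadsOut.{u} @IsFinite := by
  intro I _ _ D _ c hc i₀ _ X₀ Y₀ f₀ g₀ _ _ _ _ _ _ X Y f g qY qX hY hX hf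
  haveI := hf
  haveI : LocallyOfFiniteType f₀ := locallyOfFiniteType_of_comp f₀ g₀
  exact LimMore.exists_isFinite D c hc f₀ g₀ hY hX

theorem spreadsOut_isAffineHom : SpreadsOut.{u} @IsAffineHom := by
  intro I _ _ D _ c hc i₀ _ X₀ Y₀ f₀ g₀ _ _ _ _ _ _ X Y f g qY qX hY hX hf
  haveI := hf
  exact LimDesc.exists_isAffineHom D c hc f₀ g₀ hY hX

theorem image_of_isPullback {X X' Y Y' : Scheme.{u}} {f : X ⟶ Y} {f' : X' ⟶ Y'} {eX : X' ⟶ X} {e : Y' ⟶ Y}
    (h : IsPullback eX f' f e) (C : Set X) : f' '' (eX ⁻¹' C) = e ⁻¹' (f '' C) := by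
  ext y
  constructor
  · rintro ⟨x, hx, rfl⟩
    exact ⟨eX x, hx, by rw [← Scheme.Hom.comp_apply, h.w, Scheme.Hom.comp_apply]⟩
  · rintro ⟨x, hx, hxy⟩
    obtain ⟨z, hz1, hz2⟩ := Scheme.Pullback.exists_preimage_pullback (f := f) (g := e) x y hxy
    refine ⟨h.isoPullback.inv z, ?_, ?_⟩
    · show eX (h.isoPullback.inv z) ∈ C
      rw [← Scheme.Hom.comp_apply, h.isoPullback_inv_fst, hz1]; exact hx
    · rw [← Scheme.Hom.comp_apply, h.isoPullback_inv_snd, hz2]

/-- failure of universal closedness on the generic fibre spreads out -/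
theorem interior_not_universallyClosed {X Y S : Scheme.{u}} (f : X ⟶ Y) (g : Y ⟶ S)
    [IsIntegral S] [IsNoetherian S] [LocallyOfFiniteType g] [QuasiCompact g]
    [LocallyOfFiniteType (f ≫ g)] [QuasiCompact (f ≫ g)]
    (hη : ¬ UniversallyClosed (MoreMor.fiberMap f g (genericPoint S))) :
    (interior {s : S | ¬ UniversallyClosed (MoreMor.fiberMap f g s)}).Nonempty := by
  obtain ⟨_, _⟩ := qc_lft_of_comp f g
  haveI : QuasiCompact (MoreMor.fiberMap f g (genericPoint S)) :=
    MorphismProperty.of_isPullback (P := @QuasiCompact) (isPullback_fiberMap f g _) ‹_›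
  obtain ⟨n, hn⟩ : ∃ n : ℕ, ¬ IsClosedMap (pullback.snd (MoreMor.fiberMap f g (genericPoint S))
      (𝔸(ULift.{u} (Fin n); g.fiber (genericPoint S)) ↘ g.fiber (genericPoint S))) := by
    by_contra hc
    exact hη (universallyClosed_of_affineSpace _ fun n => by_contra fun hn => hc ⟨n, hn⟩)
  let σ := ULift.{u} (Fin n)
  simp only [IsClosedMap, not_forall, exists_prop] at hn
  obtain ⟨Z, hZ, hZi⟩ := hn
  let a : 𝔸(σ; Y) ⟶ Y := 𝔸(σ; Y) ↘ Y
  let k : ∀ s : S, 𝔸(σ; g.fiber s) ⟶ 𝔸(σ; Y) := fun s => AffineSpace.map σ (g.fiberι s)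
  have hk : ∀ s, IsPullback (k s) (𝔸(σ; g.fiber s) ↘ g.fiber s) a (g.fiberι s) := fun s =>
    AffineSpace.isPullback_map (n := σ) (g.fiberι s)
  let fA := pullback.snd f a
  let kX : ∀ s : S, pullback (MoreMor.fiberMap f g s) (𝔸(σ; g.fiber s) ↘ g.fiber s) ⟶ pullback f a := fun s =>
    pullback.lift (pullback.fst _ _ ≫ (f ≫ g).fiberι s) (pullback.snd _ _ ≫ k s) (by
      rw [Category.assoc, Category.assoc, ← fiberMap_fiberι, pullback.condition_assoc, (hk s).w])
  have hkX : ∀ s, IsPullback (kX s) (pullback.snd (MoreMor.fiberMap f g s) (𝔸(σ; g.fiber s) ↘ g.fiber s)) fA (k s) := by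
    intro s
    refine IsPullback.of_right ?_ (pullback.lift_snd _ _ _) (IsPullback.of_hasPullback f a)
    rw [pullback.lift_fst, (hk s).w]
    exact (IsPullback.of_hasPullback (MoreMor.fiberMap f g s) (𝔸(σ; g.fiber s) ↘ g.fiber s)).paste_horiz
      (isPullback_fiberMap f g s)
  let C : TopologicalSpace.Closeds ↥(pullback f a) := ⟨closure (kX (genericPoint S) '' Z), isClosed_closure⟩
  let i := (Scheme.IdealSheafData.vanishingIdeal C).subschemeι
  have hr : Set.range i = closure (kX (genericPoint S) '' Z) :=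
    (Scheme.IdealSheafData.range_subschemeι _).trans (Scheme.IdealSheafData.coe_support_vanishingIdeal C)
  haveI : IsLocallyNoetherian Y := LocallyOfFiniteType.isLocallyNoetherian g
  haveI : QuasiCompact fA := inferInstance
  let gA : 𝔸(σ; Y) ⟶ S := a ≫ g
  haveI : LocallyOfFiniteType gA := inferInstance
  haveI : QuasiCompact gA := inferInstance
  haveI : LocallyOfFiniteType ((i ≫ fA) ≫ gA) := inferInstance
  haveI : QuasiCompact ((i ≫ fA) ≫ gA) := inferInstance
  have hloc : ∀ s, s ∈ ConsProp.locusMor (fun X Y T f g => IsClosed (Set.range f)) (i ≫ fA) gA ↔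
      IsClosed (pullback.snd (MoreMor.fiberMap f g s) (𝔸(σ; g.fiber s) ↘ g.fiber s) ''
        (kX s ⁻¹' closure (kX (genericPoint S) '' Z))) := by
    intro s
    rw [← iff_mem_locusMor isConsMor_isClosed_range.1 (P := fun X Y T f g => IsClosed (Set.range f))
      ((hk s).paste_vert (isPullback_fiber g s)) (IsPullback.of_hasPullback (i ≫ fA) (k s)), image_of_isPullback (hkX s)]
    show IsClosed (Set.range (pullback.snd (i ≫ fA) (k s))) ↔ _
    rw [Scheme.Pullback.range_snd]
    simp only [Scheme.Hom.comp_base, TopCat.coe_comp, Set.range_comp, hr]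
  haveI : IsPreimmersion (g.fiberι (genericPoint S)) :=
    inferInstanceAs (IsPreimmersion (pullback.fst g (S.fromSpecResidueField (genericPoint S))))
  haveI : IsPreimmersion (k (genericPoint S)) :=
    MorphismProperty.of_isPullback (P := @IsPreimmersion) (hk _).flip ‹_›
  haveI : IsPreimmersion (kX (genericPoint S)) :=
    MorphismProperty.of_isPullback (P := @IsPreimmersion) (hkX _).flip ‹_›
  have hηL : genericPoint S ∉ ConsProp.locusMor (fun X Y T f g => IsClosed (Set.range f)) (i ≫ fA) gA := by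
    rw [hloc, ← (kX (genericPoint S)).isEmbedding.isInducing.closure_eq_preimage_closure_image, hZ.closure_eq]
    exact hZi
  refine ((isIndConsMor_not isConsMor_isClosed_range).2 (i ≫ fA) gA hηL).mono (interior_mono fun s hs hUC => ?_)
  have hs' : s ∉ ConsProp.locusMor (fun X Y T f g => IsClosed (Set.range f)) (i ≫ fA) gA := hs
  rw [hloc] at hs'
  exact hs' ((UniversallyClosed.universally_isClosedMap (f := MoreMor.fiberMap f g s) : _) _ _ _
    (IsPullback.of_hasPullback _ _).flip _ (isClosed_closure.preimage (Scheme.Hom.continuous _)))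

theorem isConsMor_isFinite : ConsProp.IsConsMor.{u} (fun X Y T f g => IsFinite f) := by
  have hP := isFieldStableMor_of_descends.{u} @IsFinite
  refine ⟨hP, fun X Y S f g _ _ _ _ _ _ => ?_⟩
  by_cases hη : genericPoint S ∈ ConsProp.locusMor (fun X Y T f g => IsFinite f) f g
  · exact Or.inl (interior_of_generic @IsFinite hP spreadsOut_isFinite f g hη)
  right
  obtain ⟨_, _⟩ := qc_lft_of_comp f g
  have hft : ∀ s, LocallyOfFiniteType (MoreMor.fiberMap f g s) ∧ QuasiCompact (MoreMor.fiberMap f g s) := fun s =>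
    ⟨MorphismProperty.of_isPullback (P := @LocallyOfFiniteType) (isPullback_fiberMap f g s) ‹_›,
      MorphismProperty.of_isPullback (P := @QuasiCompact) (isPullback_fiberMap f g s) ‹_›⟩
  by_cases hsep : genericPoint S ∈ ConsProp.locusMor (fun X Y T f g => IsSeparated f) f g
  · by_cases hqf : genericPoint S ∈ ConsProp.locusMor (fun X Y T f g => LocallyQuasiFinite f) f g
    · refine (interior_not_universallyClosed f g fun hUC => hη ?_).mono
        (interior_mono fun s (hs : ¬ UniversallyClosed (MoreMor.fiberMap f g s)) (hf : IsFinite (MoreMor.fiberMap f g s)) => hs (haveI := hf; inferInstance))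
      haveI : IsSeparated (MoreMor.fiberMap f g (genericPoint S)) := hsep
      haveI : LocallyQuasiFinite (MoreMor.fiberMap f g (genericPoint S)) := hqf
      haveI := hUC
      obtain ⟨_, _⟩ := hft (genericPoint S)
      haveI : IsProper (MoreMor.fiberMap f g (genericPoint S)) := {}
      show IsFinite (MoreMor.fiberMap f g (genericPoint S))
      exact IsFinite.of_isProper_of_locallyQuasiFinite _
    · exact ((isIndConsMor_not isConsMor_lqf).2 f g hqf).mono (interior_mono fun s (hs : ¬ LocallyQuasiFinite (MoreMor.fiberMap f g s)) (hf : IsFinite (MoreMor.fiberMap f g s)) => hs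
        (show LocallyQuasiFinite (MoreMor.fiberMap f g s) from haveI := hf; inferInstance))
  · exact ((isIndConsMor_not isConsMor_isSeparated).2 f g hsep).mono (interior_mono fun s (hs : ¬ IsSeparated (MoreMor.fiberMap f g s)) (hf : IsFinite (MoreMor.fiberMap f g s)) => hs
      (show IsSeparated (MoreMor.fiberMap f g s) from haveI := hf; inferInstance))

theorem isConsMor_isClosedImmersion : ConsProp.IsConsMor.{u} (fun X Y T f g => IsClosedImmersion f) :=
  IsConsMor.congr' (IsConsMor.and isConsMor_isFinite isConsMor_mono) fun f g _ _ _ _ _ _ =>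
    (IsClosedImmersion.iff_isFinite_and_mono f).symm

theorem isIndConsMor_isAffineHom : ConsProp.IsIndConsMor.{u} (fun X Y T f g => IsAffineHom f) :=
  ⟨isFieldStableMor_of_descends.{u} @IsAffineHom, fun X Y S f g _ _ _ _ _ _ hη =>
    interior_of_generic @IsAffineHom (isFieldStableMor_of_descends.{u} @IsAffineHom) spreadsOut_isAffineHom f g hη⟩

end Groth.Agent.ConsEngine
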