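import Groth.Agent.ConsEngine.LimSec
import Groth.Agent.FlatMor.ReducedDescent

universe u

open CategoryTheory Limits AlgebraicGeometry Topology TopologicalSpace

namespace Groth.Agent.ConsEngine

variable {I : Type u} [SmallCategory I] [IsCofiltered I] (D : I ⥤ Scheme.{u})
  [∀ {i j} (f : i ⟶ j), IsAffineHom (D.map f)] (c : Cone D) (hc : IsLimit c)

omit [IsCofiltered I] [∀ {i j : I} (f : i ⟶ j), IsAffineHom (D.map f)] in
theorem appLE_trans {i j k : I} (φ : j ⟶ i) (ψ : k ⟶ j) (U : (D.obj i).Opens)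
    (s : Γ(D.obj j, D.map φ ⁻¹ᵁ U)) :
    (c.π.app k).appLE _ (c.π.app i ⁻¹ᵁ U) (preimage_π_le D c (ψ ≫ φ) U)
        ((D.map ψ).appLE (D.map φ ⁻¹ᵁ U) (D.map (ψ ≫ φ) ⁻¹ᵁ U)
          (by rw [D.map_comp]; rfl) s) =
      (c.π.app j).appLE _ (c.π.app i ⁻¹ᵁ U) (preimage_π_le D c φ U) s := by
  rw [← ConcreteCategory.comp_apply, Scheme.Hom.appLE_comp_appLE]
  simp only [c.w ψ]

theorem app_eq_zero_of_appLE_eq_zero {X Y : Scheme.{u}} (f : X ⟶ Y) {V : Y.Opens} {W : X.Opens}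
    (e : W ≤ f ⁻¹ᵁ V) (e' : f ⁻¹ᵁ V ≤ W) (s : Γ(Y, V)) (hs : f.appLE V W e s = 0) : f.app V s = 0 := by
  have := congrArg (X.presheaf.map (homOfLE e').op) hs
  rw [← ConcreteCategory.comp_apply, Scheme.Hom.appLE_map, map_zero] at this
  rw [Scheme.Hom.app_eq_appLE]
  exact this

theorem appLE_eq_zero_of_app_eq_zero {X Y : Scheme.{u}} (f : X ⟶ Y) {V : Y.Opens} {W : X.Opens}
    (e : W ≤ f ⁻¹ᵁ V) (s : Γ(Y, V)) (hs : f.app V s = 0) : f.appLE V W e s = 0 := by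
  show (f.app V ≫ X.presheaf.map (homOfLE e).op) s = 0
  rw [ConcreteCategory.comp_apply, hs, map_zero]

theorem flat_morphismRestrict_of_app {X Y : Scheme.{u}} (f : X ⟶ Y) (U : Y.Opens) [IsAffine U.toScheme]
    [IsAffine (f ⁻¹ᵁ U).toScheme] (H : (f.app U).hom.Flat) : Flat (f ∣_ U) := by
  rw [HasRingHomProperty.iff_of_isAffine (P := @Flat)]
  refine (RingHom.Flat.respectsIso.arrow_mk_iso_iff (g := f.app U) ?_).mpr H
  refine Arrow.isoMk U.topIso (f ⁻¹ᵁ U).topIso ?_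
  simp only [Scheme.Opens.topIso, Functor.mapIso_hom, eqToIso.hom, Iso.op_hom, eqToHom_op, Arrow.mk_hom, Scheme.Hom.app_eq_appLE, Scheme.Hom.appTop, Scheme.Hom.resLE_appLE, morphismRestrict_appLE]
  erw [Scheme.Hom.map_appLE, Scheme.Hom.appLE_map]

omit [IsCofiltered I] [∀ {i j : I} (f : i ⟶ j), IsAffineHom (D.map f)] in
theorem appLE_trans' {i j k : I} (φ : j ⟶ i) (ψ : k ⟶ j) (φ' : k ⟶ i) (h : ψ ≫ φ = φ')
    (U : (D.obj i).Opens) (s : Γ(D.obj j, D.map φ ⁻¹ᵁ U)) :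
    (c.π.app k).appLE _ (c.π.app i ⁻¹ᵁ U) (preimage_π_le D c φ' U)
        ((D.map ψ).appLE (D.map φ ⁻¹ᵁ U) (D.map φ' ⁻¹ᵁ U)
          (by rw [← h, D.map_comp]; rfl) s) =
      (c.π.app j).appLE _ (c.π.app i ⁻¹ᵁ U) (preimage_π_le D c φ U) s := by
  subst h
  exact appLE_trans D c φ ψ U s

omit [IsCofiltered I] [∀ {i j : I} (f : i ⟶ j), IsAffineHom (D.map f)] in
theorem app_comp_appLE {i j k : I} (φ : j ⟶ i) (ψ : k ⟶ j) (U : (D.obj i).Opens) :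
    (D.map φ).app U ≫ (D.map ψ).appLE (D.map φ ⁻¹ᵁ U) (D.map (ψ ≫ φ) ⁻¹ᵁ U)
      (by rw [D.map_comp]; rfl) = (D.map (ψ ≫ φ)).app U := by
  rw [Scheme.Hom.app_eq_appLE, Scheme.Hom.app_eq_appLE, Scheme.Hom.appLE_comp_appLE]
  simp only [D.map_comp]

include hc in
/-- a section of a stage that dies in the limit dies at a deeper stage -/
theorem exists_appLE_eq_zero {i j : I} (φ : j ⟶ i) {U : (D.obj i).Opens} (hU : IsAffineOpen U)
    (s : Γ(D.obj j, D.map φ ⁻¹ᵁ U))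
    (hs : (c.π.app j).appLE _ (c.π.app i ⁻¹ᵁ U) (preimage_π_le D c φ U) s = 0) :
    ∃ (k : I) (ψ : k ⟶ j), (D.map ψ).appLE (D.map φ ⁻¹ᵁ U) (D.map (ψ ≫ φ) ⁻¹ᵁ U)
      (by rw [D.map_comp]; rfl) s = 0 := by
  have e : c.π.app j ⁻¹ᵁ D.map φ ⁻¹ᵁ U = c.π.app i ⁻¹ᵁ U := by
    rw [← Scheme.Hom.comp_preimage, c.w]
  have h0 : (c.π.app j).app (D.map φ ⁻¹ᵁ U) s = 0 :=
    app_eq_zero_of_appLE_eq_zero _ (preimage_π_le D c φ U) e.le s hs
  obtain ⟨k, ψ, hk⟩ := exists_app_map_eq_zero_of_isLimit D c hc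
    (hU.preimage (D.map φ)).isCompact s h0
  exact ⟨k, ψ, appLE_eq_zero_of_app_eq_zero _ _ s hk⟩

include hc in
/-- transition-flat systems have flat projections -/
theorem flat_π (i : I) (hf : ∀ (j : I) (φ : j ⟶ i), Flat (D.map φ)) : Flat (c.π.app i) := by
  haveI : IsAffineHom (c.π.app i) := isAffineHom_π_app _ _ hc i
  refine IsZariskiLocalAtTarget.of_iSup_eq_top (P := @Flat) _ (iSup_affineOpens_eq_top (D.obj i))
    fun ⟨U, hU⟩ => ?_
  haveI : IsAffine U.toScheme := hU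
  haveI : IsAffine (c.π.app i ⁻¹ᵁ U).toScheme := hU.preimage _
  refine flat_morphismRestrict_of_app (c.π.app i) U ?_
  letI := ((c.π.app i).app U).hom.toAlgebra
  show Module.Flat _ _
  refine Module.Flat.of_forall_isTrivialRelation fun {l} {f} {x} hfx => ?_
  classical
  choose js φs ss hs using fun t => exists_app_π_eq D c hc hU (x t)
  obtain ⟨k, χ, hχ⟩ : ∃ (k : I) (χ : ∀ t, k ⟶ js t), ∃ φ : k ⟶ i, ∀ t, χ t ≫ φs t = φ := by
    have H : ∀ (n : ℕ) (js : Fin n → I) (φs : ∀ t, js t ⟶ i),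
        ∃ (k : I) (χ : ∀ t, k ⟶ js t) (φ : k ⟶ i), ∀ t, χ t ≫ φs t = φ := by
      intro n
      induction n with
      | zero => exact fun js φs => ⟨i, fun t => t.elim0, 𝟙 i, fun t => t.elim0⟩
      | succ n ih =>
        intro js φs
        obtain ⟨k, χ, φ, h⟩ := ih (fun t => js t.succ) (fun t => φs t.succ)
        obtain ⟨m, a, b, hab⟩ := IsCofiltered.cospan φ (φs 0)
        exact ⟨m, Fin.cons b (fun t => a ≫ χ t), b ≫ φs 0, fun t => by
          refine Fin.cases rfl (fun t => ?_) t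
          simp [h t, hab]⟩
    exact H l js φs
  obtain ⟨φk, hφk⟩ := hχ
  let A := Γ(D.obj k, D.map φk ⁻¹ᵁ U)
  letI algk : Algebra Γ(D.obj i, U) A := ((D.map φk).app U).hom.toAlgebra
  let P : A →+* Γ(c.pt, c.π.app i ⁻¹ᵁ U) :=
    ((c.π.app k).appLE _ (c.π.app i ⁻¹ᵁ U) (preimage_π_le D c φk U)).hom
  have hP : ∀ r : Γ(D.obj i, U), P (algebraMap Γ(D.obj i, U) A r) = (c.π.app i).app U r :=
    fun r => appLE_π_map D c φk r
  let s : Fin l → A := fun t => (D.map (χ t)).appLE (D.map (φs t) ⁻¹ᵁ U) (D.map φk ⁻¹ᵁ U)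
    (by rw [← Scheme.Hom.comp_preimage, ← D.map_comp, hφk]) (ss t)
  have hPs : ∀ t, P (s t) = x t := fun t => by
    rw [← hs t]
    exact appLE_trans' D c (φs t) (χ t) φk (hφk t) U (ss t)
  have hsum : (c.π.app k).appLE _ (c.π.app i ⁻¹ᵁ U) (preimage_π_le D c φk U) (∑ t, f t • s t) = 0 := by
    show P _ = 0
    rw [map_sum]
    refine Eq.trans (Finset.sum_congr rfl fun t _ => ?_) hfx
    rw [Algebra.smul_def, Algebra.smul_def, map_mul, hP, hPs]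
    rfl
  obtain ⟨m, ψ, hm⟩ := exists_appLE_eq_zero D c hc φk hU _ hsum
  let B := Γ(D.obj m, D.map (ψ ≫ φk) ⁻¹ᵁ U)
  letI algm : Algebra Γ(D.obj i, U) B := ((D.map (ψ ≫ φk)).app U).hom.toAlgebra
  haveI : Module.Flat Γ(D.obj i, U) B := by
    have h1 : RingHom.Flat ((D.map (ψ ≫ φk)).appLE U _ le_rfl).hom :=
      HasRingHomProperty.appLE @Flat (D.map (ψ ≫ φk)) (hf m (ψ ≫ φk)) ⟨U, hU⟩
        ⟨_, hU.preimage (D.map (ψ ≫ φk))⟩ le_rfl
    rw [← Scheme.Hom.app_eq_appLE] at h1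
    exact h1
  let T : A →+* B := ((D.map ψ).appLE (D.map φk ⁻¹ᵁ U) (D.map (ψ ≫ φk) ⁻¹ᵁ U)
    (by rw [D.map_comp]; rfl)).hom
  have hT : ∀ r, T (algebraMap _ A r) = algebraMap _ B r := fun r => by
    show ((D.map φk).app U ≫ (D.map ψ).appLE _ _ _) r = (D.map (ψ ≫ φk)).app U r
    exact ConcreteCategory.congr_hom (app_comp_appLE D φk ψ U) r
  have hB : ∑ t, f t • T (s t) = 0 := by
    refine Eq.trans ?_ hm
    show _ = T _
    rw [map_sum]
    exact Finset.sum_congr rfl fun t _ => by rw [Algebra.smul_def, Algebra.smul_def, map_mul, hT]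
  obtain ⟨q, a, y, hy, ha⟩ := Module.Flat.isTrivialRelation_of_sum_smul_eq_zero (R := Γ(D.obj i, U)) (M := B) (f := f)
    (x := fun t => T (s t)) (by convert hB)
  let Q : B →+* Γ(c.pt, c.π.app i ⁻¹ᵁ U) :=
    ((c.π.app m).appLE _ (c.π.app i ⁻¹ᵁ U) (preimage_π_le D c (ψ ≫ φk) U)).hom
  refine ⟨q, a, fun e => Q (y e), fun t => ?_, ha⟩
  rw [← hPs t]
  refine (appLE_trans D c φk ψ U (s t)).symm.trans ?_
  show Q (T (s t)) = _
  rw [show T (s t) = _ from hy t, map_sum]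
  refine Finset.sum_congr rfl fun e _ => ?_
  rw [Algebra.smul_def, Algebra.smul_def, map_mul]
  congr 1
  exact appLE_π_map D c (ψ ≫ φk) _

include hc in
theorem surjective_π (i : I) (hs : ∀ (j : I) (φ : j ⟶ i), Surjective (D.map φ)) :
    Surjective (c.π.app i) := by
  refine ⟨Set.range_eq_univ.mp (Set.eq_univ_of_forall fun x => ?_)⟩
  rw [range_π_eq D c hc i]
  exact Set.mem_iInter₂.mpr fun j φ => (hs j φ).surj x

include hc in
/-- a non-reduced limit has non-reduced stages -/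
theorem eventually_not_isReduced (h : ¬ IsReduced c.pt) :
    ∃ i : I, ∀ (j : I) (_ : j ⟶ i), ¬ IsReduced (D.obj j) := by
  by_contra! hne
  apply h
  refine @isReduced_of_isReduced_stalk _ fun x => ⟨fun a ha => ?_⟩
  obtain ⟨W, hxW, t, rfl⟩ := c.pt.presheaf.exists_germ_eq a
  obtain ⟨n, hn⟩ := ha
  rw [← map_pow] at hn
  obtain ⟨W', hxW', i1, i2, he⟩ := c.pt.presheaf.germ_eq x hxW hxW (t ^ n) 0 (by rw [hn, map_zero])
  rw [map_zero] at he
  obtain ⟨_, ⟨i, U, hU, rfl⟩, hxU, hUW⟩ :=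
    TopologicalSpace.Opens.isBasis_iff_nbhd.mp (isBasis_preimage_isAffineOpen D c hc) hxW'
  rw [← c.pt.presheaf.germ_res_apply (homOfLE (hUW.trans i1.le)) x hxU t]
  suffices hb : c.pt.presheaf.map (homOfLE (hUW.trans i1.le)).op t = 0 by rw [hb, map_zero]
  obtain ⟨j, φ, s, hs⟩ := exists_app_π_eq D c hc hU (c.pt.presheaf.map (homOfLE (hUW.trans i1.le)).op t)
  rw [← hs]
  have hsn : (c.π.app j).appLE _ (c.π.app i ⁻¹ᵁ U) (preimage_π_le D c φ U) (s ^ n) = 0 := by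
    rw [map_pow, hs, ← map_pow]
    have := congrArg (c.pt.presheaf.map (homOfLE hUW).op) he
    rw [map_zero, ← ConcreteCategory.comp_apply, ← Functor.map_comp] at this
    exact this
  obtain ⟨k, ψ, hk⟩ := exists_appLE_eq_zero D c hc φ hU _ hsn
  obtain ⟨l, χ, hl⟩ := hne k
  haveI := hl
  rw [← appLE_trans D c φ (χ ≫ ψ) U s]
  suffices h0 : (D.map (χ ≫ ψ)).appLE (D.map φ ⁻¹ᵁ U) (D.map ((χ ≫ ψ) ≫ φ) ⁻¹ᵁ U)
      (by rw [D.map_comp _ φ]; rfl) s = 0 by rw [h0, map_zero]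
  refine IsNilpotent.eq_zero ⟨n, ?_⟩
  rw [← map_pow]
  have hk' := congrArg ((D.map χ).appLE (D.map (ψ ≫ φ) ⁻¹ᵁ U) (D.map ((χ ≫ ψ) ≫ φ) ⁻¹ᵁ U)
    (by rw [Category.assoc, D.map_comp χ]; rfl)) hk
  rw [map_zero, ← ConcreteCategory.comp_apply, Scheme.Hom.appLE_comp_appLE] at hk'
  simpa only [D.map_comp χ ψ] using hk'

end Groth.Agent.ConsEngine
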