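import Groth.Agent.ConsEngine.ClosureFibre
import Groth.Agent.ConsEngine.LimFlat
import Groth.Agent.LimDesc.Tower

set_option linter.style.haveILetI false
universe u

open CategoryTheory Limits AlgebraicGeometry Topology TopologicalSpace

namespace Groth.Agent.ConsEngine

/-- the closure of a pro-constructible set consists of specialisations of its points -/
theorem exists_specializes_of_mem_closure_proCons {Y : Scheme.{u}} {E : Set Y}
    (hE : ProCons.IsProConstructible E) {y : Y} (hy : y ∈ closure E) : ∃ x ∈ E, x ⤳ y := by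
  obtain ⟨W, hW, hyW, -⟩ := exists_isAffineOpen_mem_and_subset (U := (⊤ : Y.Opens)) (x := y) trivial
  haveI : IsAffine W.toScheme := hW
  obtain ⟨_, _, _, _⟩ := ConsTop.affine_instances hW
  obtain ⟨X', f, _, hf⟩ := ConsTop.exists_affine_range_eq (Z := W.toScheme) (E := W.ι ⁻¹' E)
    (@IsClosed.isOpen_compl _ (constructibleTopology ↥(W : Set Y)) _ (ConsTop.proCons_iff_affine.mp hE W hW))
  haveI := hf
  haveI : QuasiCompact f := (quasiCompact_iff_compactSpace (f := f)).mpr inferInstance
  have hy' : (⟨y, hyW⟩ : W.toScheme) ∈ closure (Set.range f) := by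
    show _ ∈ closure (Set.range f.base)
    rw [hf, ← W.ι.isOpenEmbedding.isOpenMap.preimage_closure_eq_closure_preimage W.ι.continuous]
    exact hy
  obtain ⟨x', hx'⟩ := FpqcDescent.exists_specializes_of_mem_closure f hy'
  refine ⟨W.ι (f x'), ?_, hx'.map W.ι.continuous⟩
  have : f x' ∈ W.ι ⁻¹' E := by rw [← hf]; exact ⟨x', rfl⟩
  exact this

/-- closures of pro-constructible sets commute with preimage along flat maps -/
theorem preimage_closure_eq_of_flat {X Y : Scheme.{u}} (f : X ⟶ Y) [Flat f] {E : Set Y}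
    (hE : ProCons.IsProConstructible E) : f ⁻¹' closure E = closure (f ⁻¹' E) := by
  refine Set.Subset.antisymm (fun x hx => ?_)
    (closure_minimal (Set.preimage_mono subset_closure) (isClosed_closure.preimage f.continuous))
  obtain ⟨z, hz, hzx⟩ := exists_specializes_of_mem_closure_proCons hE hx
  obtain ⟨x', hx', rfl⟩ := Flat.generalizingMap (f := f) hzx
  exact hx'.mem_closed isClosed_closure (subset_closure hz)

variable {I : Type u} [SmallCategory I] [IsCofiltered I] (D : I ⥤ Scheme.{u})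
  [∀ {i j} (f : i ⟶ j), IsAffineHom (D.map f)] (c : Cone D) (hc : IsLimit c)

include hc in
theorem subset_closure_iff_eventually (i₁ : I) [CompactSpace (D.obj i₁)]
    (hfl : ∀ (i : I) (φ : i ⟶ i₁), Flat (D.map φ))
    {A B : Set (D.obj i₁)} (hA : ProCons.IsProConstructible A) (hB : ProCons.IsProConstructible B)
    (hcl : IsConstructible (closure A)) :
    (c.π.app i₁ ⁻¹' B : Set c.pt) ⊆ closure (c.π.app i₁ ⁻¹' A) ↔
      ∃ (j : I) (φ : j ⟶ i₁), D.map φ ⁻¹' B ⊆ closure (D.map φ ⁻¹' A) := by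
  haveI := flat_π D c hc i₁ hfl
  constructor
  · intro h
    obtain ⟨j, φ, hj⟩ := exists_preimage_eq_empty D c hc i₁
      (proCons_inter_compl hB ((S3402.result _ _).mp hcl.isLocallyConstructible).1)
      (Set.eq_empty_of_forall_notMem fun x hx => hx.2 (by
        have := h hx.1
        rw [← preimage_closure_eq_of_flat (c.π.app i₁) hA] at this
        exact this))
    refine ⟨j, φ, fun y hy => ?_⟩
    haveI := hfl j φ
    rw [← preimage_closure_eq_of_flat (D.map φ) hA]
    exact by_contra fun hn => (Set.eq_empty_iff_forall_notMem.mp hj) y ⟨hy, hn⟩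
  · rintro ⟨j, φ, h⟩ x hx
    haveI := hfl j φ
    rw [← preimage_closure_eq_of_flat (D.map φ) hA] at h
    rw [← preimage_closure_eq_of_flat (c.π.app i₁) hA]
    show c.π.app i₁ x ∈ closure A
    rw [← map_π_apply D c φ]
    exact h (show D.map φ (c.π.app j x) ∈ B by rw [map_π_apply]; exact hx)

theorem proCons_range {X Y : Scheme.{u}} (f : X ⟶ Y) [QuasiCompact f] :
    ProCons.IsProConstructible (Set.range f) := by
  rw [← Set.image_univ]
  exact S3398.result f _ ConsTop.isProConstructible_univ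

omit [IsCofiltered I] in
theorem subset_closure_iff_isDominant {P Q R R' : Scheme.{u}} (h : P ⟶ Q) (π : R ⟶ Q) (k : R' ⟶ R)
    (e : π ⁻¹' Set.range h = Set.range k) :
    π ⁻¹' Set.univ ⊆ closure (π ⁻¹' Set.range h) ↔ IsDominant k := by
  rw [e, Set.preimage_univ, Set.univ_subset_iff, ← denseRange_iff_closure_range]
  exact ⟨fun h => ⟨h⟩, fun h => h.1⟩

include hc in
/-- dominance descends in flat systems -/
theorem isDominant_iff_eventually {i₀ : I} [CompactSpace (D.obj i₀)]
    (hfl : ∀ (i j : I) (φ : i ⟶ j), Flat (D.map φ))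
    {X₀ Y₀ : Scheme.{u}} (f₀ : X₀ ⟶ Y₀) (g₀ : Y₀ ⟶ D.obj i₀) [CompactSpace Y₀] [QuasiCompact f₀]
    (hcl : IsConstructible (closure (Set.range f₀)))
    {X Y : Scheme.{u}} (f : X ⟶ Y) (g : Y ⟶ c.pt) (qY : Y ⟶ Y₀) (qX : X ⟶ X₀)
    (hY : IsPullback qY g g₀ (c.π.app i₀)) (hX : IsPullback qX f f₀ qY) :
    IsDominant f ↔ ∃ j : Over i₀, IsDominant (LimDesc.stageMap D g₀ f₀ j) := by
  let j₀ : Over i₀ := Over.mk (𝟙 i₀)
  haveI : CompactSpace ((LimDesc.tower D g₀).obj j₀) := LimDesc.compactSpace_stage D g₀ j₀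
  haveI : IsIso (D.map j₀.hom) := inferInstanceAs (IsIso (D.map (𝟙 i₀)))
  let b := LimDesc.toBase D g₀ j₀
  haveI : Flat b := inferInstance
  haveI : QuasiCompact (LimDesc.stageMap D g₀ f₀ j₀) :=
    MorphismProperty.of_isPullback (P := @QuasiCompact) (LimDesc.isPullback_stageMap D g₀ f₀ j₀) ‹_›
  have hA := proCons_range (LimDesc.stageMap D g₀ f₀ j₀)
  have eA : Set.range (LimDesc.stageMap D g₀ f₀ j₀) = b ⁻¹' Set.range f₀ := by
    have := Scheme.image_preimage_eq_of_isPullback (LimDesc.isPullback_stageMap D g₀ f₀ j₀) Set.univ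
    simpa only [Set.preimage_univ, Set.image_univ] using this
  have hclA : IsConstructible (closure (Set.range (LimDesc.stageMap D g₀ f₀ j₀))) := by
    rw [eA, ← preimage_closure_eq_of_flat b (proCons_range f₀)]
    exact hcl.preimage_of_isOpenEmbedding b.isOpenEmbedding
  have key := subset_closure_iff_eventually (LimDesc.tower D g₀) (LimDesc.towerCone D g₀ c hY)
    (LimDesc.isLimitTowerCone D g₀ c hY hc) j₀
    (fun j a => MorphismProperty.of_isPullback (P := @Flat) (LimDesc.isPullback_trans D g₀ a).flip (hfl _ _ a.left))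
    hA ConsTop.isProConstructible_univ hclA
  have e1 : (LimDesc.proj D g₀ c hY j₀ ⁻¹' Set.range (LimDesc.stageMap D g₀ f₀ j₀) : Set Y) = Set.range f := by
    have := Scheme.image_preimage_eq_of_isPullback (LimDesc.isPullback_proj_stageMap D g₀ c hY f₀ hX j₀) Set.univ
    simpa only [Set.preimage_univ, Set.image_univ] using this.symm
  have e2 : ∀ (j : Over i₀) (a : j ⟶ j₀), LimDesc.trans D g₀ a ⁻¹' Set.range (LimDesc.stageMap D g₀ f₀ j₀) =
      Set.range (LimDesc.stageMap D g₀ f₀ j) := fun j a => by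
    have := Scheme.image_preimage_eq_of_isPullback (LimDesc.isPullback_trans_stageMap D g₀ f₀ a) Set.univ
    simpa only [Set.preimage_univ, Set.image_univ] using this.symm
  have lhs := subset_closure_iff_isDominant (LimDesc.stageMap D g₀ f₀ j₀) (LimDesc.proj D g₀ c hY j₀) f e1
  have rhs : ∀ (j : Over i₀) (a : j ⟶ j₀), LimDesc.trans D g₀ a ⁻¹' Set.univ ⊆
      closure (LimDesc.trans D g₀ a ⁻¹' Set.range (LimDesc.stageMap D g₀ f₀ j₀)) ↔
      IsDominant (LimDesc.stageMap D g₀ f₀ j) := fun j a =>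
    subset_closure_iff_isDominant _ (LimDesc.trans D g₀ a) _ (e2 j a)
  refine lhs.symm.trans (key.trans ⟨?_, ?_⟩)
  · rintro ⟨j, a, h⟩
    exact ⟨j, (rhs j a).mp h⟩
  · rintro ⟨j, h⟩
    let a : j ⟶ j₀ := Over.homMk j.hom (Category.comp_id _)
    exact ⟨j, a, (rhs j a).mpr h⟩

end Groth.Agent.ConsEngine
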