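import Groth.Agent.ConsEngine.LimComp

universe u

open CategoryTheory Limits AlgebraicGeometry Topology TopologicalSpace

namespace Groth.Agent.ConsEngine

variable {I : Type u} [SmallCategory I] [IsCofiltered I] (D : I ⥤ Scheme.{u})
  [∀ {i j} (f : i ⟶ j), IsAffineHom (D.map f)] (c : Cone D) (hc : IsLimit c)

omit [IsCofiltered I] [∀ {i j : I} (f : i ⟶ j), IsAffineHom (D.map f)] in
theorem map_π_apply {i j : I} (φ : j ⟶ i) (x : c.pt) : D.map φ (c.π.app j x) = c.π.app i x := by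
  rw [← Scheme.Hom.comp_apply, c.w φ]

include hc in
/-- a clopen decomposition of the limit comes from an open cover of a deep enough stage -/
theorem exists_stage_cover (i₀ : I) [CompactSpace (D.obj i₀)] {U : Set c.pt} (hU : IsClopen U) :
    ∃ (i : I) (_ : i ⟶ i₀) (O O' : (D.obj i).Opens), IsCompact (O : Set (D.obj i)) ∧
      IsCompact (O' : Set (D.obj i)) ∧ (O : Set (D.obj i)) ∪ O' = Set.univ ∧
      c.π.app i ⁻¹' (O : Set (D.obj i)) = U ∧ c.π.app i ⁻¹' (O' : Set (D.obj i)) = Uᶜ := by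
  haveI : IsAffineHom (c.π.app i₀) := isAffineHom_π_app _ _ hc i₀
  haveI : CompactSpace c.pt := QuasiCompact.compactSpace_of_compactSpace (c.π.app i₀)
  obtain ⟨a, P, hP, hUP, hP'⟩ := exists_stage_open D c hc hU.1.isCompact ⟨U, hU.2⟩ le_rfl
  obtain ⟨b, Q, hQ, hUQ, hQ'⟩ := exists_stage_open D c hc hU.2.isClosed_compl.isCompact
    ⟨Uᶜ, hU.1.isOpen_compl⟩ le_rfl
  classical
  obtain ⟨m, hm⟩ := IsCofiltered.inf_objs_exists ({i₀, a, b} : Finset I)
  obtain ⟨p⟩ := hm (X := i₀) (by simp)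
  obtain ⟨q⟩ := hm (X := a) (by simp)
  obtain ⟨r⟩ := hm (X := b) (by simp)
  haveI : CompactSpace (D.obj m) := QuasiCompact.compactSpace_of_compactSpace (D.map p)
  let F : Set (D.obj m) := (D.map q ⁻¹' (P : Set (D.obj a)) ∪ D.map r ⁻¹' (Q : Set (D.obj b)))ᶜ
  have hF : IsClosed F :=
    ((P.2.preimage (D.map q).continuous).union (Q.2.preimage (D.map r).continuous)).isClosed_compl
  have hpre : c.π.app m ⁻¹' F = ∅ := by
    refine Set.eq_empty_of_forall_notMem fun x hx => hx ?_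
    by_cases h : x ∈ U
    · exact Or.inl (show D.map q (c.π.app m x) ∈ P by rw [map_π_apply]; exact hUP h)
    · exact Or.inr (show D.map r (c.π.app m x) ∈ Q by rw [map_π_apply]; exact hUQ h)
  obtain ⟨i, φ, hi⟩ := exists_preimage_eq_empty D c hc m (proCons_of_isClosed hF) hpre
  refine ⟨i, φ ≫ p, D.map (φ ≫ q) ⁻¹ᵁ P, D.map (φ ≫ r) ⁻¹ᵁ Q, (D.map (φ ≫ q)).isCompact_preimage hP,
    (D.map (φ ≫ r)).isCompact_preimage hQ, Set.eq_univ_of_forall fun y => ?_, ?_, ?_⟩
  · by_contra hy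
    refine (Set.eq_empty_iff_forall_notMem.mp hi) y fun h => hy ?_
    rcases h with h | h
    · exact Or.inl (show D.map (φ ≫ q) y ∈ P by rw [D.map_comp, Scheme.Hom.comp_apply]; exact h)
    · exact Or.inr (show D.map (φ ≫ r) y ∈ Q by rw [D.map_comp, Scheme.Hom.comp_apply]; exact h)
  · ext x
    show D.map (φ ≫ q) (c.π.app i x) ∈ P ↔ _
    rw [map_π_apply]
    exact ⟨fun h => hP' h, fun h => hUP h⟩
  · ext x
    show D.map (φ ≫ r) (c.π.app i x) ∈ Q ↔ _
    rw [map_π_apply]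
    exact ⟨fun h => hQ' h, fun h => hUQ h⟩

theorem not_preconnectedSpace_of_isClopen {X : Type*} [TopologicalSpace X] {A B : Set X}
    (hA : IsOpen A) (hB : IsOpen B) (hAB : A ∪ B = Set.univ) (hd : A ∩ B = ∅)
    (ha : A.Nonempty) (hb : B.Nonempty) : ¬ PreconnectedSpace X := fun h => by
  have : (Set.univ ∩ (A ∩ B)).Nonempty :=
    h.isPreconnected_univ A B hA hB hAB.symm.subset (by rwa [Set.univ_inter]) (by rwa [Set.univ_inter])
  simp [hd] at this

theorem exists_clopen_of_not_preconnectedSpace {X : Type*} [TopologicalSpace X]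
    (h : ¬ PreconnectedSpace X) : ∃ U : Set X, IsClopen U ∧ U.Nonempty ∧ Uᶜ.Nonempty := by
  by_contra! hne
  refine h (preconnectedSpace_iff_clopen.mpr fun s hs => ?_)
  by_cases he : s.Nonempty
  · exact Or.inr (Set.compl_empty_iff.mp (hne s hs he))
  · exact Or.inl (Set.not_nonempty_iff_eq_empty.mp he)

include hc in
/-- a disconnected limit has disconnected stages, given quasi-separatedness -/
theorem eventually_not_preconnectedSpace (i₀ : I) [CompactSpace (D.obj i₀)]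
    [QuasiSeparatedSpace (D.obj i₀)] (h : ¬ PreconnectedSpace c.pt) :
    ∃ (i : I) (_ : i ⟶ i₀), ∀ (j : I) (_ : j ⟶ i), ¬ PreconnectedSpace (D.obj j) := by
  obtain ⟨U, hU, hne, hne'⟩ := exists_clopen_of_not_preconnectedSpace h
  obtain ⟨i, p, O, O', hO, hO', hun, eO, eO'⟩ := exists_stage_cover D c hc i₀ hU
  haveI : QuasiSeparatedSpace (D.obj i) := quasiSeparatedSpace_of_quasiSeparated (D.map p)
  obtain ⟨k, φ, hk⟩ := exists_preimage_inter_eq_empty D c hc i (O ⊓ O')
    (QuasiSeparatedSpace.inter_isCompact _ _ O.2 hO O'.2 hO') (K := Set.univ)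
    ConsTop.isProConstructible_univ (by
      rw [Set.inter_univ, Opens.coe_inf, Set.preimage_inter, eO, eO', Set.inter_compl_self])
  refine ⟨k, φ ≫ p, fun j ψ => not_preconnectedSpace_of_isClopen
    (O.2.preimage (D.map (ψ ≫ φ)).continuous) (O'.2.preimage (D.map (ψ ≫ φ)).continuous) ?_ ?_ ?_ ?_⟩
  · show D.map (ψ ≫ φ) ⁻¹' (O : Set (D.obj i)) ∪ D.map (ψ ≫ φ) ⁻¹' (O' : Set (D.obj i)) = _
    rw [← Set.preimage_union, hun, Set.preimage_univ]
  · refine Set.eq_empty_of_forall_notMem fun y hy => ?_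
    refine (Set.eq_empty_iff_forall_notMem.mp hk) (D.map ψ y) ⟨?_, trivial⟩
    show D.map φ (D.map ψ y) ∈ (O : Set (D.obj i)) ∩ O'
    rw [← Scheme.Hom.comp_apply, ← D.map_comp]
    exact hy
  · obtain ⟨x, hx⟩ := hne
    exact ⟨c.π.app j x, show D.map (ψ ≫ φ) (c.π.app j x) ∈ (O : Set (D.obj i)) by
      rw [map_π_apply]; exact eO.symm.subset hx⟩
  · obtain ⟨x, hx⟩ := hne'
    exact ⟨c.π.app j x, show D.map (ψ ≫ φ) (c.π.app j x) ∈ (O' : Set (D.obj i)) by
      rw [map_π_apply]; exact eO'.symm.subset hx⟩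

include hc in
/-- an irreducibility failure of the limit descends -/
theorem eventually_not_irreducibleSpace (i₀ : I) [CompactSpace (D.obj i₀)]
    [QuasiSeparatedSpace (D.obj i₀)] (h : ¬ IrreducibleSpace c.pt) :
    ∃ (i : I) (_ : i ⟶ i₀), ∀ (j : I) (_ : j ⟶ i), ¬ IrreducibleSpace (D.obj j) := by
  by_cases hE : IsEmpty c.pt
  · obtain ⟨k, φ, hk⟩ := exists_preimage_eq_empty D c hc i₀ ConsTop.isProConstructible_univ
      (Set.eq_empty_of_forall_notMem fun x _ => hE.false x)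
    refine ⟨k, φ, fun j ψ hj => ?_⟩
    obtain ⟨y⟩ := hj.toNonempty
    exact (Set.eq_empty_iff_forall_notMem.mp hk) (D.map ψ y) trivial
  rw [not_isEmpty_iff] at hE
  have hp : ¬ PreirreducibleSpace c.pt := fun hp => h ⟨hE⟩
  obtain ⟨A, B, hA, hB, ⟨x, -, hxA⟩, ⟨y, -, hyB⟩, hAB⟩ : ∃ A B : Set c.pt, IsOpen A ∧ IsOpen B ∧
      (Set.univ ∩ A).Nonempty ∧ (Set.univ ∩ B).Nonempty ∧ Set.univ ∩ (A ∩ B) = ∅ := by
    by_contra! hne
    exact hp ⟨fun A B hA hB ha hb => hne A B hA hB ha hb⟩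
  rw [Set.univ_inter] at hAB
  obtain ⟨a, P, hP, hxP, hP'⟩ := exists_stage_open D c hc (K := {x}) isCompact_singleton
    ⟨A, hA⟩ (Set.singleton_subset_iff.mpr hxA)
  obtain ⟨b, Q, hQ, hyQ, hQ'⟩ := exists_stage_open D c hc (K := {y}) isCompact_singleton
    ⟨B, hB⟩ (Set.singleton_subset_iff.mpr hyB)
  classical
  obtain ⟨m, hm⟩ := IsCofiltered.inf_objs_exists ({i₀, a, b} : Finset I)
  obtain ⟨p⟩ := hm (X := i₀) (by simp)
  obtain ⟨q⟩ := hm (X := a) (by simp)
  obtain ⟨r⟩ := hm (X := b) (by simp)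
  haveI : QuasiSeparatedSpace (D.obj m) := quasiSeparatedSpace_of_quasiSeparated (D.map p)
  obtain ⟨k, φ, hk⟩ := exists_preimage_inter_eq_empty D c hc m (D.map q ⁻¹ᵁ P ⊓ D.map r ⁻¹ᵁ Q)
    (QuasiSeparatedSpace.inter_isCompact _ _ (D.map q ⁻¹ᵁ P).2 ((D.map q).isCompact_preimage hP)
      (D.map r ⁻¹ᵁ Q).2 ((D.map r).isCompact_preimage hQ))
    (K := Set.univ) ConsTop.isProConstructible_univ (by
      refine Set.eq_empty_of_forall_notMem fun z hz => ?_
      have hq : D.map q (c.π.app m z) ∈ P := hz.1.1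
      have hr : D.map r (c.π.app m z) ∈ Q := hz.1.2
      rw [map_π_apply] at hq hr
      exact (Set.eq_empty_iff_forall_notMem.mp hAB) z ⟨hP' hq, hQ' hr⟩)
  refine ⟨k, φ ≫ p, fun j ψ hj => ?_⟩
  have key : ∀ {d : I} (e : j ⟶ d) (W : (D.obj d).Opens) (z : c.pt),
      c.π.app d z ∈ W → c.π.app j z ∈ D.map e ⁻¹' (W : Set (D.obj d)) := fun e W z hz => by
    rw [Set.mem_preimage, map_π_apply]; exact hz
  obtain ⟨w, -, hw⟩ := hj.toPreirreducibleSpace.isPreirreducible_univ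
    (D.map (ψ ≫ φ ≫ q) ⁻¹' (P : Set (D.obj a))) (D.map (ψ ≫ φ ≫ r) ⁻¹' (Q : Set (D.obj b)))
    (P.2.preimage (D.map _).continuous) (Q.2.preimage (D.map _).continuous)
    ⟨c.π.app j x, trivial, key _ P x (hxP rfl)⟩ ⟨c.π.app j y, trivial, key _ Q y (hyQ rfl)⟩
  refine (Set.eq_empty_iff_forall_notMem.mp hk) (D.map ψ w) ⟨⟨?_, ?_⟩, trivial⟩
  · show D.map q (D.map φ (D.map ψ w)) ∈ P
    rw [← Scheme.Hom.comp_apply, ← D.map_comp, ← Scheme.Hom.comp_apply, ← D.map_comp]
    exact hw.1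
  · show D.map r (D.map φ (D.map ψ w)) ∈ Q
    rw [← Scheme.Hom.comp_apply, ← D.map_comp, ← Scheme.Hom.comp_apply, ← D.map_comp]
    exact hw.2

include hc in
theorem connectedSpace_iff_eventually (i₀ : I) [CompactSpace (D.obj i₀)]
    (hd : ∀ j : I, DenseRange (c.π.app j)) :
    ConnectedSpace c.pt ↔
      ∃ (i : I) (_ : i ⟶ i₀), ∀ (j : I) (_ : j ⟶ i), ConnectedSpace (D.obj j) := by
  constructor
  · intro h
    refine ⟨i₀, 𝟙 _, fun j _ => connectedSpace_iff_univ.mpr ?_⟩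
    rw [← (hd j).closure_range, ← Set.image_univ]
    exact ((connectedSpace_iff_univ.mp h).image _ (c.π.app j).continuous.continuousOn).closure
  · rintro ⟨i, φ, h⟩
    haveI := h i (𝟙 i)
    haveI : Nonempty c.pt := (hd i).nonempty
    refine { toPreconnectedSpace := ?_, toNonempty := inferInstance }
    by_contra hp
    obtain ⟨U, hU, hne, hne'⟩ := exists_clopen_of_not_preconnectedSpace hp
    haveI : CompactSpace (D.obj i) := QuasiCompact.compactSpace_of_compactSpace (D.map φ)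
    obtain ⟨k, ψ, O, O', hO, hO', hun, eO, eO'⟩ := exists_stage_cover D c hc i hU
    refine not_preconnectedSpace_of_isClopen O.2 O'.2 hun ?_ ?_ ?_ (h k ψ).toPreconnectedSpace
    · by_contra hne
      obtain ⟨y, hy, x, rfl⟩ := mem_closure_iff.mp ((hd k) (Set.nonempty_iff_ne_empty.mpr hne).some)
        _ (O.2.inter O'.2) (Set.nonempty_iff_ne_empty.mpr hne).some_mem
      exact (eO'.subset hy.2) (eO.subset hy.1)
    · obtain ⟨x, hx⟩ := hne
      exact ⟨c.π.app k x, eO.symm.subset hx⟩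
    · obtain ⟨x, hx⟩ := hne'
      exact ⟨c.π.app k x, eO'.symm.subset hx⟩

include hc in
theorem irreducibleSpace_iff_eventually (i₀ : I) [NoetherianSpace c.pt]
    (hd : ∀ j : I, DenseRange (c.π.app j)) :
    IrreducibleSpace c.pt ↔
      ∃ (i : I) (_ : i ⟶ i₀), ∀ (j : I) (_ : j ⟶ i), IrreducibleSpace (D.obj j) := by
  constructor
  · intro h
    refine ⟨i₀, 𝟙 _, fun j _ => (irreducibleSpace_def _).mpr ?_⟩
    show IsIrreducible Set.univ
    rw [← (hd j).closure_range, ← Set.image_univ]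
    exact (((irreducibleSpace_def _).mp h).image _ (c.π.app j).continuous.continuousOn).closure
  · rintro ⟨i, φ, h⟩
    obtain ⟨k, ψ, hk⟩ := bijOn_irreducibleComponents D c hc i fun j _ => hd j
    haveI := h k ψ
    haveI : Nonempty c.pt := (hd k).nonempty
    obtain ⟨x⟩ := (inferInstance : Nonempty c.pt)
    have hall : ∀ Y ∈ irreducibleComponents c.pt, Y = irreducibleComponent x := fun Y hY => by
      refine (hk k (𝟙 k)).injOn hY (irreducibleComponent_mem_irreducibleComponents x) ?_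
      have h1 := (hk k (𝟙 k)).mapsTo hY
      have h2 := (hk k (𝟙 k)).mapsTo (irreducibleComponent_mem_irreducibleComponents x)
      rw [irreducibleComponents_eq_singleton, Set.mem_singleton_iff] at h1 h2
      exact h1.trans h2.symm
    refine (irreducibleSpace_def _).mpr ?_
    convert isIrreducible_irreducibleComponent (x := x)
    refine (Set.eq_univ_of_forall fun z => ?_).symm
    rw [← hall _ (irreducibleComponent_mem_irreducibleComponents z)]
    exact mem_irreducibleComponent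

end Groth.Agent.ConsEngine
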