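import Groth.Agent.ConsEngine.SetProp
import Groth.Agent.ConsEngine.LimConn

universe u

open CategoryTheory Limits AlgebraicGeometry Topology TopologicalSpace

namespace Groth.Agent.ConsEngine

variable {I : Type u} [SmallCategory I] [IsCofiltered I] (D : I ⥤ Scheme.{u})
  [∀ {i j} (f : i ⟶ j), IsAffineHom (D.map f)] (c : Cone D) (hc : IsLimit c)

include hc in
/-- openness inside a compact open of a stage descends -/
theorem exists_isOpen_preimage_inter (i : I) (O : (D.obj i).Opens) (hO : IsCompact (O : Set (D.obj i)))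
    {T : Set (D.obj i)} (hT : IsLocallyConstructible T)
    (h : IsOpen (c.π.app i ⁻¹' ((O : Set (D.obj i)) ∩ T) : Set c.pt)) :
    ∃ (j : I) (φ : j ⟶ i), IsOpen (D.map φ ⁻¹' ((O : Set (D.obj i)) ∩ T)) := by
  let P : (D.obj i).Opens := D.map (𝟙 i) ⁻¹ᵁ O
  haveI : CompactSpace ((opensDiagram D i O).obj (Over.mk (𝟙 i))) :=
    isCompact_iff_compactSpace.mp ((D.map (𝟙 i)).isCompact_preimage hO)
  let T' : Set ((opensDiagram D i O).obj (Over.mk (𝟙 i))) := P.ι ⁻¹' T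
  have hop : IsOpen ((opensCone D c i O).π.app (Over.mk (𝟙 i)) ⁻¹' T' : Set (opensCone D c i O).pt) := by
    have e : ((opensCone D c i O).π.app (Over.mk (𝟙 i)) ⁻¹' T' : Set (opensCone D c i O).pt) =
        (c.π.app i ⁻¹ᵁ O).ι ⁻¹' (c.π.app i ⁻¹' ((O : Set (D.obj i)) ∩ T)) := by
      ext x
      show ((c.π.app i).resLE P (c.π.app i ⁻¹ᵁ O) _ ≫ P.ι) x ∈ T ↔
        c.π.app i ((c.π.app i ⁻¹ᵁ O).ι x) ∈ (O : Set (D.obj i)) ∩ T
      rw [Scheme.Hom.resLE_comp_ι, Scheme.Hom.comp_apply]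
      exact ⟨fun h => ⟨x.2, h⟩, fun h => h.2⟩
    rw [e]
    exact h.preimage (c.π.app i ⁻¹ᵁ O).ι.continuous
  obtain ⟨j, φ, hj⟩ := exists_isOpen_preimage (opensDiagram D i O) (opensCone D c i O)
    (isLimitOpensCone D c hc i O) (Over.mk (𝟙 i)) (Z := T') (isLocallyConstructible_preimage P.ι hT) hop
  refine ⟨j.left, j.hom, ?_⟩
  have hφ : φ.left = j.hom := by simpa using Over.w φ
  convert (D.map j.hom ⁻¹ᵁ O).ι.isOpenEmbedding.isOpenMap _ hj
  ext y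
  have hr : ∀ w : ↥(D.map j.hom ⁻¹ᵁ O).toScheme, P.ι ((opensDiagram D i O).map φ w) = D.map j.hom w.1 := by
    intro w
    show ((D.map φ.left).resLE _ _ _ ≫ P.ι) w = _
    rw [Scheme.Hom.resLE_comp_ι, Scheme.Hom.comp_apply, hφ]
    rfl
  constructor
  · rintro ⟨hy, hyT⟩
    exact ⟨⟨y, hy⟩, show P.ι ((opensDiagram D i O).map φ ⟨y, hy⟩) ∈ T by rw [hr]; exact hyT, rfl⟩
  · rintro ⟨w, hw, rfl⟩
    refine ⟨w.2, ?_⟩
    have hw' : P.ι ((opensDiagram D i O).map φ w) ∈ T := hw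
    rw [hr] at hw'
    exact hw'

include hc in
/-- local closedness descends to a stage -/
theorem exists_isLocallyClosed_preimage (i₁ : I) [CompactSpace (D.obj i₁)] {Z : Set (D.obj i₁)}
    (hZ : IsLocallyConstructible Z) (h : IsLocallyClosed (c.π.app i₁ ⁻¹' Z : Set c.pt)) :
    ∃ (j : I) (φ : j ⟶ i₁), IsLocallyClosed (D.map φ ⁻¹' Z) := by
  haveI : IsAffineHom (c.π.app i₁) := isAffineHom_π_app _ _ hc i₁
  haveI : CompactSpace c.pt := QuasiCompact.compactSpace_of_compactSpace (c.π.app i₁)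
  set E : Set c.pt := c.π.app i₁ ⁻¹' Z with hE
  have hEc : IsCompact E :=
    isCompact_of_isLocallyConstructible (isLocallyConstructible_preimage (X := c.pt) (c.π.app i₁) hZ)
  have hlc : IsClosed (closure E \ E) := ⟨h.isOpen_coborder⟩
  obtain ⟨a, O, hO, hEO, hOU⟩ := exists_stage_open D c hc hEc ⟨(closure E \ E)ᶜ, hlc.isOpen_compl⟩
    fun x hx hx' => hx'.2 hx
  obtain ⟨k, p, q, -⟩ := IsCofilteredOrEmpty.cone_objs a i₁
  haveI : CompactSpace (D.obj k) := QuasiCompact.compactSpace_of_compactSpace (D.map q)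
  let Ok : (D.obj k).Opens := D.map p ⁻¹ᵁ O
  let Zk : Set (D.obj k) := D.map q ⁻¹' Z
  have hZk : IsLocallyConstructible Zk := isLocallyConstructible_preimage (D.map q) hZ
  have hO' : ∀ x, c.π.app k x ∈ Ok ↔ c.π.app a x ∈ O := fun x => by
    show D.map p (c.π.app k x) ∈ O ↔ _
    rw [map_π_apply]
  have hZ' : ∀ x, c.π.app k x ∈ Zk ↔ x ∈ E := fun x => by
    show D.map q (c.π.app k x) ∈ Z ↔ _
    rw [map_π_apply]
    rfl
  obtain ⟨l, φ, hl⟩ := exists_preimage_eq_empty D c hc k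
    (proCons_inter_compl ((S3402.result _ _).mp hZk).2 (F := (Ok : Set (D.obj k)))
      (ConsTop.indCons_iff_affine.mpr fun W hW => by
        obtain ⟨_, _, _, _⟩ := ConsTop.affine_instances hW
        exact ConsTop.isOpen_cons_of_isOpen (Ok.2.preimage continuous_subtype_val)))
    (Set.eq_empty_of_forall_notMem fun x hx => hx.2 ((hO' x).mpr (hEO ((hZ' x).mp hx.1))))
  have hop : IsOpen (c.π.app k ⁻¹' ((Ok : Set (D.obj k)) ∩ Zkᶜ) : Set c.pt) := by
    have e : (c.π.app k ⁻¹' ((Ok : Set (D.obj k)) ∩ Zkᶜ) : Set c.pt) =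
        c.π.app a ⁻¹' (O : Set (D.obj a)) ∩ (closure E)ᶜ := by
      ext x
      refine ⟨fun hx => ⟨(hO' x).mp hx.1, fun hcl => hOU ((hO' x).mp hx.1) ⟨hcl, fun hxE => hx.2 ((hZ' x).mpr hxE)⟩⟩,
        fun hx => ⟨(hO' x).mpr hx.1, fun hxZ => hx.2 (subset_closure ((hZ' x).mp hxZ))⟩⟩
    rw [e]
    exact (O.2.preimage (c.π.app a).continuous).inter isClosed_closure.isOpen_compl
  obtain ⟨m, ψ, hm⟩ := exists_isOpen_preimage_inter D c hc k Ok ((D.map p).isCompact_preimage hO)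
    (ConsTop.isLocallyConstructible_compl hZk) hop
  obtain ⟨n, e₁, e₂, he⟩ := IsCofiltered.cospan φ ψ
  refine ⟨n, e₁ ≫ φ ≫ q, ?_⟩
  let g := D.map (e₁ ≫ φ)
  have eZ : D.map (e₁ ≫ φ ≫ q) ⁻¹' Z = g ⁻¹' (Ok : Set (D.obj k)) ∩ (g ⁻¹' ((Ok : Set (D.obj k)) ∩ Zkᶜ))ᶜ := by
    ext y
    have hy : D.map (e₁ ≫ φ ≫ q) y = D.map q (g y) := by
      rw [← Category.assoc, D.map_comp, Scheme.Hom.comp_apply]
    show D.map (e₁ ≫ φ ≫ q) y ∈ Z ↔ _
    rw [hy]
    refine ⟨fun hy' => ⟨?_, fun hn => hn.2 hy'⟩, fun hy' => by_contra fun hn => hy'.2 ⟨hy'.1, hn⟩⟩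
    by_contra hn
    refine (Set.eq_empty_iff_forall_notMem.mp hl) (D.map e₁ y) ?_
    show D.map φ (D.map e₁ y) ∈ Zk ∩ (Ok : Set (D.obj k))ᶜ
    rw [← Scheme.Hom.comp_apply, ← D.map_comp]
    exact ⟨hy', hn⟩
  rw [eZ]
  refine ((Ok.2.preimage g.continuous).isLocallyClosed).inter (IsClosed.isLocallyClosed ?_)
  refine isClosed_compl_iff.mpr ?_
  have : g = D.map e₂ ≫ D.map ψ := by rw [← D.map_comp]; exact congrArg D.map he
  rw [this]
  exact hm.preimage (D.map e₂).continuous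

end Groth.Agent.ConsEngine
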