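import Groth.Agent.ConsEngine.LimFlat

universe u

open CategoryTheory Limits AlgebraicGeometry Topology TopologicalSpace

namespace Groth.Agent.ConsEngine

theorem exists_stalkMap_of_openImmersion {X Y Z : Scheme.{u}} (f : X ⟶ Y) (g : Y ⟶ Z)
    [IsOpenImmersion g] (h : X ⟶ Z) (e : f ≫ g = h) (s : X) (b : Y.presheaf.stalk (f s)) :
    ∃ t : Z.presheaf.stalk (h s), h.stalkMap s t = f.stalkMap s b := by
  subst e
  refine ⟨inv (g.stalkMap (f s)) b, ?_⟩
  rw [Scheme.Hom.stalkMap_comp]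
  show f.stalkMap s (g.stalkMap (f s) (inv (g.stalkMap (f s)) b)) = _
  rw [← ConcreteCategory.comp_apply (inv (g.stalkMap (f s))), IsIso.inv_hom_id]
  rfl

theorem germ_eq_zero_of_openImmersion {Y Z : Scheme.{u}} (g : Y ⟶ Z) [IsOpenImmersion g]
    (U : Z.Opens) (t : Γ(Z, U)) (ht : g.app U t = 0) (y : Y) (z : Z) (hz : g y = z) (hzU : z ∈ U) :
    Z.presheaf.germ U z hzU t = 0 := by
  subst hz
  refine (ConcreteCategory.bijective_of_isIso (g.stalkMap y)).injective ?_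
  rw [Scheme.Hom.germ_stalkMap_apply, ht, map_zero, map_zero]

variable {I : Type u} [SmallCategory I] [IsCofiltered I] (D : I ⥤ Scheme.{u})
  [∀ {i j} (f : i ⟶ j), IsAffineHom (D.map f)] (c : Cone D) (hc : IsLimit c)

include hc in
theorem isEmbedding_π (hoi : ∀ (i j : I) (φ : i ⟶ j), IsOpenImmersion (D.map φ)) (i : I) :
    IsEmbedding ⇑(c.π.app i) := by
  refine IsInducing.isEmbedding ⟨le_antisymm (c.π.app i).continuous.le_induced fun W hW => ?_⟩
  rw [isOpen_induced_iff]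
  have : ∀ x ∈ W, ∃ T : Set (D.obj i), IsOpen T ∧ x ∈ c.π.app i ⁻¹' T ∧ c.π.app i ⁻¹' T ⊆ W := by
    intro x hx
    obtain ⟨_, ⟨j, V, -, rfl⟩, hxV, hVW⟩ := TopologicalSpace.Opens.isBasis_iff_nbhd.mp
      (isBasis_preimage_isAffineOpen D c hc) (show x ∈ (⟨W, hW⟩ : c.pt.Opens) from hx)
    obtain ⟨k, a, b, -⟩ := IsCofilteredOrEmpty.cone_objs i j
    haveI := hoi k i a
    refine ⟨D.map a '' (D.map b ⁻¹' (V : Set (D.obj j))),
      (D.map a).isOpenEmbedding.isOpenMap _ (V.2.preimage (D.map b).continuous),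
      ⟨c.π.app k x, show D.map b (c.π.app k x) ∈ V by rw [map_π_apply]; exact hxV, map_π_apply D c a x⟩,
      fun z hz => hVW ?_⟩
    obtain ⟨w, hw, he⟩ := hz
    rw [← map_π_apply D c a z] at he
    rw [(D.map a).isOpenEmbedding.injective he] at hw
    show c.π.app j z ∈ V
    rw [← map_π_apply D c b z]
    exact hw
  choose T hTo hxT hTW using this
  refine ⟨⋃ (x) (hx : x ∈ W), T x hx, isOpen_iUnion fun x => isOpen_iUnion fun hx => hTo x hx, ?_⟩
  simp only [Set.preimage_iUnion]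
  exact Set.Subset.antisymm (Set.iUnion₂_subset hTW)
    fun x hx => Set.mem_iUnion₂.mpr ⟨x, hx, hxT x hx⟩

include hc in
theorem exists_affine_nhd (hoi : ∀ (i j : I) (φ : i ⟶ j), IsOpenImmersion (D.map φ)) (i : I)
    (s : c.pt) (W : c.pt.Opens) (hs : s ∈ W) :
    ∃ U : (D.obj i).Opens, IsAffineOpen U ∧ c.π.app i s ∈ U ∧ c.π.app i ⁻¹ᵁ U ≤ W := by
  obtain ⟨T, hT, hTW⟩ := (isEmbedding_π D c hc hoi i).isInducing.isOpen_iff.mp W.2
  obtain ⟨_, ⟨U, hU, rfl⟩, hxU, hUT⟩ := (D.obj i).isBasis_affineOpens.exists_subset_of_mem_open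
    (show c.π.app i s ∈ T from hTW.symm.subset hs) hT
  exact ⟨U, hU, hxU, fun z hz => hTW.subset (hUT hz)⟩

include hc in
theorem isIso_stalkMap_π (hoi : ∀ (i j : I) (φ : i ⟶ j), IsOpenImmersion (D.map φ)) (i : I) (s : c.pt) :
    IsIso ((c.π.app i).stalkMap s) := by
  rw [ConcreteCategory.isIso_iff_bijective]
  refine ⟨(injective_iff_map_eq_zero ((c.π.app i).stalkMap s).hom).mpr fun t ht => ?_, fun a => ?_⟩
  · obtain ⟨U₀, hU₀, t₀, rfl⟩ := (D.obj i).presheaf.exists_germ_eq t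
    change (c.π.app i).stalkMap s ((D.obj i).presheaf.germ U₀ _ hU₀ t₀) = 0 at ht
    rw [Scheme.Hom.germ_stalkMap_apply] at ht
    obtain ⟨W, hW, i1, i2, he⟩ := c.pt.presheaf.germ_eq s (U := c.π.app i ⁻¹ᵁ U₀)
      (V := c.π.app i ⁻¹ᵁ U₀) hU₀ hU₀ ((c.π.app i).app U₀ t₀) 0 (ht.trans (map_zero _).symm)
    rw [map_zero] at he
    obtain ⟨T, hT, hTW⟩ := (isEmbedding_π D c hc hoi i).isInducing.isOpen_iff.mp W.2
    obtain ⟨_, ⟨U, hU, rfl⟩, hxU, hUT⟩ := (D.obj i).isBasis_affineOpens.exists_subset_of_mem_open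
      (show c.π.app i s ∈ T ∩ U₀ from ⟨hTW.symm.subset hW, hU₀⟩) (hT.inter U₀.2)
    have hle : U ≤ U₀ := fun z hz => (hUT hz).2
    have hle' : c.π.app i ⁻¹ᵁ U ≤ W := fun z hz => hTW.subset (hUT hz).1
    rw [← (D.obj i).presheaf.germ_res_apply (homOfLE hle) _ hxU t₀]
    have h0 : (c.π.app i).app U ((D.obj i).presheaf.map (homOfLE hle).op t₀) = 0 := by
      rw [← ConcreteCategory.comp_apply, Scheme.Hom.naturality, ConcreteCategory.comp_apply]
      have := congrArg (c.pt.presheaf.map (homOfLE hle').op) he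
      rw [map_zero, ← ConcreteCategory.comp_apply, ← Functor.map_comp] at this
      exact this
    obtain ⟨k, ψ, hk⟩ := exists_app_map_eq_zero_of_isLimit D c hc hU.isCompact _ h0
    haveI := hoi k i ψ
    exact germ_eq_zero_of_openImmersion (D.map ψ) U _ hk (c.π.app k s) _ (map_π_apply D c ψ s) hxU
  · obtain ⟨W, hW, a₀, rfl⟩ := c.pt.presheaf.exists_germ_eq a
    obtain ⟨U, hU, hxU, hUW⟩ := exists_affine_nhd D c hc hoi i s W hW
    obtain ⟨j, φ, b, hb⟩ := exists_app_π_eq D c hc hU (c.pt.presheaf.map (homOfLE hUW).op a₀)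
    haveI := hoi j i φ
    have hsj : c.π.app j s ∈ D.map φ ⁻¹ᵁ U := show D.map φ (c.π.app j s) ∈ U by
      rw [map_π_apply]; exact hxU
    obtain ⟨t, ht⟩ := exists_stalkMap_of_openImmersion (X := c.pt) (c.π.app j) (D.map φ)
      (c.π.app i) (c.w φ) s ((D.obj j).presheaf.germ _ _ hsj b)
    refine ⟨t, ht.trans ?_⟩
    rw [Scheme.Hom.germ_stalkMap_apply,
      ← c.pt.presheaf.germ_res_apply (homOfLE (preimage_π_le D c φ U)) s hxU,
      ← c.pt.presheaf.germ_res_apply (homOfLE hUW) s hxU a₀, ← hb]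
    rfl

end Groth.Agent.ConsEngine
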