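import Groth.Agent.ConsEngine.LimFlat
import Groth.Agent.LimDesc.Tower

universe u

open CategoryTheory Limits AlgebraicGeometry Topology TopologicalSpace

namespace Groth.Agent.ConsEngine

variable {I : Type u} [SmallCategory I] [IsCofiltered I] (D : I ⥤ Scheme.{u})
  [∀ {i j} (f : i ⟶ j), IsAffineHom (D.map f)] (c : Cone D) (hc : IsLimit c)

include hc in
/-- openness of the projection is tested on the transition maps -/
theorem isOpenMap_π_iff (i : I) (hs : ∀ (j : I) (_ : j ⟶ i), Function.Surjective (c.π.app j)) :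
    IsOpenMap ⇑(c.π.app i) ↔ ∀ (j : I) (φ : j ⟶ i), IsOpenMap ⇑(D.map φ) := by
  refine ⟨fun h j φ V hV => ?_, fun h W hW => isOpen_iff_forall_mem_open.mpr ?_⟩
  · rw [← Set.image_preimage_eq V (hs j φ), Set.image_image]
    simp only [map_π_apply]
    exact h _ (hV.preimage (c.π.app j).continuous)
  · rintro _ ⟨x, hx, rfl⟩
    obtain ⟨_, ⟨j, V, -, rfl⟩, hxV, hVW⟩ := TopologicalSpace.Opens.isBasis_iff_nbhd.mp
      (isBasis_preimage_isAffineOpen D c hc) (show x ∈ (⟨W, hW⟩ : c.pt.Opens) from hx)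
    obtain ⟨k, a, b, -⟩ := IsCofilteredOrEmpty.cone_objs i j
    refine ⟨D.map a '' (D.map b ⁻¹' (V : Set (D.obj j))), ?_,
      h k a _ (V.2.preimage (D.map b).continuous),
      ⟨c.π.app k x, show D.map b (c.π.app k x) ∈ V by rw [map_π_apply]; exact hxV, map_π_apply D c a x⟩⟩
    rintro _ ⟨y, hy, rfl⟩
    obtain ⟨z, rfl⟩ := hs k a y
    refine ⟨z, hVW (show c.π.app j z ∈ V from ?_), (map_π_apply D c a z).symm⟩
    rw [← map_π_apply D c b z]
    exact hy

include hc in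
theorem universallyOpen_π_iff (i : I) (hs : ∀ (j : I) (_ : j ⟶ i), Surjective (c.π.app j)) :
    UniversallyOpen (c.π.app i) ↔ ∀ (j : I) (φ : j ⟶ i), UniversallyOpen (D.map φ) := by
  constructor
  · intro h j φ
    haveI := h
    haveI := hs j φ
    refine ⟨fun {X' Y'} i₁ i₂ f' hpb => ?_⟩
    intro V hV
    let q : pullback i₁ (c.π.app j) ⟶ X' := pullback.fst _ _
    haveI : Surjective q := MorphismProperty.pullback_fst _ _ ‹_›
    have hP : IsPullback (q ≫ f') (pullback.snd i₁ (c.π.app j)) i₂ (c.π.app i) := by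
      rw [← c.w φ]
      exact (IsPullback.of_hasPullback _ _).paste_horiz hpb
    rw [← Set.image_preimage_eq V q.surjective, Set.image_image]
    exact (h.universally_isOpenMap _ _ _ hP) _ (hV.preimage q.continuous)
  · intro h
    refine ⟨fun {X' Y'} i₁ i₂ f' hpb => ?_⟩
    let j₀ : Over i := Over.mk (𝟙 i)
    have key := (isOpenMap_π_iff (LimDesc.tower D i₂) (LimDesc.towerCone D i₂ c hpb)
      (LimDesc.isLimitTowerCone D i₂ c hpb hc) j₀ (fun j _ => by
        haveI := hs j.left j.hom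
        haveI : Surjective (LimDesc.proj D i₂ c hpb j) :=
          MorphismProperty.of_isPullback (P := @Surjective) (LimDesc.isPullback_proj D i₂ c hpb j).flip ‹_›
        exact (LimDesc.proj D i₂ c hpb j).surjective)).mpr fun j a => by
      have hu : UniversallyOpen (LimDesc.trans D i₂ a) :=
        MorphismProperty.of_isPullback (P := @UniversallyOpen) (LimDesc.isPullback_trans D i₂ a).flip
          (h j.left a.left)
      exact (LimDesc.trans D i₂ a).isOpenMap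
    haveI : IsIso (D.map j₀.hom) := inferInstanceAs (IsIso (D.map (𝟙 i)))
    have he : f' = LimDesc.proj D i₂ c hpb j₀ ≫ LimDesc.toBase D i₂ j₀ :=
      (LimDesc.proj_toBase D i₂ c hpb j₀).symm
    rw [he]
    exact (LimDesc.toBase D i₂ j₀).homeomorph.isOpenMap.comp key

include hc in
/-- openness descends from the stages of a base change tower -/
theorem isOpenMap_of_stages {i₀ : I} {X₀ Y₀ : Scheme.{u}} (f₀ : X₀ ⟶ Y₀) (g₀ : Y₀ ⟶ D.obj i₀)
    {X Y : Scheme.{u}} (f : X ⟶ Y) (g : Y ⟶ c.pt) (qY : Y ⟶ Y₀) (qX : X ⟶ X₀)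
    (hY : IsPullback qY g g₀ (c.π.app i₀)) (hX : IsPullback qX f f₀ qY)
    (i : I) (φ : i ⟶ i₀)
    (h : ∀ j : Over i₀, (j ⟶ Over.mk φ) → IsOpenMap ⇑(LimDesc.stageMap D g₀ f₀ j)) :
    IsOpenMap ⇑f := by
  intro W hW
  refine isOpen_iff_forall_mem_open.mpr ?_
  rintro _ ⟨x, hx, rfl⟩
  obtain ⟨_, ⟨j, V, -, rfl⟩, hxV, hVW⟩ := TopologicalSpace.Opens.isBasis_iff_nbhd.mp
    (isBasis_preimage_isAffineOpen (LimDesc.tower D (f₀ ≫ g₀))
      (LimDesc.towerCone D (f₀ ≫ g₀) c (LimDesc.isPullback_comp D g₀ c hY f₀ hX))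
      (LimDesc.isLimitTowerCone D (f₀ ≫ g₀) c (LimDesc.isPullback_comp D g₀ c hY f₀ hX) hc))
    (show x ∈ (⟨W, hW⟩ : X.Opens) from hx)
  obtain ⟨k, a, b, -⟩ := IsCofilteredOrEmpty.cone_objs j (Over.mk φ)
  have hpb := LimDesc.isPullback_proj_stageMap D g₀ c hY f₀ hX k
  let q := LimDesc.proj D (f₀ ≫ g₀) c (LimDesc.isPullback_comp D g₀ c hY f₀ hX) k
  have hw : ∀ z : X, LimDesc.trans D (f₀ ≫ g₀) a (q z) =
      LimDesc.proj D (f₀ ≫ g₀) c (LimDesc.isPullback_comp D g₀ c hY f₀ hX) j z := fun z =>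
    map_π_apply (LimDesc.tower D (f₀ ≫ g₀))
      (LimDesc.towerCone D (f₀ ≫ g₀) c (LimDesc.isPullback_comp D g₀ c hY f₀ hX)) a z
  let V' : Set (LimDesc.stage D (f₀ ≫ g₀) k) := LimDesc.trans D (f₀ ≫ g₀) a ⁻¹' (V : Set ((LimDesc.tower D (f₀ ≫ g₀)).obj j))
  have hV' : IsOpen V' := V.2.preimage (LimDesc.trans D (f₀ ≫ g₀) a).continuous
  refine ⟨f '' (q ⁻¹' V'), Set.image_mono fun z hz => hVW ?_, ?_, ⟨x, ?_, rfl⟩⟩
  · show LimDesc.proj D (f₀ ≫ g₀) c (LimDesc.isPullback_comp D g₀ c hY f₀ hX) j z ∈ V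
    rw [← hw z]
    exact hz
  · rw [Scheme.image_preimage_eq_of_isPullback hpb]
    exact (h k b _ hV').preimage (LimDesc.proj D g₀ c hY k).continuous
  · show LimDesc.trans D (f₀ ≫ g₀) a (q x) ∈ V
    rw [hw x]
    exact hxV

end Groth.Agent.ConsEngine
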