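import Groth.Agent.ConsEngine.LimOpen

universe u

open CategoryTheory Limits AlgebraicGeometry Topology TopologicalSpace

namespace Groth.Agent.ConsEngine

variable {I : Type u} [SmallCategory I] [IsCofiltered I] (D : I ⥤ Scheme.{u})
  [∀ {i j} (f : i ⟶ j), IsAffineHom (D.map f)] (c : Cone D) (hc : IsLimit c)

omit [∀ {i j : I} (f : i ⟶ j), IsAffineHom (D.map f)] in
theorem exists_cospan_family {i : I} : ∀ (n : ℕ) (js : Fin n → I) (φs : ∀ t, js t ⟶ i),
    ∃ (k : I) (χ : ∀ t, k ⟶ js t) (φ : k ⟶ i), ∀ t, χ t ≫ φs t = φ := by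
  intro n
  induction n with
  | zero => exact fun js φs => ⟨i, fun t => t.elim0, 𝟙 i, fun t => t.elim0⟩
  | succ n ih =>
    intro js φs
    obtain ⟨k, χ, φ, h⟩ := ih (fun t => js t.succ) (fun t => φs t.succ)
    obtain ⟨m, a, b, hab⟩ := IsCofiltered.cospan φ (φs 0)
    exact ⟨m, Fin.cons b (fun t => a ≫ χ t), b ≫ φs 0, fun t => by
      refine Fin.cases rfl (fun t => ?_) t
      simp [h t, hab]⟩

theorem app_eq_zero_of_comp {X Y Z : Scheme.{u}} (f : X ⟶ Y) (g : Y ⟶ Z) (h : X ⟶ Z) (e : f ≫ g = h)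
    (U : Z.Opens) (t : Γ(Z, U)) (ht : g.app U t = 0) : h.app U t = 0 := by
  subst e
  show f.app _ (g.app U t) = 0
  rw [ht, map_zero]

include hc in
/-- finitely many nilpotent sections die at a common stage of a system with reduced limit -/
theorem exists_stage_kill [IsReduced c.pt] {i : I} {U : (D.obj i).Opens} (hU : IsAffineOpen U)
    (hN : (nilradical Γ(D.obj i, U)).FG) :
    ∃ (k : I) (φ : k ⟶ i), ∀ t : Γ(D.obj i, U), IsNilpotent t → (D.map φ).app U t = 0 := by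
  obtain ⟨n, g, hg⟩ := Submodule.fg_iff_exists_fin_generating_family.mp hN
  have : ∀ e, ∃ (j : I) (φ : j ⟶ i), (D.map φ).app U (g e) = 0 := fun e => by
    refine exists_app_map_eq_zero_of_isLimit D c hc hU.isCompact _ ?_
    have hge : g e ∈ nilradical Γ(D.obj i, U) := hg ▸ Submodule.subset_span ⟨e, rfl⟩
    exact IsNilpotent.eq_zero (R := Γ(c.pt, c.π.app i ⁻¹ᵁ U))
      ((mem_nilradical.mp hge).map ((c.π.app i).app U).hom)
  choose js φs hφs using this
  obtain ⟨k, χ, φ, hk⟩ := exists_cospan_family n js φs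
  refine ⟨k, φ, fun t ht => ?_⟩
  have hle : nilradical Γ(D.obj i, U) ≤ RingHom.ker ((D.map φ).app U).hom := by
    rw [← hg, Submodule.span_le]
    rintro _ ⟨e, rfl⟩
    exact app_eq_zero_of_comp (D.map (χ e)) (D.map (φs e)) (D.map φ) (by rw [← D.map_comp, hk e]) U _ (hφs e)
  exact hle (mem_nilradical.mpr ht)

theorem isReduced_stalk_of_kill {Y Z : Scheme.{u}} (g : Y ⟶ Z) [IsOpenImmersion g] {U : Z.Opens}
    (hU : IsAffineOpen U) (h : ∀ t : Γ(Z, U), IsNilpotent t → g.app U t = 0) (y : Y) (hy : g y ∈ U) :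
    _root_.IsReduced (Y.presheaf.stalk y) := by
  refine ⟨fun a ha => ?_⟩
  obtain ⟨b, rfl⟩ := (ConcreteCategory.bijective_of_isIso (g.stalkMap y)).surjective a
  have hb : IsNilpotent b := by
    obtain ⟨n, hn⟩ := ha
    exact ⟨n, (ConcreteCategory.bijective_of_isIso (g.stalkMap y)).injective (by rw [map_pow, hn, map_zero])⟩
  letI := TopCat.Presheaf.algebra_section_stalk Z.presheaf (⟨g y, hy⟩ : U)
  haveI := hU.isLocalization_stalk ⟨g y, hy⟩
  obtain ⟨⟨t, s⟩, hts⟩ := IsLocalization.surj (hU.primeIdealOf ⟨g y, hy⟩).asIdeal.primeCompl b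
  obtain ⟨n, hn⟩ := hb
  have h0 : algebraMap Γ(Z, U) (Z.presheaf.stalk (g y)) (t ^ n) = 0 := by
    rw [map_pow, ← hts, mul_pow, hn, zero_mul]
  obtain ⟨u, hu⟩ := (IsLocalization.map_eq_zero_iff (hU.primeIdealOf ⟨g y, hy⟩).asIdeal.primeCompl _ _).mp h0
  have hk : g.app U (u.1 * t) = 0 := h _ ⟨n + 1, by
    rw [mul_pow, pow_succ t n, ← mul_assoc, pow_succ u.1 n, mul_assoc (u.1 ^ n), hu, mul_zero, zero_mul]⟩
  have hz : g.stalkMap y (algebraMap Γ(Z, U) (Z.presheaf.stalk (g y)) (u.1 * t)) = 0 := by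
    show g.stalkMap y (Z.presheaf.germ U (g y) hy (u.1 * t)) = 0
    rw [Scheme.Hom.germ_stalkMap_apply, hk, map_zero]
  rw [map_mul, ← hts, ← mul_assoc, mul_comm _ b, mul_assoc] at hz
  rw [map_mul] at hz
  exact ((((IsLocalization.map_units _ u).mul (IsLocalization.map_units _ s))).map
    (g.stalkMap y).hom).mul_left_eq_zero.mp hz

include hc in
/-- a reduced limit of an open-immersion system has reduced stages -/
theorem eventually_isReduced_of_openImmersion [IsReduced c.pt] (i₀ : I) [CompactSpace (D.obj i₀)]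
    (hoi : ∀ (i j : I) (φ : i ⟶ j), IsOpenImmersion (D.map φ))
    (hN : ∀ U : (D.obj i₀).affineOpens, (nilradical Γ(D.obj i₀, U)).FG) :
    ∃ (i : I) (_ : i ⟶ i₀), ∀ (j : I) (_ : j ⟶ i), IsReduced (D.obj j) := by
  obtain ⟨s, hs⟩ := (isCompact_univ (X := D.obj i₀)).elim_finite_subcover
    (fun U : (D.obj i₀).affineOpens => (U.1 : Set (D.obj i₀))) (fun U => U.1.2) (fun x _ => by
      obtain ⟨U, hU, hx, -⟩ := exists_isAffineOpen_mem_and_subset (U := (⊤ : (D.obj i₀).Opens)) (Opens.mem_top x)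
      exact Set.mem_iUnion.mpr ⟨⟨U, hU⟩, hx⟩)
  have : ∀ U : Fin s.card, ∃ (k : I) (φ : k ⟶ i₀), ∀ t, IsNilpotent t →
      (D.map φ).app (s.equivFin.symm U).1.1 t = 0 := fun U =>
    exists_stage_kill D c hc (s.equivFin.symm U).1.2 (hN _)
  choose ks φs hk using this
  obtain ⟨k, χ, φ, hφ⟩ := exists_cospan_family s.card ks φs
  refine ⟨k, φ, fun j ψ => @isReduced_of_isReduced_stalk _ fun y => ?_⟩
  obtain ⟨U, hUs, hy⟩ := Set.mem_iUnion₂.mp (hs (Set.mem_univ (D.map (ψ ≫ φ) y)))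
  haveI := hoi j i₀ (ψ ≫ φ)
  refine isReduced_stalk_of_kill (D.map (ψ ≫ φ)) U.2 (fun t ht => ?_) y hy
  obtain ⟨e, rfl⟩ : ∃ e, (s.equivFin.symm e).1 = U := ⟨s.equivFin ⟨U, hUs⟩, by simp⟩
  exact app_eq_zero_of_comp (D.map (ψ ≫ χ e)) (D.map (φs e)) (D.map (ψ ≫ φ))
    (by rw [← D.map_comp, Category.assoc, hφ e]) _ _ (hk e t ht)

end Groth.Agent.ConsEngine
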