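import Groth.Agent.ConsEngine.Stages
import Groth.Agent.ConsEngine.SetProp

/-!
Topology of a cofiltered limit with affine transition maps: constructible, open, locally closed sets.
-/

set_option autoImplicit false
set_option linter.style.haveILetI false
universe u
open CategoryTheory CategoryTheory.Limits AlgebraicGeometry Topology

namespace Groth.Agent.ConsEngine

variable {I : Type u} [SmallCategory I] [IsCofiltered I] (D : I ⥤ Scheme.{u})
  [∀ {i j} (f : i ⟶ j), IsAffineHom (D.map f)] (c : Cone D) (hc : IsLimit c)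

include hc in
/-- an open neighbourhood of a compact set in the limit comes from a compact open of a stage -/
theorem exists_stage_open {K : Set c.pt} (hK : IsCompact K) (U : c.pt.Opens) (hU : K ⊆ (U : Set c.pt)) :
    ∃ (j : I) (O : (D.obj j).Opens), IsCompact (O : Set (D.obj j)) ∧ K ⊆ c.π.app j ⁻¹' (O : Set (D.obj j)) ∧
      c.π.app j ⁻¹ᵁ O ≤ U := by
  have : ∀ x : K, ∃ (W : c.pt.Opens), (∃ (i : I) (V : (D.obj i).Opens), IsAffineOpen V ∧ c.π.app i ⁻¹ᵁ V = W) ∧
      x.1 ∈ W ∧ W ≤ U := fun x => by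
    obtain ⟨W, ⟨i, V, hV, e⟩, hxW, hWU⟩ :=
      TopologicalSpace.Opens.isBasis_iff_nbhd.mp (isBasis_preimage_isAffineOpen D c hc) (hU x.2)
    exact ⟨W, ⟨i, V, hV, e⟩, hxW, hWU⟩
  choose W hW hxW hWU using this
  obtain ⟨t, ht⟩ := hK.elim_finite_subcover (fun x => (W x : Set c.pt)) (fun x => (W x).2)
    fun x hx => Set.mem_iUnion.mpr ⟨⟨x, hx⟩, hxW _⟩
  choose i V hV e using hW
  classical
  obtain ⟨j, hj⟩ := IsCofiltered.inf_objs_exists (t.image i ∪ {Classical.choice IsCofiltered.nonempty})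
  let a : ∀ x : (t : Set K), j ⟶ i x.1 := fun x =>
    (hj (Finset.mem_union_left _ (Finset.mem_image_of_mem i x.2))).some
  refine ⟨j, ⨆ x : (t : Set K), D.map (a x) ⁻¹ᵁ V x.1, ?_, fun y hy => ?_, fun y hy => ?_⟩
  · rw [TopologicalSpace.Opens.coe_iSup]
    exact isCompact_iUnion fun x => ((hV x.1).preimage (D.map (a x))).isCompact
  · obtain ⟨x, hx, hy'⟩ := Set.mem_iUnion₂.mp (ht hy)
    show c.π.app j y ∈ (⨆ x : (t : Set K), D.map (a x) ⁻¹ᵁ V x.1 : (D.obj j).Opens)
    refine TopologicalSpace.Opens.mem_iSup.mpr ⟨⟨x, hx⟩, ?_⟩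
    show D.map (a ⟨x, hx⟩) (c.π.app j y) ∈ V x
    rw [← Scheme.Hom.comp_apply, c.w (a ⟨x, hx⟩)]
    rw [← e x] at hy'
    exact hy'
  · obtain ⟨x, hx⟩ := TopologicalSpace.Opens.mem_iSup.mp
      (show c.π.app j y ∈ (⨆ x : (t : Set K), D.map (a x) ⁻¹ᵁ V x.1 : (D.obj j).Opens) from hy)
    refine hWU x.1 ?_
    rw [← e x.1]
    have h2 : D.map (a x) (c.π.app j y) ∈ V x.1 := hx
    rw [← Scheme.Hom.comp_apply, c.w (a x)] at h2
    exact h2

theorem isCompact_of_isLocallyConstructible {Z : Scheme.{u}} [CompactSpace Z] {E : Set Z}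
    (hE : IsLocallyConstructible E) : IsCompact E := by
  refine isCompact_of_finite_subcover fun {ι} U hU hsub => ?_
  classical
  let V : ↥Z → Set Z := fun z => if h : ∃ i, z ∈ U i then U h.choose else ∅
  have hVi : ∀ z, ProCons.IsIndConstructible (V z) := fun z => by
    refine ConsTop.indCons_iff_affine.mpr fun W hW => ?_
    obtain ⟨_, _, _, _⟩ := ConsTop.affine_instances hW
    dsimp only [V]
    split
    · exact ConsTop.isOpen_cons_of_isOpen ((hU _).preimage continuous_subtype_val)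
    · simp
  obtain ⟨J, hJ⟩ := S4591.result Z E ((S3402.result Z E).mp hE).2 V hVi fun z hz => by
    have h : ∃ i, z ∈ U i := Set.mem_iUnion.mp (hsub hz)
    exact Set.mem_iUnion.mpr ⟨z, by simpa only [V, dif_pos h] using h.choose_spec⟩
  refine ⟨(J.filter fun z => ∃ i, z ∈ U i).attach.image fun z => (Finset.mem_filter.mp z.2).2.choose, ?_⟩
  intro y hy
  obtain ⟨z, hz, hyz⟩ := Set.mem_iUnion₂.mp (hJ hy)
  by_cases h : ∃ i, z ∈ U i
  · simp only [V, dif_pos h] at hyz
    exact Set.mem_iUnion₂.mpr ⟨_, Finset.mem_image.mpr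
      ⟨⟨z, Finset.mem_filter.mpr ⟨hz, h⟩⟩, Finset.mem_attach _ _, rfl⟩, hyz⟩
  · simp [V, h] at hyz

include hc in
/-- a locally constructible subset of an open of a stage, empty at the limit, is empty at a later stage -/
theorem exists_preimage_inter_eq_empty (i : I) (O : (D.obj i).Opens) (hO : IsCompact (O : Set (D.obj i)))
    {K : Set (D.obj i)} (hK : ProCons.IsProConstructible K)
    (h : c.π.app i ⁻¹' ((O : Set (D.obj i)) ∩ K) = ∅) :
    ∃ (j : I) (φ : j ⟶ i), D.map φ ⁻¹' ((O : Set (D.obj i)) ∩ K) = ∅ := by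
  haveI : CompactSpace O.toScheme := isCompact_iff_compactSpace.mp hO
  haveI : ∀ {j k : Over i} (a : j ⟶ k), IsAffineHom ((LimDesc.tower D O.ι).map a) :=
    fun a => LimDesc.isAffineHom_tower_map D O.ι a
  have hY : IsPullback (pullback.fst O.ι (c.π.app i)) (pullback.snd O.ι (c.π.app i)) O.ι (c.π.app i) :=
    .of_hasPullback _ _
  let i' : Over i := Over.mk (𝟙 i)
  haveI : CompactSpace ((LimDesc.tower D O.ι).obj i') := LimDesc.compactSpace_stage D O.ι i'
  have hK' : ProCons.IsProConstructible (LimDesc.toBase D O.ι i' ⁻¹' (O.ι ⁻¹' K) : Set _) := by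
    rw [ConsTop.isProConstructible_iff_indCons_compl]
    exact indCons_preimage (LimDesc.toBase D O.ι i')
      (indCons_preimage O.ι (ConsTop.isProConstructible_iff_indCons_compl.mp hK))
  obtain ⟨j, φ, hj⟩ := exists_preimage_eq_empty (LimDesc.tower D O.ι)
    (LimDesc.towerCone D O.ι c hY) (LimDesc.isLimitTowerCone D O.ι c hY hc) i' hK' (by
      refine Set.eq_empty_iff_forall_notMem.mpr fun w hw => Set.eq_empty_iff_forall_notMem.mp h
        (pullback.snd O.ι (c.π.app i) w) ?_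
      have e1 : (LimDesc.proj D O.ι c hY i' ≫ LimDesc.toBase D O.ι i') ≫ O.ι =
          pullback.snd O.ι (c.π.app i) ≫ c.π.app i := by
        rw [LimDesc.proj_toBase, hY.w]
      have h2 : O.ι ((LimDesc.proj D O.ι c hY i' ≫ LimDesc.toBase D O.ι i') w) ∈ K := hw
      rw [← Scheme.Hom.comp_apply, e1] at h2
      refine ⟨?_, h2⟩
      have h3 : ((LimDesc.proj D O.ι c hY i' ≫ LimDesc.toBase D O.ι i') w).1 ∈ O :=
        ((LimDesc.proj D O.ι c hY i' ≫ LimDesc.toBase D O.ι i') w).2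
      change O.ι ((LimDesc.proj D O.ι c hY i' ≫ LimDesc.toBase D O.ι i') w) ∈ O at h3
      rw [← Scheme.Hom.comp_apply, e1] at h3
      exact h3)
  refine ⟨j.left, j.hom, Set.eq_empty_iff_forall_notMem.mpr fun y hy => ?_⟩
  obtain ⟨hyO, hyK⟩ := hy
  obtain ⟨z, hz1, hz2⟩ := Scheme.Pullback.exists_preimage_pullback (f := O.ι) (g := D.map j.hom)
    (⟨D.map j.hom y, hyO⟩ : O.toScheme) y rfl
  refine Set.eq_empty_iff_forall_notMem.mp hj z ?_
  show O.ι ((LimDesc.trans D O.ι φ ≫ LimDesc.toBase D O.ι i') z) ∈ K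
  rw [LimDesc.trans_toBase]
  erw [hz1]
  exact hyK

include hc in
/-- openness descends to a stage -/
theorem exists_isOpen_preimage (i₁ : I) [CompactSpace (D.obj i₁)] {Z : Set (D.obj i₁)}
    (hZ : IsLocallyConstructible Z) (h : IsOpen (c.π.app i₁ ⁻¹' Z : Set c.pt)) :
    ∃ (j : I) (φ : j ⟶ i₁), IsOpen (D.map φ ⁻¹' Z) := by
  haveI : IsAffineHom (c.π.app i₁) := isAffineHom_π_app _ _ hc i₁
  haveI : CompactSpace c.pt := QuasiCompact.compactSpace_of_compactSpace (c.π.app i₁)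
  obtain ⟨j, O, hOc, hO1, hO2⟩ := exists_stage_open D c hc
    (isCompact_of_isLocallyConstructible (isLocallyConstructible_preimage (c.π.app i₁) hZ))
    ⟨_, h⟩ (fun x hx => hx)
  obtain ⟨k, a, b, -⟩ := IsCofilteredOrEmpty.cone_objs j i₁
  haveI : CompactSpace (D.obj k) := QuasiCompact.compactSpace_of_compactSpace (D.map b)
  have hw : ∀ {p q : I} (f : p ⟶ q) (x : c.pt), D.map f (c.π.app p x) = c.π.app q x := fun f x => by
    rw [← Scheme.Hom.comp_apply, c.w f]
  let Ok : (D.obj k).Opens := D.map a ⁻¹ᵁ O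
  let Zk : Set (D.obj k) := D.map b ⁻¹' Z
  have hZk : IsLocallyConstructible Zk := isLocallyConstructible_preimage (D.map b) hZ
  have hP1 : ProCons.IsProConstructible (Zk ∩ ((Ok : Set (D.obj k)))ᶜ) := proCons_inter_compl
    ((S3402.result _ _).mp hZk).2 (ConsTop.indCons_iff_affine.mpr fun W hW => by
      obtain ⟨_, _, _, _⟩ := ConsTop.affine_instances hW
      exact ConsTop.isOpen_cons_of_isOpen (Ok.2.preimage continuous_subtype_val))
  obtain ⟨l, φ, hl⟩ := exists_preimage_eq_empty D c hc k hP1 (Set.eq_empty_iff_forall_notMem.mpr fun x hx => by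
    refine hx.2 ?_
    show D.map a (c.π.app k x) ∈ O
    rw [hw a x]
    refine hO1 ?_
    show c.π.app i₁ x ∈ Z
    rw [← hw b x]
    exact hx.1)
  have hOkc : IsCompact (Ok : Set (D.obj k)) := (D.map a).isCompact_preimage hOc
  obtain ⟨m, ψ, hm⟩ := exists_preimage_inter_eq_empty D c hc k Ok hOkc
    ((S3402.result _ _).mp (ConsTop.isLocallyConstructible_compl hZk)).2
    (Set.eq_empty_iff_forall_notMem.mpr fun x hx => by
      refine hx.2 ?_
      show D.map b (c.π.app k x) ∈ Z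
      rw [hw b x]
      refine hO2 ?_
      show c.π.app j x ∈ O
      rw [← hw a x]
      exact hx.1)
  obtain ⟨p, e₁, e₂, he⟩ : ∃ (p : I) (e₁ : p ⟶ l) (e₂ : p ⟶ m), e₁ ≫ φ = e₂ ≫ ψ := by
    obtain ⟨p, f₁, f₂, -⟩ := IsCofilteredOrEmpty.cone_objs l m
    obtain ⟨q, g, hg⟩ := IsCofilteredOrEmpty.cone_maps (f₁ ≫ φ) (f₂ ≫ ψ)
    exact ⟨q, g ≫ f₁, g ≫ f₂, by simpa using hg⟩
  refine ⟨p, e₁ ≫ φ ≫ b, ?_⟩
  have : D.map (e₁ ≫ φ ≫ b) ⁻¹' Z = D.map (e₁ ≫ φ) ⁻¹' (Ok : Set (D.obj k)) := by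
    ext x
    have h1 : D.map φ (D.map e₁ x) = D.map (e₁ ≫ φ) x := by rw [← Scheme.Hom.comp_apply, ← D.map_comp]
    have h2 : D.map ψ (D.map e₂ x) = D.map (e₁ ≫ φ) x := by rw [← Scheme.Hom.comp_apply, ← D.map_comp, he]
    have h3 : D.map (e₁ ≫ φ ≫ b) x = D.map b (D.map (e₁ ≫ φ) x) := by
      rw [← Scheme.Hom.comp_apply, ← D.map_comp, Category.assoc]
    constructor
    · intro hx
      refine by_contra fun hn => Set.eq_empty_iff_forall_notMem.mp hl (D.map e₁ x) ⟨?_, ?_⟩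
      · show D.map b (D.map φ (D.map e₁ x)) ∈ Z
        rw [h1, ← h3]
        exact hx
      · show D.map φ (D.map e₁ x) ∉ Ok
        rw [h1]
        exact hn
    · intro hx
      refine by_contra fun hn => Set.eq_empty_iff_forall_notMem.mp hm (D.map e₂ x) ⟨?_, ?_⟩
      · show D.map ψ (D.map e₂ x) ∈ Ok
        rw [h2]
        exact hx
      · show D.map b (D.map ψ (D.map e₂ x)) ∉ Z
        rw [h2, ← h3]
        exact hn
  rw [this]
  exact Ok.2.preimage (D.map (e₁ ≫ φ)).continuous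

include hc in
/-- density of images -/
theorem isDominant_π_iff (i : I) : IsDominant (c.π.app i) ↔ ∀ (j : I) (φ : j ⟶ i), IsDominant (D.map φ) := by
  constructor
  · intro h j φ
    haveI := h
    refine ⟨h.denseRange.mono ?_⟩
    rintro _ ⟨x, rfl⟩
    exact ⟨c.π.app j x, by rw [← Scheme.Hom.comp_apply, c.w φ]⟩
  · intro h
    refine ⟨dense_iff_inter_open.mpr fun U hU hne => ?_⟩
    obtain ⟨x, hx⟩ := hne
    obtain ⟨W, hW, hxW, hWU⟩ := exists_isAffineOpen_mem_and_subset (U := (⟨U, hU⟩ : (D.obj i).Opens)) (x := x) hx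
    by_contra hn
    obtain ⟨j, φ, hj⟩ := exists_preimage_inter_eq_empty D c hc i W hW.isCompact
      (K := Set.univ) ConsTop.isProConstructible_univ (Set.eq_empty_iff_forall_notMem.mpr fun y hy =>
        hn ⟨_, hWU hy.1, y, rfl⟩)
    obtain ⟨_, hy, y, rfl⟩ := dense_iff_inter_open.mp (h j φ).denseRange W W.2 ⟨x, hxW⟩
    exact Set.eq_empty_iff_forall_notMem.mp hj y ⟨hy, trivial⟩

end Groth.Agent.ConsEngine
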