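import Groth.Agent.ConsEngine.Fiber
import Groth.Agent.ConsEngine.IndCons
import Groth.Agent.ConsEngine.Model

/-!
The locus of an (ind-)constructible property of morphisms of algebraic schemes is (ind-)constructible
over an arbitrary base.
-/

set_option autoImplicit false
universe u
open CategoryTheory CategoryTheory.Limits AlgebraicGeometry

namespace Groth.Agent.ConsEngine

variable {P : ∀ ⦃X Y T : Scheme.{u}⦄, (X ⟶ Y) → (Y ⟶ T) → Prop}

/-- the noetherian case -/
theorem indCons_locusMor_noetherian (hP : ConsProp.IsIndConsMor P) {X Y S : Scheme.{u}} (f : X ⟶ Y) (g : Y ⟶ S)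
    [IsNoetherian S] [LocallyOfFiniteType g] [QuasiCompact g] [LocallyOfFiniteType (f ≫ g)] [QuasiCompact (f ≫ g)] :
    ProCons.IsIndConstructible (ConsProp.locusMor P f g) := by
  refine indCons_of_closed_integral _ fun Z i _ _ hη => ?_
  have : IsNoetherian Z :=
    { toIsLocallyNoetherian := LocallyOfFiniteType.isLocallyNoetherian i
      toCompactSpace := QuasiCompact.compactSpace_of_compactSpace i }
  have hY : IsPullback (pullback.fst g i) (pullback.snd g i) g i := .of_hasPullback _ _
  have hX : IsPullback (pullback.fst f (pullback.fst g i)) (pullback.snd f (pullback.fst g i)) f (pullback.fst g i) :=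
    .of_hasPullback _ _
  have : LocallyOfFiniteType (pullback.snd f (pullback.fst g i) ≫ pullback.snd g i) :=
    MorphismProperty.of_isPullback (P := @LocallyOfFiniteType) (hX.paste_vert hY) ‹_›
  have : QuasiCompact (pullback.snd f (pullback.fst g i) ≫ pullback.snd g i) :=
    MorphismProperty.of_isPullback (P := @QuasiCompact) (hX.paste_vert hY) ‹_›
  rw [← locusMor_preimage hP.1 hY hX]
  refine hP.2 _ _ ?_
  rw [locusMor_preimage hP.1 hY hX]
  exact hη

theorem indCons_locusMor_spec (hP : ConsProp.IsIndConsMor P) {A : Type u} [CommRing A] {X Y : Scheme.{u}}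
    (f : X ⟶ Y) (g : Y ⟶ Spec (CommRingCat.of A))
    [LocallyOfFinitePresentation g] [QuasiCompact g] [QuasiSeparated g]
    [LocallyOfFinitePresentation (f ≫ g)] [QuasiCompact (f ≫ g)] [QuasiSeparated (f ≫ g)] :
    ProCons.IsIndConstructible (ConsProp.locusMor P f g) := by
  obtain ⟨S₀, σ, X₀, Y₀, f₀, g₀, qY, qX, _, _, _, _, _, _, _, hY, hX⟩ := exists_model_mor f g
  rw [locusMor_preimage hP.1 hY hX]
  exact indCons_preimage σ (indCons_locusMor_noetherian hP f₀ g₀)

theorem indCons_locusMor (hP : ConsProp.IsIndConsMor P) {X Y S : Scheme.{u}} (f : X ⟶ Y) (g : Y ⟶ S)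
    [LocallyOfFinitePresentation g] [QuasiCompact g] [QuasiSeparated g]
    [LocallyOfFinitePresentation (f ≫ g)] [QuasiCompact (f ≫ g)] [QuasiSeparated (f ≫ g)] :
    ProCons.IsIndConstructible (ConsProp.locusMor P f g) := by
  refine indCons_of_affine _ fun W hW => ?_
  let ψ : Spec Γ(S, W) ⟶ S := hW.isoSpec.inv ≫ W.ι
  have hY : IsPullback (pullback.fst g ψ) (pullback.snd g ψ) g ψ := .of_hasPullback _ _
  have hX : IsPullback (pullback.fst f (pullback.fst g ψ)) (pullback.snd f (pullback.fst g ψ)) f (pullback.fst g ψ) :=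
    .of_hasPullback _ _
  have hXY := hX.paste_vert hY
  have : LocallyOfFinitePresentation (pullback.snd f (pullback.fst g ψ) ≫ pullback.snd g ψ) :=
    MorphismProperty.of_isPullback (P := @LocallyOfFinitePresentation) hXY ‹_›
  have : QuasiCompact (pullback.snd f (pullback.fst g ψ) ≫ pullback.snd g ψ) :=
    MorphismProperty.of_isPullback (P := @QuasiCompact) hXY ‹_›
  have : QuasiSeparated (pullback.snd f (pullback.fst g ψ) ≫ pullback.snd g ψ) :=
    MorphismProperty.of_isPullback (P := @QuasiSeparated) hXY ‹_›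
  have h := indCons_locusMor_spec hP (pullback.snd f (pullback.fst g ψ)) (pullback.snd g ψ)
  rw [locusMor_preimage hP.1 hY hX] at h
  convert indCons_preimage hW.isoSpec.hom h using 1
  ext w
  simp [ψ, ← Scheme.Hom.comp_apply]

theorem isIndConsMor_of_isConsMor (hP : ConsProp.IsConsMor P) : ConsProp.IsIndConsMor P := by
  refine ⟨hP.1, fun X Y S f g _ _ _ _ _ _ hη => (hP.2 f g).resolve_right ?_⟩
  rintro ⟨z, hz⟩
  exact interior_subset (((genericPoint_spec S).specializes (Set.mem_univ z)).mem_open isOpen_interior hz) hη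

theorem isIndConsMor_not (hP : ConsProp.IsConsMor P) :
    ConsProp.IsIndConsMor (fun X Y T f g => ¬ P f g) := by
  refine ⟨?_, fun X Y S f g _ _ _ _ _ _ hη => (hP.2 f g).resolve_left ?_⟩
  · intro X X' Y Y' T T' f g f' g' eX eY h _ _ _ _ _ _ _ _ hY hX
    exact not_congr (hP.1 f g f' g' eX eY h hY hX)
  · rintro ⟨z, hz⟩
    have h1 : genericPoint S ∈ ConsProp.locusMor P f g :=
      interior_subset (((genericPoint_spec S).specializes (Set.mem_univ z)).mem_open isOpen_interior hz)
    exact hη h1

theorem isLocallyConstructible_locusMor (hP : ConsProp.IsConsMor P) {X Y S : Scheme.{u}} (f : X ⟶ Y) (g : Y ⟶ S)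
    [LocallyOfFinitePresentation g] [QuasiCompact g] [QuasiSeparated g]
    [LocallyOfFinitePresentation (f ≫ g)] [QuasiCompact (f ≫ g)] [QuasiSeparated (f ≫ g)] :
    Topology.IsLocallyConstructible (ConsProp.locusMor P f g) :=
  isLocallyConstructible_of_indCons (indCons_locusMor (isIndConsMor_of_isConsMor hP) f g)
    (indCons_locusMor (isIndConsMor_not hP) f g)

end Groth.Agent.ConsEngine
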