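import Groth.Prelude.Def_W4ega4s0809p4Pair
import Groth.Agent.ConsEngine.Fiber
import Groth.Agent.ConsEngine.IndCons
import Groth.Agent.ConsEngine.Stages
import Groth.Agent.ConsEngine.Model

/-!
The locus of an (ind-)constructible property of pairs of algebraic schemes.
-/

set_option autoImplicit false
set_option linter.style.haveILetI false
universe u
open CategoryTheory CategoryTheory.Limits AlgebraicGeometry

namespace Groth.Agent.ConsEngine

variable {P : ∀ ⦃X Y T : Scheme.{u}⦄, (X ⟶ T) → (Y ⟶ T) → Prop}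

theorem locusPair_preimage (hP : ConsPropPair.IsFieldStablePair P) {X X' Y Y' S S' : Scheme.{u}}
    {gX : X ⟶ S} {gY : Y ⟶ S} {gX' : X' ⟶ S'} {gY' : Y' ⟶ S'} {eX : X' ⟶ X} {eY : Y' ⟶ Y} {σ : S' ⟶ S}
    [LocallyOfFiniteType gX] [QuasiCompact gX] [LocallyOfFiniteType gY] [QuasiCompact gY]
    (hX : IsPullback eX gX' gX σ) (hY : IsPullback eY gY' gY σ) :
    ConsPropPair.locusPair P gX' gY' = σ ⁻¹' ConsPropPair.locusPair P gX gY := by
  ext s'
  have : LocallyOfFiniteType (gX.fiberToSpecResidueField (σ s')) :=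
    MorphismProperty.of_isPullback (P := @LocallyOfFiniteType) (isPullback_fiber gX (σ s')) ‹_›
  have : QuasiCompact (gX.fiberToSpecResidueField (σ s')) :=
    MorphismProperty.of_isPullback (P := @QuasiCompact) (isPullback_fiber gX (σ s')) ‹_›
  have : LocallyOfFiniteType (gY.fiberToSpecResidueField (σ s')) :=
    MorphismProperty.of_isPullback (P := @LocallyOfFiniteType) (isPullback_fiber gY (σ s')) ‹_›
  have : QuasiCompact (gY.fiberToSpecResidueField (σ s')) :=
    MorphismProperty.of_isPullback (P := @QuasiCompact) (isPullback_fiber gY (σ s')) ‹_›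
  exact (hP _ _ _ _ _ _ _ (isPullback_fiberBC hX s') (isPullback_fiberBC hY s')).symm

theorem indCons_locusPair_noetherian (hP : ConsPropPair.IsIndConsPair P) {X Y S : Scheme.{u}} (gX : X ⟶ S)
    (gY : Y ⟶ S) [IsNoetherian S] [LocallyOfFiniteType gX] [QuasiCompact gX] [LocallyOfFiniteType gY]
    [QuasiCompact gY] : ProCons.IsIndConstructible (ConsPropPair.locusPair P gX gY) := by
  refine indCons_of_closed_integral _ fun Z i _ _ hη => ?_
  have : IsNoetherian Z :=
    { toIsLocallyNoetherian := LocallyOfFiniteType.isLocallyNoetherian i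
      toCompactSpace := QuasiCompact.compactSpace_of_compactSpace i }
  rw [← locusPair_preimage hP.1 (IsPullback.of_hasPullback gX i) (IsPullback.of_hasPullback gY i)]
  refine hP.2 _ _ ?_
  rw [locusPair_preimage hP.1 (IsPullback.of_hasPullback gX i) (IsPullback.of_hasPullback gY i)]
  exact hη

theorem exists_model_pair {A : Type u} [CommRing A] {X Y : Scheme.{u}} (gX : X ⟶ Spec (CommRingCat.of A))
    (gY : Y ⟶ Spec (CommRingCat.of A)) [LocallyOfFinitePresentation gX] [QuasiCompact gX] [QuasiSeparated gX]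
    [LocallyOfFinitePresentation gY] [QuasiCompact gY] [QuasiSeparated gY] :
    ∃ (S₀ : Scheme.{u}) (σ : Spec (CommRingCat.of A) ⟶ S₀) (X₀ Y₀ : Scheme.{u}) (gX₀ : X₀ ⟶ S₀) (gY₀ : Y₀ ⟶ S₀)
      (qX : X ⟶ X₀) (qY : Y ⟶ Y₀), IsNoetherian S₀ ∧
      LocallyOfFinitePresentation gX₀ ∧ QuasiCompact gX₀ ∧ LocallyOfFinitePresentation gY₀ ∧ QuasiCompact gY₀ ∧
      IsPullback qX gX gX₀ σ ∧ IsPullback qY gY gY₀ σ := by
  open LimModel in
  haveI : IsCofiltered (FgSub A)ᵒᵖ := isCofiltered_op_of_isFiltered _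
  open LimModel in
  haveI : ∀ i : (FgSub A)ᵒᵖ, CompactSpace ((fgDiagram A).obj i) := fun i => inferInstance
  open LimModel in
  haveI : ∀ i : (FgSub A)ᵒᵖ, QuasiSeparatedSpace ((fgDiagram A).obj i) := fun i => inferInstance
  haveI : @LocallyOfFinitePresentation X (LimModel.fgCone A).pt gX := ‹LocallyOfFinitePresentation gX›
  haveI : @QuasiCompact X (LimModel.fgCone A).pt gX := ‹QuasiCompact gX›
  haveI : @QuasiSeparated X (LimModel.fgCone A).pt gX := ‹QuasiSeparated gX›
  haveI : @LocallyOfFinitePresentation Y (LimModel.fgCone A).pt gY := ‹LocallyOfFinitePresentation gY›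
  haveI : @QuasiCompact Y (LimModel.fgCone A).pt gY := ‹QuasiCompact gY›
  haveI : @QuasiSeparated Y (LimModel.fgCone A).pt gY := ‹QuasiSeparated gY›
  obtain ⟨i, Xi, ai, qi, ha1, ha2, -, hXi⟩ := LimModel.exists_model (LimModel.fgDiagram A) (LimModel.fgCone A)
    (LimModel.fgIsLimit A) (a := (gX : X ⟶ (LimModel.fgCone A).pt))
  obtain ⟨i', Yi, bi, qi', hb1, hb2, -, hYi⟩ := LimModel.exists_model (LimModel.fgDiagram A) (LimModel.fgCone A)
    (LimModel.fgIsLimit A) (a := (gY : Y ⟶ (LimModel.fgCone A).pt))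
  obtain ⟨k, e, e', -⟩ := IsCofilteredOrEmpty.cone_objs i i'
  obtain ⟨qX, hX⟩ := exists_model_over (LimModel.fgDiagram A) (LimModel.fgCone A) e hXi
  obtain ⟨qY, hY⟩ := exists_model_over (LimModel.fgDiagram A) (LimModel.fgCone A) e' hYi
  have hn : IsNoetherianRing ↥(k.unop.1 : Subalgebra ℤ A) := by
    haveI : Algebra.FiniteType ℤ ↥(k.unop.1 : Subalgebra ℤ A) := (Subalgebra.fg_iff_finiteType _).mp k.unop.2
    exact Algebra.FiniteType.isNoetherianRing ℤ _
  have hN : IsNoetherian ((LimModel.fgDiagram A).obj k) :=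
    inferInstanceAs (IsNoetherian (Spec (CommRingCat.of ↥(k.unop.1 : Subalgebra ℤ A))))
  exact ⟨_, (LimModel.fgCone A).π.app k, _, _, _, _, qX, qY, hN, inferInstance, inferInstance, inferInstance,
    inferInstance, hX, hY⟩

theorem indCons_locusPair (hP : ConsPropPair.IsIndConsPair P) {X Y S : Scheme.{u}} (gX : X ⟶ S) (gY : Y ⟶ S)
    [LocallyOfFinitePresentation gX] [QuasiCompact gX] [QuasiSeparated gX]
    [LocallyOfFinitePresentation gY] [QuasiCompact gY] [QuasiSeparated gY] :
    ProCons.IsIndConstructible (ConsPropPair.locusPair P gX gY) := by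
  refine indCons_of_affine _ fun W hW => ?_
  let ψ : Spec Γ(S, W) ⟶ S := hW.isoSpec.inv ≫ W.ι
  obtain ⟨S₀, σ, X₀, Y₀, gX₀, gY₀, qX, qY, _, _, _, _, _, hX, hY⟩ :=
    exists_model_pair (pullback.snd gX ψ) (pullback.snd gY ψ)
  have h := indCons_preimage σ (indCons_locusPair_noetherian hP gX₀ gY₀)
  rw [← locusPair_preimage hP.1 hX hY,
    locusPair_preimage hP.1 (IsPullback.of_hasPullback gX ψ) (IsPullback.of_hasPullback gY ψ)] at h
  convert indCons_preimage hW.isoSpec.hom h using 1
  ext w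
  simp [ψ, ← Scheme.Hom.comp_apply]

theorem isLocallyConstructible_locusPair (hP : ConsPropPair.IsConsPair P) {X Y S : Scheme.{u}} (gX : X ⟶ S)
    (gY : Y ⟶ S) [LocallyOfFinitePresentation gX] [QuasiCompact gX] [QuasiSeparated gX]
    [LocallyOfFinitePresentation gY] [QuasiCompact gY] [QuasiSeparated gY] :
    Topology.IsLocallyConstructible (ConsPropPair.locusPair P gX gY) := by
  have h1 : ConsPropPair.IsIndConsPair P :=
    ⟨hP.1, fun X Y S u v _ _ _ _ _ _ hη => (hP.2 u v).resolve_right fun ⟨z, hz⟩ =>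
      interior_subset (((genericPoint_spec S).specializes trivial).mem_open isOpen_interior hz) hη⟩
  have h2 : ConsPropPair.IsIndConsPair (fun X Y T u v => ¬ P u v) := by
    refine ⟨?_, fun X Y S u v _ _ _ _ _ _ hη => (hP.2 u v).resolve_left fun ⟨z, hz⟩ => ?_⟩
    · intro X X' Y Y' T T' u v u' v' eX eY h _ _ _ _ _ _ _ _ hX hY
      exact not_congr (hP.1 u v u' v' eX eY h hX hY)
    · exact hη (interior_subset (s := ConsPropPair.locusPair P u v)
        (((genericPoint_spec S).specializes trivial).mem_open isOpen_interior hz))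
  exact isLocallyConstructible_of_indCons (indCons_locusPair h1 gX gY) (indCons_locusPair h2 gX gY)

end Groth.Agent.ConsEngine
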