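import Groth.Agent.ConsEngine.Core
import Groth.Agent.ConsEngine.Pair
import Groth.Agent.LimMore.Hom

/-!
"After some extension of the field there is a morphism with property `R`" is ind-constructible.
-/

set_option autoImplicit false
set_option linter.style.haveILetI false
set_option linter.unusedVariables false
universe u
open CategoryTheory CategoryTheory.Limits AlgebraicGeometry

namespace Groth.Agent.ConsEngine

/-- the relation -/
def ExistsRel (R : MorphismProperty Scheme.{u}) : ∀ ⦃X Y T : Scheme.{u}⦄, (X ⟶ T) → (Y ⟶ T) → Prop :=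
  fun X Y T gX gY => ∃ (T' X' Y' : Scheme.{u}) (h : T' ⟶ T) (gX' : X' ⟶ T') (gY' : Y' ⟶ T')
    (eX : X' ⟶ X) (eY : Y' ⟶ Y), IsIntegral T' ∧ Subsingleton ↥T' ∧
      IsPullback eX gX' gX h ∧ IsPullback eY gY' gY h ∧ ∃ g : X' ⟶ Y', g ≫ gY' = gX' ∧ R g

theorem exists_isPullback_lift {X X' T T' T'' : Scheme.{u}} {g : X ⟶ T} {g' : X' ⟶ T'} {e : X' ⟶ X} {h : T' ⟶ T}
    (sq : IsPullback e g' g h) (k : T'' ⟶ T') {X'' : Scheme.{u}} {a : X'' ⟶ X} {b : X'' ⟶ T''}
    (big : IsPullback a b g (k ≫ h)) : ∃ l : X'' ⟶ X', l ≫ e = a ∧ IsPullback l b g' k := by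
  refine ⟨sq.lift a (b ≫ k) (by rw [Category.assoc, big.w]), sq.lift_fst _ _ _, ?_⟩
  refine IsPullback.of_right ?_ (sq.lift_snd _ _ _) sq
  rw [sq.lift_fst]
  exact big

theorem baseChange_witness {R : MorphismProperty Scheme.{u}} [R.IsStableUnderBaseChange] {X Y T T'' : Scheme.{u}}
    (gX : X ⟶ T) (gY : Y ⟶ T) (g : X ⟶ Y) (hg : g ≫ gY = gX) (hR : R g) (k : T'' ⟶ T) :
    ∃ g'' : pullback gX k ⟶ pullback gY k, g'' ≫ pullback.snd gY k = pullback.snd gX k ∧
      IsPullback (pullback.fst gX k) g'' g (pullback.fst gY k) ∧ R g'' := by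
  let g'' : pullback gX k ⟶ pullback gY k := pullback.lift (pullback.fst gX k ≫ g) (pullback.snd gX k)
    (by rw [Category.assoc, hg, pullback.condition])
  have e : g'' ≫ pullback.snd gY k = pullback.snd gX k := pullback.lift_snd _ _ _
  have sq : IsPullback (pullback.fst gX k) g'' g (pullback.fst gY k) := by
    refine IsPullback.of_bot ?_ (pullback.lift_fst _ _ _).symm (IsPullback.of_hasPullback gY k)
    rw [e, hg]
    exact IsPullback.of_hasPullback gX k
  exact ⟨g'', e, sq, R.of_isPullback sq hR⟩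

theorem isFieldStablePair_existsRel (R : MorphismProperty Scheme.{u}) [R.IsStableUnderBaseChange] :
    ConsPropPair.IsFieldStablePair (ExistsRel R) := by
  intro X X₁ Y Y₁ T T₁ gX gY gX₁ gY₁ eX eY h _ _ _ _ _ _ _ _ hX hY
  constructor
  · rintro ⟨T', X', Y', k, gX', gY', aX, aY, hi, hs, hX', hY', g, hg, hR⟩
    obtain ⟨p, -, -⟩ := Scheme.Pullback.exists_preimage_pullback (f := k) (g := h) (Classical.arbitrary T')
      (Classical.arbitrary T₁) (Subsingleton.elim _ _)
    let ι := (pullback k h).fromSpecResidueField p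
    let a := ι ≫ pullback.fst k h
    let b := ι ≫ pullback.snd k h
    have hab : a ≫ k = b ≫ h := by simp [a, b, pullback.condition]
    obtain ⟨g'', hg'', -, hR''⟩ := baseChange_witness gX' gY' g hg hR a
    have bigX := (IsPullback.of_hasPullback gX' a).paste_horiz hX'
    have bigY := (IsPullback.of_hasPullback gY' a).paste_horiz hY'
    rw [hab] at bigX bigY
    obtain ⟨lX, -, sX⟩ := exists_isPullback_lift hX b bigX
    obtain ⟨lY, -, sY⟩ := exists_isPullback_lift hY b bigY
    exact ⟨_, _, _, b, _, _, lX, lY, inferInstance, inferInstance, sX, sY, g'', hg'', hR''⟩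
  · rintro ⟨T', X', Y', k, gX', gY', aX, aY, hi, hs, hX', hY', hg⟩
    exact ⟨T', X', Y', k ≫ h, gX', gY', aX ≫ eX, aY ≫ eY, hi, hs, hX'.paste_horiz hX, hY'.paste_horiz hY, hg⟩

theorem isIndConsPair_existsRel (R : MorphismProperty Scheme.{u}) [R.IsStableUnderBaseChange]
    (hR : ConsProp.IsIndConsMor (fun X Y T f g => R f)) : ConsPropPair.IsIndConsPair (ExistsRel R) := by
  refine ⟨isFieldStablePair_existsRel R, fun X Y S u v _ _ _ _ _ _ hη => ?_⟩
  obtain ⟨T', X', Y', h, gX', gY', aX, aY, hi, hsub, hX', hY', g, hg, hRg⟩ := hη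
  haveI := hi
  haveI := hsub
  obtain ⟨V, hV, hηV, -⟩ := exists_isAffineOpen_mem_and_subset (U := (⊤ : S.Opens)) (x := genericPoint S) trivial
  haveI : Nonempty V := ⟨⟨_, hηV⟩⟩
  haveI : IsDomain Γ(S, V) := IsIntegral.component_integral V
  haveI : IsNoetherianRing Γ(S, V) := IsLocallyNoetherian.component_noetherian ⟨V, hV⟩
  let A := Γ(S, V)
  let K := Γ(T', ⊤)
  letI : Field K := (isField_of_isIntegral_of_subsingleton T').toField
  let ψ : Spec K ⟶ S := T'.isoSpec.inv ≫ h ≫ S.fromSpecResidueField (genericPoint S)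
  have hψη : ∀ p, ψ p = genericPoint S := fun p => by
    simp only [ψ, Scheme.Hom.comp_apply]
    exact Scheme.fromSpecResidueField_apply _ _
  have hψr : Set.range ψ ⊆ Set.range hV.fromSpec := by
    rintro _ ⟨p, rfl⟩
    rw [hψη, hV.range_fromSpec]
    exact hηV
  letI : Algebra A K := (Spec.preimage (IsOpenImmersion.lift hV.fromSpec ψ hψr)).hom.toAlgebra
  have hψA : Spec.map (CommRingCat.ofHom (algebraMap A K)) ≫ hV.fromSpec = ψ := by
    show Spec.map (Spec.preimage _) ≫ hV.fromSpec = ψ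
    rw [Spec.map_preimage, IsOpenImmersion.lift_fac]
  haveI : IsCofiltered (FgOver A K)ᵒᵖ := isCofiltered_op_of_isFiltered _
  let D := fgOverDiagram A K
  let c := fgOverCone A K
  let i₀ : (FgOver A K)ᵒᵖ := Opposite.op ⟨⊥, Subalgebra.fg_bot⟩
  let m : ∀ j : (FgOver A K)ᵒᵖ, D.obj j ⟶ S :=
    fun j => Spec.map (CommRingCat.ofHom (algebraMap A j.unop.1)) ≫ hV.fromSpec
  have hm : ∀ (j k : (FgOver A K)ᵒᵖ) (e : j ⟶ k), D.map e ≫ m k = m j := fun j k e => by
    show Spec.map _ ≫ Spec.map _ ≫ hV.fromSpec = Spec.map _ ≫ hV.fromSpec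
    rw [← Spec.map_comp_assoc]
    rfl
  have hπ : c.π.app i₀ ≫ m i₀ = ψ := by
    rw [← hψA]
    show Spec.map _ ≫ Spec.map _ ≫ hV.fromSpec = Spec.map _ ≫ hV.fromSpec
    rw [← Spec.map_comp_assoc]
    rfl
  haveI : IsAffine (D.obj i₀) := inferInstanceAs (IsAffine (Spec _))
  let a₀ := pullback.snd u (m i₀)
  let b₀ := pullback.snd v (m i₀)
  -- the witness over `Spec K`
  obtain ⟨g₁, hg₁, -, hR₁⟩ := baseChange_witness gX' gY' g hg hRg T'.isoSpec.inv
  have bigX := ((IsPullback.of_hasPullback gX' T'.isoSpec.inv).paste_horiz hX').paste_horiz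
    (isPullback_fiber u (genericPoint S))
  have bigY := ((IsPullback.of_hasPullback gY' T'.isoSpec.inv).paste_horiz hY').paste_horiz
    (isPullback_fiber v (genericPoint S))
  simp only [Category.assoc] at bigX bigY
  change IsPullback _ _ u ψ at bigX
  change IsPullback _ _ v ψ at bigY
  obtain ⟨lX, -, sX⟩ := exists_isPullback_lift (T'' := Spec K) (IsPullback.of_hasPullback u (m i₀)) (c.π.app i₀)
    (b := pullback.snd gX' T'.isoSpec.inv) (hπ.symm ▸ bigX)
  obtain ⟨lY, -, sY⟩ := exists_isPullback_lift (T'' := Spec K) (IsPullback.of_hasPullback v (m i₀)) (c.π.app i₀)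
    (b := pullback.snd gY' T'.isoSpec.inv) (hπ.symm ▸ bigY)
  haveI : IsLocallyNoetherian X := LocallyOfFiniteType.isLocallyNoetherian u
  haveI : IsLocallyNoetherian Y := LocallyOfFiniteType.isLocallyNoetherian v
  haveI : LocallyOfFinitePresentation b₀ :=
    MorphismProperty.of_isPullback (P := @LocallyOfFinitePresentation) (IsPullback.of_hasPullback v (m i₀)) (lfp_of_lft v)
  haveI : CompactSpace ↥(pullback u (m i₀)) := QuasiCompact.compactSpace_of_compactSpace a₀
  haveI : QuasiSeparated a₀ :=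
    MorphismProperty.of_isPullback (P := @QuasiSeparated) (IsPullback.of_hasPullback u (m i₀)) inferInstance
  haveI : QuasiSeparatedSpace ↥(pullback u (m i₀)) := quasiSeparatedSpace_of_quasiSeparated a₀
  obtain ⟨j, fj, hfj, hfj'⟩ := LimMore.exists_hom D c (fgOverIsLimit A K) a₀ b₀ sX sY g₁ hg₁
  have hYj := LimDesc.isPullback_proj D b₀ c sY j
  have hXj := LimDesc.isPullback_proj D a₀ c sX j
  have hfX : IsPullback (LimDesc.proj D a₀ c sX j) g₁ fj (LimDesc.proj D b₀ c sY j) := by
    refine IsPullback.of_bot ?_ hfj' hYj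
    rw [hfj]
    exact hg₁.symm ▸ hXj
  haveI : IsNoetherianRing ↥(j.left.unop.1 : Subalgebra A K) := by
    haveI : Algebra.FiniteType A ↥(j.left.unop.1 : Subalgebra A K) := (Subalgebra.fg_iff_finiteType _).mp j.left.unop.2
    exact Algebra.FiniteType.isNoetherianRing A _
  haveI : IsNoetherian (D.obj j.left) :=
    inferInstanceAs (IsNoetherian (Spec (CommRingCat.of ↥(j.left.unop.1 : Subalgebra A K))))
  haveI : IsIntegral (D.obj j.left) :=
    inferInstanceAs (IsIntegral (Spec (CommRingCat.of ↥(j.left.unop.1 : Subalgebra A K))))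
  haveI : LocallyOfFiniteType (m j.left) := by
    haveI : Algebra.FiniteType A ↥(j.left.unop.1 : Subalgebra A K) := (Subalgebra.fg_iff_finiteType _).mp j.left.unop.2
    haveI : LocallyOfFiniteType (Spec.map (CommRingCat.ofHom (algebraMap A ↥(j.left.unop.1 : Subalgebra A K)))) :=
      (HasRingHomProperty.Spec_iff (P := @LocallyOfFiniteType)).mpr (RingHom.finiteType_algebraMap.mpr inferInstance)
    exact MorphismProperty.comp_mem @LocallyOfFiniteType
      (Spec.map (CommRingCat.ofHom (algebraMap A ↥(j.left.unop.1 : Subalgebra A K)))) hV.fromSpec ‹_› inferInstance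
  haveI : CompactSpace (D.obj j.left) := inferInstance
  haveI : QuasiCompact (m j.left) := inferInstance
  have hXs := (LimDesc.isPullback_stage D a₀ j).paste_horiz (IsPullback.of_hasPullback u (m i₀))
  have hYs := (LimDesc.isPullback_stage D b₀ j).paste_horiz (IsPullback.of_hasPullback v (m i₀))
  rw [hm] at hXs hYs
  rw [← hfj] at hXs
  haveI : LocallyOfFiniteType (LimDesc.toStage D b₀ j) :=
    MorphismProperty.of_isPullback (P := @LocallyOfFiniteType) hYs ‹_›
  haveI : QuasiCompact (LimDesc.toStage D b₀ j) := MorphismProperty.of_isPullback (P := @QuasiCompact) hYs ‹_›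
  haveI : LocallyOfFiniteType (fj ≫ LimDesc.toStage D b₀ j) :=
    MorphismProperty.of_isPullback (P := @LocallyOfFiniteType) hXs ‹_›
  haveI : QuasiCompact (fj ≫ LimDesc.toStage D b₀ j) := MorphismProperty.of_isPullback (P := @QuasiCompact) hXs ‹_›
  let t : Spec K := (⟨⊥, Ideal.isPrime_bot⟩ : PrimeSpectrum K)
  have hgen : c.π.app j.left t = genericPoint (D.obj j.left) := by
    refine ((genericPoint_spec (D.obj j.left)).eq ?_).symm
    rw [isGenericPoint_iff_specializes]
    refine fun p => ⟨fun _ => trivial, fun _ => ?_⟩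
    refine (PrimeSpectrum.le_iff_specializes (R := ↥(j.left.unop.1 : Subalgebra A K)) _ p).mp ?_
    intro a ha
    have h0 : algebraMap ↥(j.left.unop.1 : Subalgebra A K) K a ∈ (⊥ : Ideal K) := ha
    rw [Ideal.mem_bot] at h0
    have : a = 0 := Subtype.ext h0
    rw [this]
    exact zero_mem _
  have hmem : genericPoint (D.obj j.left) ∈
      ConsProp.locusMor (fun X Y T f g => R f) fj (LimDesc.toStage D b₀ j) := by
    rw [← hgen]
    exact (mem_locusMor_iff hR.1 hYj hfX t).mp (R.of_isPullback (isPullback_fiberMap g₁ _ t) hR₁)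
  obtain ⟨z, hz⟩ := hR.2 fj (LimDesc.toStage D b₀ j) hmem
  have hηim : genericPoint S ∈ m j.left '' interior (ConsProp.locusMor (fun X Y T f g => R f) fj (LimDesc.toStage D b₀ j)) := by
    refine ⟨genericPoint (D.obj j.left),
      ((genericPoint_spec (D.obj j.left)).specializes trivial).mem_open isOpen_interior hz, ?_⟩
    rw [← hgen, ← hψη t, ← hπ, ← hm j.left i₀ j.hom, ← Scheme.Hom.comp_apply, ← Category.assoc, c.w]
    rfl
  have hOc : Topology.IsLocallyConstructible
      (interior (ConsProp.locusMor (fun X Y T f g => R f) fj (LimDesc.toStage D b₀ j))) := by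
    simpa using ConsTop.isLocallyConstructible_compl
      (isLocallyConstructible_of_isClosed isOpen_interior.isClosed_compl)
  haveI := lfp_of_lft (m j.left)
  obtain ⟨w, hw⟩ := interior_nonempty_of_indCons
    (indCons_of_isLocallyConstructible ((m j.left).isLocallyConstructible_image hOc)).1 hηim
  refine ⟨w, interior_mono ?_ hw⟩
  rintro _ ⟨b, hb, rfl⟩
  exact ⟨_, _, _, Spec.map ((m j.left).residueFieldMap b), _, _, fiberBC hXs b, fiberBC hYs b, inferInstance,
    inferInstance, isPullback_fiberBC hXs b, isPullback_fiberBC hYs b, MoreMor.fiberMap fj (LimDesc.toStage D b₀ j) b,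
    fiberMap_toSpec _ _ _, interior_subset (s := ConsProp.locusMor (fun X Y T f g => R f) fj (LimDesc.toStage D b₀ j)) hb⟩

end Groth.Agent.ConsEngine
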