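import Groth.Agent.ConsEngine.Core
import Groth.Agent.FibreFlat.PointCrit
import Groth.Agent.FpqcDescent.Props
import Groth.Agent.FpqcDescent.Sep
import Groth.Agent.FpqcDescent.Affine
import Groth.Agent.S0414

/-!
Constructibility of: quasi-finite, flat, monomorphism, open immersion.
-/

set_option autoImplicit false
set_option linter.style.haveILetI false
set_option linter.unusedVariables false
universe u
open CategoryTheory CategoryTheory.Limits AlgebraicGeometry

namespace Groth.Agent.ConsEngine

theorem lqf_fiber_iff {X S : Scheme.{u}} (u : X ⟶ S) [LocallyOfFiniteType u] (s : S) :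
    LocallyQuasiFinite (u.fiberToSpecResidueField s) ↔ ∀ x, u x = s → u.QuasiFiniteAt x := by
  haveI : LocallyOfFiniteType (u.fiberToSpecResidueField s) :=
    MorphismProperty.of_isPullback (P := @LocallyOfFiniteType) (isPullback_fiber u s) ‹_›
  rw [locallyQuasiFinite_iff_isDiscrete_preimage_singleton]
  constructor
  · intro h x hx
    subst hx
    haveI : DiscreteTopology (u.fiber (u x)) := by
      have h' := h default
      rw [show (u.fiberToSpecResidueField (u x)) ⁻¹' {default} = Set.univ from
        Set.eq_univ_of_forall fun p => Subsingleton.elim _ _] at h'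
      exact isDiscrete_univ_iff.mp h'
    exact Scheme.Hom.quasiFiniteAt_iff_isOpen_singleton_asFiber.mpr (isOpen_discrete _)
  · intro h t
    have : DiscreteTopology (u.fiber s) := by
      rw [discreteTopology_iff_isOpen_singleton]
      intro p
      have hp : u (u.fiberι s p) = s := by
        rw [← Scheme.Hom.comp_apply]
        erw [(isPullback_fiber u s).w]
        rw [Scheme.Hom.comp_apply]
        exact Scheme.fromSpecResidueField_apply s _
      have h1 := Scheme.Hom.quasiFiniteAt_iff_isOpen_singleton_asFiber.mp (h _ hp)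
      obtain ⟨x, rfl⟩ : ∃ q, (u.fiberHomeo s).symm q = p := (u.fiberHomeo s).symm.surjective p
      obtain ⟨x, hx⟩ := x
      subst hx
      have e : u.fiberι (u x) ((u.fiberHomeo (u x)).symm ⟨x, rfl⟩) = x := u.fiberι_fiberHomeo_symm _ _
      rw [e] at h1
      exact h1
    exact IsDiscrete.mono (isDiscrete_univ_iff.mpr this) (Set.subset_univ _)

theorem isCons_lqf : ConsProp.IsCons.{u} (fun Y T g => LocallyQuasiFinite g) := by
  refine ⟨?_, fun X S u _ _ _ _ => ?_⟩
  · intro Y Y' T T' g g' e h _ _ _ _ _ _ hsq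
    refine ⟨fun hg => MorphismProperty.of_isPullback (P := @LocallyQuasiFinite) hsq hg, fun hg => ?_⟩
    haveI := hg
    obtain ⟨h1, _, _⟩ := surjective_flat_qc h
    haveI : QuasiCompact g' := MorphismProperty.of_isPullback (P := @QuasiCompact) hsq ‹_›
    haveI : Surjective e := MorphismProperty.of_isPullback (P := @Surjective) hsq.flip h1
    have hfin : (Set.univ : Set Y').Finite := by
      have h2 := g'.finite_preimage_singleton (Classical.arbitrary T')
      rwa [show g' ⁻¹' {Classical.arbitrary T'} = Set.univ from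
        Set.eq_univ_of_forall fun p => Subsingleton.elim _ _] at h2
    refine locallyQuasiFinite_iff_finite_preimage_singleton.mpr fun t => Set.Finite.subset ?_ (Set.subset_univ _)
    have := hfin.image e
    rwa [Set.image_univ, e.surjective.range_eq] at this
  · refine interior_or_of_agree (C := (u '' (u.quasiFiniteLocus : Set X)ᶜ)ᶜ) ?_ ⊤ ⟨genericPoint S, trivial⟩ fun s _ => ?_
    · haveI := LocallyOfFiniteType.isLocallyNoetherian u
      haveI := lfp_of_lft u
      exact ConsTop.isLocallyConstructible_compl (u.isLocallyConstructible_image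
        (isLocallyConstructible_of_isClosed u.quasiFiniteLocus.2.isClosed_compl))
    · show LocallyQuasiFinite _ ↔ _
      rw [lqf_fiber_iff]
      exact ⟨fun h ⟨x, hx, hxs⟩ => hx (h x hxs), fun h x hxs => by_contra fun hn => h ⟨x, hn, hxs⟩⟩

theorem isConsMor_lqf : ConsProp.IsConsMor.{u} (fun X Y T f g => LocallyQuasiFinite f) :=
  IsConsMor.congr' (isConsMor_forall isCons_lqf) fun f g _ _ _ _ _ _ => by
    obtain ⟨_, _⟩ := qc_lft_of_comp f g
    exact ⟨fun h => .of_fiberToSpecResidueField f h, fun h y =>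
      MorphismProperty.of_isPullback (P := @LocallyQuasiFinite) (isPullback_fiber f y) h⟩

theorem isConsMor_flat : ConsProp.IsConsMor.{u} (fun X Y T f g => Flat f) := by
  have hP := isFieldStableMor_of_descends.{u} @Flat
  refine ⟨hP, fun X Y S f g _ _ _ _ _ _ => ?_⟩
  obtain ⟨U, hU, hflat, -⟩ := S0414.result (f ≫ g)
  refine interior_or_of_restrict hP f g U (hU.nonempty) fun f' g' _ _ _ _ _ _ eX eY hY hX => ?_
  obtain ⟨_, _⟩ := qc_lft_of_comp f' g'
  haveI : IsLocallyNoetherian _ := LocallyOfFiniteType.isLocallyNoetherian g'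
  haveI : IsLocallyNoetherian _ := LocallyOfFiniteType.isLocallyNoetherian (f' ≫ g')
  haveI := lfp_of_lft f'
  haveI := lfp_of_lft (f' ≫ g')
  haveI : Flat (f' ≫ g') := by
    have h1 : IsPullback eX (f' ≫ g') (f ≫ g) U.ι := hX.paste_vert hY
    have h2 : IsPullback ((f ≫ g) ⁻¹ᵁ U).ι ((f ≫ g) ∣_ U) (f ≫ g) U.ι := (isPullback_morphismRestrict (f ≫ g) U).flip
    rw [← h1.isoIsPullback_hom_snd _ _ h2]
    exact MorphismProperty.comp_mem _ _ _ inferInstance hflat
  refine interior_or_of_agree (C := ((f' ≫ g') '' (FibreFlat.flatOpen f' : Set _)ᶜ)ᶜ) ?_ ⊤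
    ⟨genericPoint _, trivial⟩ fun s _ => ?_
  · exact ConsTop.isLocallyConstructible_compl ((f' ≫ g').isLocallyConstructible_image
      (isLocallyConstructible_of_isClosed (FibreFlat.flatOpen f').2.isClosed_compl))
  · refine ⟨fun h ⟨x, hx, hxs⟩ => hx ?_, fun h => Flat.of_stalkMap _ fun p => ?_⟩
    · haveI : Flat (MoreMor.fiberMap f' g' s) := h
      obtain ⟨p, rfl⟩ : x ∈ Set.range ((f' ≫ g').fiberι s) := by rw [(f' ≫ g').range_fiberι]; exact hxs
      exact FibreFlat.flatAt_of_baseChange (isPullback_fiber g' s) (isPullback_fiberMap f' g' s)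
        (FibreFlat.flatAt_of_flat _ p)
    · refine FibreFlat.flatAt_of_isPullback (isPullback_fiberMap f' g' s) (by_contra fun hn => h ⟨_, hn, ?_⟩)
      have : (f' ≫ g').fiberι s p ∈ (f' ≫ g') ⁻¹' {s} := by rw [← (f' ≫ g').range_fiberι]; exact ⟨p, rfl⟩
      exact this

theorem mono_iff_diagonal {X Y : Scheme.{u}} (f : X ⟶ Y) [IsLocallyNoetherian Y] [LocallyOfFiniteType f] :
    Surjective (pullback.diagonal f) ∧ Flat (pullback.diagonal f) ↔ Mono f := by
  rw [← pullback.isIso_diagonal_iff]
  refine ⟨fun ⟨h1, h2⟩ => ?_, fun _ => ⟨inferInstance, inferInstance⟩⟩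
  haveI : IsLocallyNoetherian (pullback f f) := LocallyOfFiniteType.isLocallyNoetherian (pullback.fst f f ≫ f)
  haveI : LocallyOfFiniteType (pullback.diagonal f ≫ pullback.fst f f) := by
    rw [pullback.diagonal_fst]; infer_instance
  haveI : LocallyOfFiniteType (pullback.diagonal f) := locallyOfFiniteType_of_comp _ (pullback.fst f f)
  haveI := lfp_of_lft (pullback.diagonal f)
  haveI := IsOpenImmersion.of_flat_of_mono (pullback.diagonal f)
  exact (isIso_iff_isOpenImmersion_and_epi_base (pullback.diagonal f)).mpr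
    ⟨inferInstance, (TopCat.epi_iff_surjective _).mpr (pullback.diagonal f).surjective⟩

theorem isConsMor_mono : ConsProp.IsConsMor.{u} (fun X Y T f g => Mono f) :=
  IsConsMor.congr' (isConsMor_diagonal (IsConsMor.and isConsMor_surjective isConsMor_flat)) fun f g _ _ _ _ _ _ => by
    obtain ⟨_, _⟩ := qc_lft_of_comp f g
    haveI := LocallyOfFiniteType.isLocallyNoetherian g
    exact mono_iff_diagonal f

theorem isConsMor_isOpenImmersion : ConsProp.IsConsMor.{u} (fun X Y T f g => IsOpenImmersion f) :=
  IsConsMor.congr' (IsConsMor.and isConsMor_mono isConsMor_flat) fun f g _ _ _ _ _ _ => by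
    obtain ⟨_, _⟩ := qc_lft_of_comp f g
    haveI := LocallyOfFiniteType.isLocallyNoetherian g
    haveI := lfp_of_lft f
    exact ⟨fun ⟨h1, h2⟩ => IsOpenImmersion.of_flat_of_mono f, fun _ => ⟨inferInstance, inferInstance⟩⟩

theorem isConsMor_isIso : ConsProp.IsConsMor.{u} (fun X Y T f g => IsIso f) :=
  IsConsMor.congr' (IsConsMor.and isConsMor_surjective isConsMor_isOpenImmersion) fun f g _ _ _ _ _ _ =>
    ⟨fun ⟨h1, h2⟩ => (isIso_iff_isOpenImmersion_and_epi_base f).mpr
      ⟨h2, (TopCat.epi_iff_surjective _).mpr f.surjective⟩, fun _ => ⟨inferInstance, inferInstance⟩⟩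

end Groth.Agent.ConsEngine
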