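import Groth.Agent.ConsEngine.Finite
import Groth.Agent.LimDesc.DescendQuasiAffine
import Groth.Agent.QA.Props
import Groth.Agent.S1127

/-!
Ind-constructibility of: quasi-affine.
-/

set_option autoImplicit false
set_option linter.style.haveILetI false
set_option linter.unusedVariables false
universe u
open CategoryTheory CategoryTheory.Limits AlgebraicGeometry

namespace Groth.Agent.ConsEngine

/-- quasi-affine morphisms -/
def qaffine : MorphismProperty Scheme.{u} := fun _ _ f => Mor2.IsQuasiAffine f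

theorem qaffine_stable : qaffine.{u}.IsStableUnderBaseChange := by
  refine ⟨fun {X Y Y' S} {f g f' g'} sq hg => ?_⟩
  have h : Mor2.IsQuasiAffine (pullback.snd g f) := QA.baseChange hg f
  have e : g' = sq.isoPullback.hom ≫ pullback.snd g f := (sq.isoPullback_hom_snd).symm
  haveI : QuasiCompact (pullback.snd g f) := h.1
  rw [e]
  generalize sq.isoPullback = e'
  refine ⟨inferInstance, fun V hV => ?_⟩
  haveI : Scheme.IsQuasiAffine (pullback.snd g f ⁻¹ᵁ V).toScheme := h.2 V hV
  have haff : IsAffineHom (e'.hom ∣_ (pullback.snd g f ⁻¹ᵁ V)) :=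
    MorphismProperty.of_isPullback (P := @IsAffineHom) (isPullback_morphismRestrict e'.hom _).flip inferInstance
  exact @Scheme.IsQuasiAffine.of_isAffineHom _ _ (e'.hom ∣_ (pullback.snd g f ⁻¹ᵁ V)) haff ‹_›

theorem isIndConsMor_isQuasiAffineHom :
    ConsProp.IsIndConsMor.{u} (fun X Y T f g => MoreMor.IsQuasiAffineHom f) := by
  haveI := qaffine_stable.{u}
  haveI : MorphismProperty.DescendsAlong qaffine.{u} (@Surjective ⊓ @Flat ⊓ @QuasiCompact) := S1127.result
  have hP := isFieldStableMor_of_descends qaffine.{u}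
  refine ⟨hP, fun X Y S f g _ _ _ _ _ _ hη => interior_of_generic qaffine hP ?_ f g hη⟩
  intro I _ _ D _ c hc i₀ _ X₀ Y₀ f₀ g₀ _ _ _ _ _ _ X Y f g qY qX hY hX hf
  exact LimDesc.exists_isQuasiAffine D c hc f₀ g₀ hY hX hf

end Groth.Agent.ConsEngine
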